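import Groth.Agent.AbVar.K525.AbsK
import Mathlib.CategoryTheory.Simple
import Mathlib.RingTheory.LittleWedderburn

/-!
# The inequality `#Hom(G, A) ≤ ord G` for all finite `G`
-/

set_option autoImplicit false

universe w v u

open CategoryTheory Limits ZeroObject K525.AbsOrd K525.AbsD K525.AbsK

namespace K525.AbsS

variable {C : Type u} [Category.{v} C] [Abelian C]
variable {A : C} {R : Type w} [CommRing R] (ρ : R ≃+* End A)

attribute [local instance] Abelian.hasFiniteBiproducts

/-- Finite subobjects of `A ⊞ A` are stable under `R`. -/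
def Stable2 (ord : C → ℕ) : Prop := ∀ (S : C) (i : S ⟶ A ⊞ A) [Mono i], ord S ≠ 0 → ∀ r : R, ∃ r' : S ⟶ S,
  i ≫ biprod.map (act ρ r) (act ρ r) = r' ≫ i

variable (A R) in
/-- The numerical and Gorenstein hypotheses at a prime number. -/
structure GorAt (ord : C → ℕ) (n : ℕ) : Prop where
  ne : ord (kernel (n • 𝟙 A)) ≠ 0
  card : ord (kernel (n • 𝟙 A)) ≤ Nat.card (R ⧸ Ideal.span {(n : R)})
  fin : Finite (R ⧸ Ideal.span {(n : R)})
  epi : Epi (n • 𝟙 A)
  frob : ∀ I I' : Ideal R, (n : R) ∈ I' → I' ≤ I →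
      (∀ r : R, (∀ x ∈ I', r * x ∈ Ideal.span {(n : R)}) → ∀ x ∈ I, r * x ∈ Ideal.span {(n : R)}) → I ≤ I'

variable {ord : C → ℕ} (h : IsOrd ord)
include h

theorem simple_le [IsNoetherianRing R] (hst : Stable2 ρ ord) (hg : ∀ ℓ : ℕ, ℓ.Prime → GorAt A R ord ℓ)
    (S : C) (hS : ord S ≠ 0) [Simple S] : Finite (S ⟶ A) ∧ Nat.card (S ⟶ A) ≤ ord S := by
  classical
  have hS0 : ¬ IsZero S := Simple.not_isZero S
  by_cases hz : ∀ φ : S ⟶ A, φ = 0
  · have : Subsingleton (S ⟶ A) := ⟨fun a b => by rw [hz a, hz b]⟩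
    refine ⟨inferInstance, ?_⟩
    rw [Nat.card_of_subsingleton (0 : S ⟶ A)]
    exact Nat.one_le_iff_ne_zero.2 hS
  · push Not at hz
    obtain ⟨i, hi⟩ := hz
    have himono : Mono i := mono_of_nonzero_from_simple hi
    obtain ⟨hDfin, hDcard⟩ := h.card_le_of_divisionRing hS hS0 (RingHom.id (End S))
    -- the action of `R` on `S`
    have key : ∀ φ : S ⟶ A, ∀ r : R, ∃ r' : S ⟶ S, i ≫ act ρ r = r' ≫ i ∧ φ ≫ act ρ r = r' ≫ φ := by
      intro φ r
      have hm : Mono (biprod.lift i φ) := by
        have : Mono (biprod.lift i φ ≫ biprod.fst) := by rw [biprod.lift_fst]; exact himono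
        exact mono_of_mono _ biprod.fst
      obtain ⟨r', hr'⟩ := hst S (biprod.lift i φ) hS r
      refine ⟨r', ?_, ?_⟩
      · have := congrArg (· ≫ biprod.fst) hr'
        simpa using this
      · have := congrArg (· ≫ biprod.snd) hr'
        simpa using this
    obtain ⟨f, hf⟩ := exists_stableHom ρ i (fun r => by
      obtain ⟨r', h1, -⟩ := key 0 r
      exact ⟨r', h1⟩)
    have hφ : ∀ φ : S ⟶ A, ∀ r : R, φ ≫ act ρ r = (f r : S ⟶ S) ≫ φ := by
      intro φ r
      obtain ⟨r', h1, h2⟩ := key φ r
      have : r' = f r := by rw [← cancel_mono i, ← h1, hf]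
      rw [h2, this]
    let q : Ideal R := RingHom.ker f
    have hqdom : q.IsPrime := RingHom.ker_isPrime f
    have hinj : Function.Injective (RingHom.kerLift f) := RingHom.kerLift_injective f
    have hqfin : Finite (R ⧸ q) := Finite.of_injective _ hinj
    have hqmax : q.IsMaximal := by
      have : IsDomain (R ⧸ q) := (Ideal.Quotient.isDomain_iff_prime q).2 hqdom
      exact Ideal.Quotient.maximal_of_isField q (Finite.isField_of_domain (R ⧸ q))
    -- the characteristic
    obtain ⟨ℓ, hℓp, hℓ⟩ : ∃ ℓ : ℕ, ℓ.Prime ∧ (ℓ : R) ∈ q := by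
      obtain ⟨ℓ, hℓ⟩ := CharP.exists (End S)
      have hpr : ℓ.Prime := by
        rcases CharP.char_is_prime_or_zero (End S) ℓ with h1 | h1
        · exact h1
        · subst h1
          have : CharZero (End S) := CharP.charP_to_charZero (End S)
          exact absurd hDfin (not_finite_iff_infinite.2 (Infinite.of_injective (Nat.cast : ℕ → End S) Nat.cast_injective))
      refine ⟨ℓ, hpr, ?_⟩
      rw [RingHom.mem_ker, map_natCast]
      exact CharP.cast_eq_zero (End S) ℓ
    have g := hg ℓ hℓp
    obtain ⟨K, κ, hκ⟩ := exists_isKer ρ q (IsNoetherian.noetherian q)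
    have hκm := hκ.mono
    obtain ⟨hK0, hKle⟩ := ord_isKer_le ρ h ℓ g.ne g.card g.fin g.epi g.frob q hℓ κ hκ
    have hle : Nat.card (R ⧸ q) ≤ ord S := card_quot_le h hS hS0 f q hqmax (fun r hr => hr)
    obtain ⟨t, ht⟩ := hκ.lift i (fun r hr => by
      rw [hf, (show f r = 0 from hr)]
      exact zero_comp)
    have htm : Mono t := by
      have : Mono (t ≫ κ) := by rw [ht]; exact himono
      exact mono_of_mono _ κ
    have htiso : IsIso t := h.isIso_of_mono t hK0 (hKle.trans hle)
    -- all morphisms factor through `i`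
    have hfac : ∀ φ : S ⟶ A, ∃ d : End S, (d : S ⟶ S) ≫ i = φ := by
      intro φ
      obtain ⟨t', ht'⟩ := hκ.lift φ (fun r hr => by
        rw [hφ, (show f r = 0 from hr)]
        exact zero_comp)
      refine ⟨t' ≫ inv t, ?_⟩
      rw [← ht, Category.assoc, IsIso.inv_hom_id_assoc, ht']
    have hsurj : Function.Surjective (fun d : End S => (d : S ⟶ S) ≫ i) := hfac
    exact ⟨Finite.of_surjective _ hsurj, (Nat.card_le_card_of_surjective _ hsurj).trans hDcard⟩

/-- **The inequality** `#Hom(G, A) ≤ ord G` for `G` finite. -/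
theorem d1 [IsNoetherianRing R] (hst : Stable2 ρ ord) (hg : ∀ ℓ : ℕ, ℓ.Prime → GorAt A R ord ℓ) : D1 ord A := by
  suffices H : ∀ n : ℕ, ∀ G : C, ord G = n → ord G ≠ 0 → Finite (G ⟶ A) ∧ Nat.card (G ⟶ A) ≤ ord G from
    fun G hG => H _ G rfl hG
  intro n
  induction n using Nat.strong_induction_on with
  | _ n ih =>
    intro G hn hG
    by_cases hz : IsZero G
    · have : Subsingleton (G ⟶ A) := ⟨fun a b => hz.eq_of_src a b⟩
      refine ⟨inferInstance, ?_⟩
      rw [Nat.card_of_subsingleton (0 : G ⟶ A)]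
      exact Nat.one_le_iff_ne_zero.2 hG
    · by_cases hs : Simple G
      · exact simple_le ρ h hst hg G hG
      · -- a proper subobject
        obtain ⟨G', i, hi, hne⟩ : ∃ (G' : C) (i : G' ⟶ G), Mono i ∧ ¬ (IsIso i ↔ i ≠ 0) := by
          by_contra hcon
          push Not at hcon
          refine hs ⟨fun {Y} f hf => ?_⟩
          have := hcon Y f hf
          tauto
        have hi0 : i ≠ 0 := by
          intro h0
          apply hne
          subst h0
          refine ⟨fun h1 => ?_, fun h1 => absurd rfl h1⟩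
          exfalso
          apply hz
          have : IsZero G := by
            rw [IsZero.iff_id_eq_zero]
            rw [← IsIso.inv_hom_id (0 : G' ⟶ G), comp_zero]
          exact this
        have hiso : ¬ IsIso i := fun h1 => hne ⟨fun _ => hi0, fun _ => h1⟩
        have hG' : ord G' ≠ 0 := h.ne_zero_of_mono i hG
        have hmul := h.mono i
        have hc0 : ord (cokernel i) ≠ 0 := fun h0 => hG (by rw [hmul, h0, mul_zero])
        have hG'1 : ord G' ≠ 1 := fun h1 => hi0 ((h.isZero _ h1).eq_zero_of_src i)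
        have hc1 : ord (cokernel i) ≠ 1 := fun h1 => hiso (h.isIso_of_cokernel i h1)
        have hlt1 : ord G' < n := by
          rw [← hn, hmul]
          exact (Nat.lt_mul_iff_one_lt_right (Nat.pos_of_ne_zero hG')).2 (by omega)
        have hlt2 : ord (cokernel i) < n := by
          rw [← hn, hmul]
          exact (Nat.lt_mul_iff_one_lt_left (Nat.pos_of_ne_zero hc0)).2 (by omega)
        obtain ⟨f1, c1⟩ := ih _ hlt1 G' rfl hG'
        obtain ⟨f3, c3⟩ := ih _ hlt2 (cokernel i) rfl hc0
        have hse : (ShortComplex.mk i (cokernel.π i) (cokernel.condition i)).ShortExact :=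
          { exact := ShortComplex.exact_cokernel i
            mono_f := hi
            epi_g := inferInstance }
        refine ⟨finite_of_exact _ hse A f1 f3, ?_⟩
        have hc := card_exact _ hse A
        have hr : Nat.card (Preadditive.leftComp A i).range ≤ Nat.card (G' ⟶ A) :=
          Nat.card_le_card_of_injective _ Subtype.val_injective
        calc Nat.card (G ⟶ A) = Nat.card (Preadditive.leftComp A i).range * Nat.card (cokernel i ⟶ A) := hc
          _ ≤ ord G' * ord (cokernel i) := Nat.mul_le_mul (hr.trans c1) c3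
          _ = ord G := hmul.symm

end K525.AbsS
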