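import Groth.Agent.AbVar.K525.OrdC
import Groth.Agent.AbVar.K525.AbsS
import Groth.Agent.AbVar.K520.Quot
import Groth.Agent.AbVar.K520.Frob
import Groth.Agent.S16846
import Groth.Agent.S0346
import Groth.Agent.S1842
import Groth.Agent.Sga7.H742.P1Dim

/-!
# Abelian varieties in the category of commutative algebraic groups
-/

set_option autoImplicit false

universe u

open CategoryTheory MonoidalCategory CartesianMonoidalCategory MonObj GrpObj AlgebraicGeometry Limits

namespace K525.AVC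

open K525.AlgC K525.OrdC K525.AbsOrd Groth.Agent.Sga3.H830.CommGrpProd

variable {k : Type u} [Field k]

/-- Abelian varieties among the commutative algebraic groups. -/
def IsAV (G : Alg k) : Prop := IsProper G.obj.X.hom ∧ GeometricallyIntegral G.obj.X.hom

/-- The algebraic group attached to a proper commutative group scheme. -/
def mk (A : Over (Spec (CommRingCat.of k))) [GrpObj A] [IsCommMonObj A] [IsProper A.hom] : Alg k :=
  ⟨CommGrp.mk A, (inferInstance : LocallyOfFiniteType A.hom), (inferInstance : QuasiCompact A.hom)⟩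

theorem isAV_mk (A : Over (Spec (CommRingCat.of k))) [GrpObj A] [IsCommMonObj A] [IsProper A.hom]
    [h : GeometricallyIntegral A.hom] : IsAV (mk A) := ⟨‹_›, h⟩

theorem isIso_und {G H : Alg k} (e : G ⟶ H) [IsIso e] : IsIso (und e) := by
  have e1 : und e ≫ und (inv e) = 𝟙 _ := by rw [← und_comp, IsIso.hom_inv_id]; rfl
  have e2 : und (inv e) ≫ und e = 𝟙 _ := by rw [← und_comp, IsIso.inv_hom_id]; rfl
  exact ⟨_, e1, e2⟩

theorem isIso_left {G H : Alg k} (e : G ⟶ H) [IsIso e] : IsIso (und e).left := by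
  have := isIso_und e
  exact inferInstanceAs (IsIso ((Over.forget _).map (und e)))

theorem IsAV.of_iso {G H : Alg k} (e : G ≅ H) (h : IsAV G) : IsAV H := by
  obtain ⟨h1, h2⟩ := h
  have h3 : (und e.inv).left ≫ G.obj.X.hom = H.obj.X.hom := Over.w _
  have h4 := isIso_left e.inv
  have h5 := isIso_left e.hom
  constructor
  · rw [← h3]; infer_instance
  · have h6 : GeometricallyIntegral ((und e.hom).left ≫ H.obj.X.hom) := by rw [Over.w]; exact h2
    exact K520.Prod.geometricallyIntegral_of_flat_surjective (und e.hom).left H.obj.X.hom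

theorem isAV_of_isZero {G : Alg k} (h : IsZero G) : IsAV G := by
  have h0 : 𝟙 G = 0 := h.eq_of_src _ _
  have h1 : 𝟙 G.obj.X = 1 := by
    have := congrArg und h0
    rwa [und_id, und_zero] at this
  have hiso : IsIso (toUnit G.obj.X) := ⟨η[G.obj.X], h1.symm, toUnit_unique _ _⟩
  have hiso' : IsIso G.obj.X.hom := by
    have h2 : IsIso (toUnit G.obj.X).left := inferInstanceAs (IsIso ((Over.forget _).map (toUnit G.obj.X)))
    have h3 : (toUnit G.obj.X).left ≫ (𝟙_ (Over (Spec (CommRingCat.of k)))).hom = G.obj.X.hom := Over.w _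
    have h4 : IsIso (𝟙_ (Over (Spec (CommRingCat.of k)))).hom := inferInstanceAs (IsIso (𝟙 _))
    rw [← h3]
    infer_instance
  refine ⟨inferInstance, ?_⟩
  refine ⟨fun K _ x Z' fst snd hZ => ?_⟩
  have : IsIso snd := hZ.isIso_snd_of_isIso
  have : Nonempty Z' := ⟨(inv snd) (IsLocalRing.closedPoint K)⟩
  exact isIntegral_of_isOpenImmersion snd

/-- The concrete product. -/
noncomputable def prodAlg (G H : Alg k) : Alg k := ⟨prodObj G.obj H.obj, by
  have h1 := G.property.1
  have h2 := G.property.2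
  have h3 := H.property.1
  have h4 := H.property.2
  exact ⟨inferInstanceAs (LocallyOfFiniteType (pullback.fst G.obj.X.hom H.obj.X.hom ≫ G.obj.X.hom)),
      inferInstanceAs (QuasiCompact (pullback.fst G.obj.X.hom H.obj.X.hom ≫ G.obj.X.hom))⟩⟩

noncomputable def prodIso (G H : Alg k) : prodAlg G H ≅ G ⊞ H := by
  have i1 : IsMonHom (fst G.obj.X H.obj.X) := inferInstance
  have i2 : IsMonHom (snd G.obj.X H.obj.X) := inferInstance
  let p1 : prodAlg G H ⟶ G := mkHomP (fst G.obj.X H.obj.X) i1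
  let p2 : prodAlg G H ⟶ H := mkHomP (snd G.obj.X H.obj.X) i2
  have i3 : IsMonHom (lift (und (biprod.fst : G ⊞ H ⟶ G)) (und (biprod.snd : G ⊞ H ⟶ H))) := inferInstance
  let l : G ⊞ H ⟶ prodAlg G H := mkHomP (lift (und biprod.fst) (und biprod.snd)) i3
  refine ⟨biprod.lift p1 p2, l, ?_, ?_⟩
  · apply und_inj
    have e1 : (biprod.lift p1 p2 ≫ l) ≫ p1 = p1 := by
      have : l ≫ p1 = biprod.fst := und_inj (lift_fst _ _)
      rw [Category.assoc, this, biprod.lift_fst]
    have e2 : (biprod.lift p1 p2 ≫ l) ≫ p2 = p2 := by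
      have : l ≫ p2 = biprod.snd := und_inj (lift_snd _ _)
      rw [Category.assoc, this, biprod.lift_snd]
    apply CartesianMonoidalCategory.hom_ext
    · exact (congrArg und e1).trans (Category.id_comp _).symm
    · exact (congrArg und e2).trans (Category.id_comp _).symm
  · apply biprod.hom_ext
    · rw [Category.assoc, biprod.lift_fst, Category.id_comp]
      exact und_inj (lift_fst _ _)
    · rw [Category.assoc, biprod.lift_snd, Category.id_comp]
      exact und_inj (lift_snd _ _)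

theorem isAV_prodAlg {G H : Alg k} (hG : IsAV G) (hH : IsAV H) : IsAV (prodAlg G H) := by
  obtain ⟨h1, h2⟩ := hG
  obtain ⟨h3, h4⟩ := hH
  have hfl := flat_to_field H.obj.X.hom
  have hfp : LocallyOfFinitePresentation H.obj.X.hom := by
    have : IsLocallyNoetherian (Spec (CommRingCat.of k)) := Groth.Agent.Sga3.H830.AlgGrpAb.isLocallyNoetherian_spec
    exact LocallyOfFinitePresentation.iff_locallyOfFiniteType.2 inferInstance
  constructor
  · exact inferInstanceAs (IsProper (pullback.fst G.obj.X.hom H.obj.X.hom ≫ G.obj.X.hom))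
  · have : GeometricallyIntegral (pullback.fst G.obj.X.hom H.obj.X.hom) := inferInstance
    exact K520.Prod.geometricallyIntegral_comp (pullback.fst G.obj.X.hom H.obj.X.hom) G.obj.X.hom

theorem isAV_biprod {G H : Alg k} (hG : IsAV G) (hH : IsAV H) : IsAV (G ⊞ H) :=
  (isAV_prodAlg hG hH).of_iso (prodIso G H)

theorem isSeparated_hom (G : Alg k) : IsSeparated G.obj.X.hom := by
  have h1 := G.property.1
  have h2 := G.property.2
  exact (Groth.Agent.S0346.result _ G.obj.X).1.2 inferInstance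

/-- Quotients of abelian varieties. -/
theorem isAV_of_epi {G H : Alg k} (q : G ⟶ H) [Epi q] (hG : IsAV G) : IsAV H := by
  obtain ⟨h1, h2⟩ := hG
  obtain ⟨h3, h4, h5⟩ := W_of_epi q
  have h6 : IsSeparated H.obj.X.hom := isSeparated_hom H
  obtain ⟨h7, h8, -⟩ := K520.Quot.isAbVar_of_flat_surjective (und q)
  exact ⟨h7, h8⟩

/-! ### Multiplication by integers -/

theorem exists_dim (G : Alg k) : ∃ g : ℕ, topologicalKrullDim G.obj.X.left = g := by
  have := G.property.1
  exact Groth.Agent.Sga7.H742.P1Dim.exists_dim G.obj.X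

theorem und_smul_id (G : Alg k) (m : ℕ) : und (m • 𝟙 G) = (𝟙 G.obj.X) ^ m := by
  rw [und_nsmul, und_id]

theorem smul_props {X : Alg k} (hX : IsAV X) {g : ℕ} (hg : topologicalKrullDim X.obj.X.left = g) {m : ℕ} (hm : m ≠ 0) :
    IsFinite (und (m • 𝟙 X)).left ∧ Flat (und (m • 𝟙 X)).left ∧
      ∀ a : X.obj.X.left, Scheme.Hom.finrank (und (m • 𝟙 X)).left a = m ^ (2 * g) := by
  obtain ⟨h1, h2⟩ := hX
  have := Groth.Agent.S1842.pos_case k X.obj.X g hg m (Nat.one_le_iff_ne_zero.2 hm)
  rw [← und_smul_id] at this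
  exact this

theorem W_smul {X : Alg k} (hX : IsAV X) {m : ℕ} (hm : m ≠ 0) : W (m • 𝟙 X) := by
  obtain ⟨g, hg⟩ := exists_dim X
  obtain ⟨h1, h2, h3⟩ := smul_props hX hg hm
  have hft := X.property.1
  refine ⟨h2, ?_, ?_⟩
  · rw [← Scheme.Hom.one_le_finrank_iff_surjective]
    intro a
    rw [h3]
    exact Nat.one_le_iff_ne_zero.2 (pow_ne_zero _ hm)
  · have : IsLocallyNoetherian (Spec (CommRingCat.of k)) := Groth.Agent.Sga3.H830.AlgGrpAb.isLocallyNoetherian_spec
    have : IsLocallyNoetherian X.obj.X.left := LocallyOfFiniteType.isLocallyNoetherian X.obj.X.hom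
    have : LocallyOfFiniteType (und (m • 𝟙 X)).left := inferInstance
    exact LocallyOfFinitePresentation.iff_locallyOfFiniteType.2 inferInstance

theorem epi_smul {X : Alg k} (hX : IsAV X) {m : ℕ} (hm : m ≠ 0) : Epi (m • 𝟙 X) := epi_of_W _ (W_smul hX hm)

/-- The order of a kernel of an fppf homomorphism with finite underlying morphism is its degree. -/
theorem ord_kernel_eq {X Y : Alg k} (q : X ⟶ Y) [Epi q] [IsFinite (und q).left] (y : Y.obj.X.left) :
    ord (kernel q) = Scheme.Hom.finrank (und q).left y ∧ IsFinite (kernel q).obj.X.hom := by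
  have hk : ∀ {T : Over (Spec (CommRingCat.of k))} (x : T ⟶ X.obj.X), x ≫ und q = 1 →
      ∃ t : T ⟶ (kernel q).obj.X, t ≫ und (kernel.ι q) = x := by
    intro T x hx
    refine kernel_pts (kernel.ι q) q ?_ x hx
    intro T x hx
    exact ⟨kernel.lift q x hx, kernel.lift_ι _ _ _⟩
  have hfin : IsFinite (kernel q).obj.X.hom := by
    rw [K525.OrdC.isFinite_iff]
    -- the kernel is contained in the fibre of `q` over the unit
    have h1 := Scheme.Hom.finite_preimage_singleton (und q).left ((η[Y.obj.X] : 𝟙_ _ ⟶ Y.obj.X).left (pt k))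
    have hci := isClosedImmersion_of_mono (kernel.ι q)
    have hinj := (und (kernel.ι q)).left.isClosedEmbedding.injective
    have hmem : ∀ x, (und (kernel.ι q)).left x ∈ (und q).left ⁻¹' {(η[Y.obj.X] : 𝟙_ _ ⟶ Y.obj.X).left (pt k)} := by
      intro x
      rw [Set.mem_preimage, Set.mem_singleton_iff, ← Scheme.Hom.comp_apply]
      have h2 : und (kernel.ι q) ≫ und q = 1 := (comp_eq_zero_iff _ _).1 (kernel.condition q)
      have h3 : (und (kernel.ι q)).left ≫ (und q).left = (toUnit (kernel q).obj.X).left ≫ (η[Y.obj.X] : 𝟙_ _ ⟶ Y.obj.X).left :=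
        congrArg (fun z => z.left) h2
      rw [h3, Scheme.Hom.comp_apply]
      congr 1
      exact Subsingleton.elim (α := Spec (CommRingCat.of k)) _ _
    have := h1.to_subtype
    exact Finite.of_injective (fun x => (⟨_, hmem x⟩ : ((und q).left ⁻¹' {(η[Y.obj.X] : 𝟙_ _ ⟶ Y.obj.X).left (pt k)}))) fun x y h =>
      hinj (congrArg Subtype.val h)
  exact ⟨(finrank_eq_ord (kernel.ι q) q (kernel.condition q) (W_of_epi q) hk hfin inferInstance y).symm, hfin⟩

theorem ord_torsion {X : Alg k} (hX : IsAV X) {g : ℕ} (hg : topologicalKrullDim X.obj.X.left = g) {m : ℕ} (hm : m ≠ 0) :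
    ord (kernel (m • 𝟙 X)) = m ^ (2 * g) := by
  obtain ⟨h1, h2, h3⟩ := smul_props hX hg hm
  have := epi_smul hX hm
  have h4 := (ord_kernel_eq (m • 𝟙 X) ((η[X.obj.X] : 𝟙_ _ ⟶ X.obj.X).left (pt k))).1
  rw [h4, h3]

theorem ord_torsion_ne_zero {X : Alg k} (hX : IsAV X) {m : ℕ} (hm : m ≠ 0) : ord (kernel (m • 𝟙 X)) ≠ 0 := by
  obtain ⟨g, hg⟩ := exists_dim X
  rw [ord_torsion hX hg hm]
  exact pow_ne_zero _ hm

/-! ### Frobenius and Verschiebung -/

section Finite

variable [Finite k]

open K520.Frob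

/-- The Frobenius endomorphism. -/
noncomputable def frC (G : Alg k) : G ⟶ G := mkHomP (fr k G.obj.X) inferInstance

theorem und_frC (G : Alg k) : und (frC G) = fr k G.obj.X := rfl

@[reassoc]
theorem frC_comm {G H : Alg k} (f : G ⟶ H) : frC G ≫ f = f ≫ frC H := und_inj (fr_comm k (und f))

theorem exists_ver {X : Alg k} (hX : IsAV X) : ∃ V : X ⟶ X, frC X ≫ V = Nat.card k • 𝟙 X ∧ V ≫ frC X = Nat.card k • 𝟙 X := by
  obtain ⟨h1, h2⟩ := hX
  have hF := isFrob_fr k X.obj.X
  obtain ⟨v, hv, e1, e2⟩ := Groth.Agent.S16846.result k X.obj.X (fr k X.obj.X) hF.base hF.le hF.app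
  refine ⟨mkHomP v hv, ?_, ?_⟩
  · apply und_inj
    rw [und_smul_id]
    exact e1
  · apply und_inj
    rw [und_smul_id]
    exact e2

theorem ver_unique {X Y : Alg k} {V : X ⟶ X} (hV : frC X ≫ V = Nat.card k • 𝟙 X)
    {V' : Y ⟶ Y} (hV' : frC Y ≫ V' = Nat.card k • 𝟙 Y) (f : X ⟶ Y) (hep : Epi (frC X)) : V ≫ f = f ≫ V' := by
  rw [← cancel_epi (frC X), ← Category.assoc, hV, ← Category.assoc, frC_comm, Category.assoc, hV',
    K525.AbsD.smul_id_comp, K525.AbsD.comp_smul_id]

theorem epi_frC {X : Alg k} (hX : IsAV X) : Epi (frC X) := by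
  obtain ⟨V, hV, hV'⟩ := exists_ver hX
  have h1 : Nat.card k ≠ 0 := Nat.card_pos.ne'
  have h2 := epi_smul hX h1
  rw [← hV'] at h2
  exact epi_of_epi V (frC X)

/-- Finite subgroups of `A ⊞ A` are stable under endomorphisms generated by Frobenius and Verschiebung. -/
theorem stable2 {A : Alg k} (hA : IsAV A) {R : Type*} [CommRing R] (ρ : R ≃+* End A) (F V : R)
    (hF : ρ F = frC A) (hFV : F * V = (Nat.card k : R))
    (hgen : ∀ N : AddSubgroup R, 1 ∈ N → (∀ x ∈ N, F * x ∈ N) → (∀ x ∈ N, V * x ∈ N) → N = ⊤) :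
    K525.AbsS.Stable2 ρ (ord (k := k)) := by
  intro S i _ hS
  have hF' : K525.AbsK.act ρ F = frC A := hF
  have hFV' : K525.AbsK.act ρ F ≫ K525.AbsK.act ρ V = Nat.card k • 𝟙 A := by
    rw [← K525.AbsK.act_mul, _root_.mul_comm, hFV, K525.AbsK.act_natCast]
  let VX : A ⊞ A ⟶ A ⊞ A := biprod.map (K525.AbsK.act ρ V) (K525.AbsK.act ρ V)
  have hX := isAV_biprod hA hA
  have hFX : frC (A ⊞ A) = biprod.map (K525.AbsK.act ρ F) (K525.AbsK.act ρ F) := by
    apply biprod.hom_ext
    · rw [frC_comm, biprod.map_fst, hF']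
    · rw [frC_comm, biprod.map_snd, hF']
  have hVX : frC (A ⊞ A) ≫ VX = Nat.card k • 𝟙 (A ⊞ A) := by
    rw [hFX]
    apply biprod.hom_ext
    · rw [Category.assoc, biprod.map_fst, ← Category.assoc, biprod.map_fst, Category.assoc, hFV',
        K525.AbsD.comp_smul_id, K525.AbsD.smul_id_comp]
    · rw [Category.assoc, biprod.map_snd, ← Category.assoc, biprod.map_snd, Category.assoc, hFV',
        K525.AbsD.comp_smul_id, K525.AbsD.smul_id_comp]
  have hQ := isAV_of_epi (cokernel.π i) hX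
  obtain ⟨VQ, hVQ, -⟩ := exists_ver hQ
  have hcomm := ver_unique hVX hVQ (cokernel.π i) (epi_frC hX)
  -- the additive subgroup of stable elements
  let N : AddSubgroup R :=
    { carrier := {r | ∃ r' : S ⟶ S, i ≫ biprod.map (K525.AbsK.act ρ r) (K525.AbsK.act ρ r) = r' ≫ i}
      zero_mem' := ⟨0, by
        rw [zero_comp, K525.AbsK.act_zero]
        apply biprod.hom_ext <;> simp⟩
      add_mem' := by
        rintro r s ⟨r', hr⟩ ⟨s', hs⟩
        refine ⟨r' + s', ?_⟩
        rw [Preadditive.add_comp, ← hr, ← hs, K525.AbsK.act_add, ← Preadditive.comp_add]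
        congr 1
        apply biprod.hom_ext <;> simp [Preadditive.add_comp, Preadditive.comp_add]
      neg_mem' := by
        rintro r ⟨r', hr⟩
        refine ⟨-r', ?_⟩
        have hneg : K525.AbsK.act ρ (-r) = - K525.AbsK.act ρ r := map_neg ρ r
        rw [Preadditive.neg_comp, ← hr, hneg, ← Preadditive.comp_neg]
        congr 1
        apply biprod.hom_ext <;> simp }
  have hmul : ∀ s : R, (∃ s' : S ⟶ S, i ≫ biprod.map (K525.AbsK.act ρ s) (K525.AbsK.act ρ s) = s' ≫ i) →
      ∀ x ∈ N, s * x ∈ N := by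
    rintro s ⟨s', hs⟩ x ⟨x', hx⟩
    refine ⟨x' ≫ s', ?_⟩
    have h1 : biprod.map (K525.AbsK.act ρ (s * x)) (K525.AbsK.act ρ (s * x)) =
        biprod.map (K525.AbsK.act ρ x) (K525.AbsK.act ρ x) ≫ biprod.map (K525.AbsK.act ρ s) (K525.AbsK.act ρ s) := by
      rw [K525.AbsK.act_mul]
      apply biprod.hom_ext <;> simp
    rw [h1, ← Category.assoc, hx, Category.assoc, hs, ← Category.assoc]
  have hN : N = ⊤ := by
    apply hgen
    · refine ⟨𝟙 S, ?_⟩
      rw [Category.id_comp, K525.AbsK.act_one]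
      have : biprod.map (𝟙 A) (𝟙 A) = 𝟙 (A ⊞ A) := by apply biprod.hom_ext <;> simp
      rw [this, Category.comp_id]
    · apply hmul F
      exact ⟨frC S, by rw [← hFX, frC_comm]⟩
    · apply hmul V
      have h0 : (i ≫ VX) ≫ cokernel.π i = 0 := by
        rw [Category.assoc, hcomm, ← Category.assoc, cokernel.condition, zero_comp]
      have hex := ShortComplex.exact_cokernel i
      exact ⟨hex.lift _ h0, (hex.lift_f _ h0).symm⟩
  intro r
  have : r ∈ N := by rw [hN]; trivial
  exact this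

end Finite

end K525.AVC
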