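import Groth.Agent.AbVar.K525.Setup

/-!
# From the statements to the category of algebraic groups
-/

set_option autoImplicit false

universe u

open CategoryTheory MonoidalCategory CartesianMonoidalCategory MonObj GrpObj AlgebraicGeometry Limits MvPolynomial

namespace K525.Conv

open K525.AlgC K525.OrdC K525.AbsOrd K525.AbsD K525.AbsS K525.AVC K525.Unimod K525.Count K525.Setup K525.Rw

variable {k : Type u} [Field k]

section

variable (X Y A : Over (Spec (CommRingCat.of k))) [GrpObj X] [IsCommMonObj X] [IsProper X.hom]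
  [GrpObj Y] [IsCommMonObj Y] [IsProper Y.hom] [GrpObj A] [IsCommMonObj A] [IsProper A.hom]

/-- Homomorphisms as morphisms of algebraic groups. -/
noncomputable def homE : (mk X ⟶ mk Y) ≃+ EndAV.Hom X Y where
  toFun f := f.hom
  invFun f := ObjectProperty.homMk f
  left_inv _ := rfl
  right_inv _ := rfl
  map_add' _ _ := rfl

/-- The endomorphism ring. -/
noncomputable def endE : End (mk A) ≃+* EndAV.End A where
  toFun f := f.hom
  invFun f := ObjectProperty.homMk f
  left_inv _ := rfl
  right_inv _ := rfl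
  map_add' _ _ := rfl
  map_mul' _ _ := rfl

end

variable {X Y A Z : Over (Spec (CommRingCat.of k))} [GrpObj X] [IsCommMonObj X] [IsProper X.hom]
  [GrpObj Y] [IsCommMonObj Y] [IsProper Y.hom] [GrpObj A] [IsCommMonObj A] [IsProper A.hom]
  [GrpObj Z] [IsCommMonObj Z] [IsProper Z.hom]

theorem homE_comp (f : mk X ⟶ mk Y) (g : mk Y ⟶ mk Z) : homE X Z (f ≫ g) = homE X Y f ≫ homE Y Z g := rfl

theorem homE_symm_comp (f : EndAV.Hom X Y) (g : EndAV.Hom Y Z) :
    (homE X Z).symm (f ≫ g) = (homE X Y).symm f ≫ (homE Y Z).symm g := rfl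

/-- Linear maps between groups of homomorphisms. -/
noncomputable def linE (g : EndAV.Hom Y A →ₗ[EndAV.End A] EndAV.Hom X A) : (mk Y ⟶ mk A) →ₗ[End (mk A)] (mk X ⟶ mk A) where
  toFun f := (homE X A).symm (g (homE Y A f))
  map_add' f f' := by rw [map_add, map_add, map_add]
  map_smul' s f := by
    have h1 : homE Y A (s • f) = (endE A s) • homE Y A f := rfl
    rw [h1, map_smul]
    rfl

theorem linE_apply (g : EndAV.Hom Y A →ₗ[EndAV.End A] EndAV.Hom X A) (f : mk Y ⟶ mk A) :
    linE g f = (homE X A).symm (g (homE Y A f)) := rfl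

end K525.Conv
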