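import Groth.Agent.AbVar.K511.HT.Iface
import Groth.Agent.AbVar.K525.AVC
import Groth.Agent.AbVar.K522.RH
import Mathlib.RingTheory.Ideal.Norm.AbsNorm

/-!
# The node `WEIL` of Honda–Tate: conjugates of the Frobenius in `𝓞 L` have absolute value `√q`
-/

set_option autoImplicit false
universe u

open CategoryTheory MonoidalCategory CartesianMonoidalCategory MonObj GrpObj AlgebraicGeometry Limits
open scoped NumberField

namespace K525.WeilRH

open K525.AlgC K525.AVC

/-- The dimension of a trivial group scheme over a field. -/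
theorem dim_eq_zero_of_isIso {k : Type u} [Field k] (A : Over (Spec (CommRingCat.of k))) (h : IsIso (toUnit A)) :
    topologicalKrullDim A.left = 0 := by
  have h6 : IsIso (toUnit A).left := inferInstanceAs (IsIso ((Over.forget _).map (toUnit A)))
  rw [IsHomeomorph.topologicalKrullDim_eq _ (toUnit A).left.homeomorph.isHomeomorph]
  show topologicalKrullDim (PrimeSpectrum k) = 0
  rw [PrimeSpectrum.topologicalKrullDim_eq_ringKrullDim, ringKrullDim_eq_zero_of_field]

/-- A nonzero multiple of the identity of an abelian variety of positive dimension is not zero. -/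
theorem natCast_ne_zero {k : Type u} [Field k] (A : Over (Spec (CommRingCat.of k))) [GrpObj A] [IsCommMonObj A]
    [IsProper A.hom] [GeometricallyIntegral A.hom] (hA : topologicalKrullDim A.left ≠ 0) (n : ℕ) (hn : n ≠ 0) :
    (n : EndAV.End A) ≠ 0 := by
  intro h0
  have h1 : (𝟙 A : A ⟶ A) ^ n = 1 := by
    have := congrArg (fun z : EndAV.End A => z.toHom) h0
    simp only [EndAV.End.toHom_natCast] at this
    exact this
  have h2 : n • 𝟙 (mk A) = 0 := by
    apply und_inj
    rw [und_smul_id]
    exact h1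
  have h3 := epi_smul (isAV_mk A) hn
  rw [h2] at h3
  have h4 : 𝟙 (mk A) = 0 := by
    rw [← cancel_epi (0 : mk A ⟶ mk A)]
    simp
  have h5 : 𝟙 A = 1 := congrArg und h4
  exact hA (dim_eq_zero_of_isIso A ⟨η[A], h5.symm, toUnit_unique _ _⟩)

/-- A ring homomorphism from the integers of a number field to the endomorphisms of an abelian variety of positive
dimension is injective. -/
theorem injective {k : Type u} [Field k] (A : Over (Spec (CommRingCat.of k))) [GrpObj A] [IsCommMonObj A]
    [IsProper A.hom] [GeometricallyIntegral A.hom] (hA : topologicalKrullDim A.left ≠ 0) (L : Type) [Field L]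
    [NumberField L] (ρ : 𝓞 L →+* EndAV.End A) : Function.Injective ρ := by
  rw [injective_iff_map_eq_zero]
  intro x hx
  by_contra hne
  have h1 : (Ideal.absNorm (Ideal.span {x}) : 𝓞 L) ∈ Ideal.span {x} := Ideal.absNorm_mem _
  obtain ⟨y, hy⟩ := Ideal.mem_span_singleton'.1 h1
  have h2 : Ideal.absNorm (Ideal.span {x}) ≠ 0 := by
    rw [Ne, Ideal.absNorm_eq_zero_iff, Ideal.span_singleton_eq_bot]
    exact hne
  apply natCast_ne_zero A hA _ h2
  rw [← map_natCast ρ, ← hy, map_mul, hx, mul_zero]

/-- The node `WEIL`. -/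
theorem main : K511.HT.WEIL.{u} := by
  intro q κ _ _ hκ A _ _ _ _ hA L _ _ ρ π₀ hπ σ
  have hq : q ≠ 0 := by rw [← hκ]; exact Nat.card_pos.ne'
  obtain ⟨h1, h2, h3⟩ := hπ
  have hF : K520.Frob.IsFrob q (ρ π₀).toHom.left := ⟨h1, h2, h3⟩
  have hρ := injective A hA L ρ
  have hev : ∀ F : Polynomial ℤ, F.eval₂ (Int.castRingHom (EndAV.End A)) (ρ π₀) = ρ (F.eval₂ (Int.castRingHom (𝓞 L)) π₀) := by
    intro F
    rw [Polynomial.hom_eval₂]
    congr 1
    exact RingHom.ext_int _ _
  have hint : IsIntegral ℤ π₀ := Algebra.IsIntegral.isIntegral π₀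
  have hP : (minpoly ℤ π₀).eval₂ (Int.castRingHom (EndAV.End A)) (ρ π₀) = 0 := by
    rw [hev]
    have := minpoly.aeval ℤ π₀
    rw [Polynomial.aeval_def, show algebraMap ℤ (𝓞 L) = Int.castRingHom _ from RingHom.ext_int _ _] at this
    rw [this, map_zero]
  obtain ⟨m, hm1, hm2, hm3, hm4, hm5⟩ := K522.RH.exists_min q hq (ρ π₀) hF _ (minpoly.monic hint) hP
  apply hm5
  rw [hev] at hm3
  have h4 := (injective_iff_map_eq_zero ρ).1 hρ _ hm3
  have h5 := congrArg (fun z : 𝓞 L => σ (z : L)) h4
  rw [Polynomial.eval_map]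
  have h6 := Polynomial.hom_eval₂ m (Int.castRingHom (𝓞 L)) (σ.comp (algebraMap (𝓞 L) L)) π₀
  rw [show (σ.comp (algebraMap (𝓞 L) L)).comp (Int.castRingHom (𝓞 L)) = Int.castRingHom ℂ from RingHom.ext_int _ _] at h6
  refine h6.symm.trans ?_
  rw [h4, map_zero]

end K525.WeilRH
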