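import Mathlib.LinearAlgebra.Eigenspace.Zero
import Mathlib.LinearAlgebra.Matrix.Charpoly.Eigs
import Mathlib.LinearAlgebra.Matrix.Block
import Mathlib.RingTheory.LocalRing.ResidueField.Basic

/-!
# Simultaneous eigenvectors and the kernel modulo the maximal ideal
-/

set_option autoImplicit false

namespace K525.HTLie

open Polynomial Matrix

/-- Simultaneous eigenvectors for distinct characters are linearly independent. -/
theorem linInd {O : Type*} {K W : Type*} [Field K] [AddCommGroup W] [Module K W] (T : O → Module.End K W)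
    {ι : Type*} (χ : ι → O → K) (hχ : Function.Injective χ) (u : ι → W) (hu : ∀ i, u i ≠ 0)
    (h : ∀ i b, T b (u i) = χ i b • u i) : LinearIndependent K u := by
  classical
  rw [linearIndependent_iff']
  intro s
  induction s using Finset.induction_on with
  | empty => intro c _ i hi; simp at hi
  | insert a s ha ih =>
    intro c hc
    have key : ∀ i ∈ s, c i = 0 := by
      intro i hi
      have hne : i ≠ a := fun e => ha (e ▸ hi)
      obtain ⟨b, hb⟩ : ∃ b, χ i b ≠ χ a b := by
        by_contra hcon
        push Not at hcon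
        exact hne (hχ (funext hcon))
      have h1 : ∑ j ∈ s, (c j * (χ j b - χ a b)) • u j = 0 := by
        have h2 : T b (∑ j ∈ insert a s, c j • u j) - χ a b • (∑ j ∈ insert a s, c j • u j) = 0 := by
          rw [hc, map_zero, smul_zero, sub_zero]
        rw [map_sum, Finset.smul_sum, ← Finset.sum_sub_distrib, Finset.sum_insert ha] at h2
        have h3 : T b (c a • u a) - χ a b • c a • u a = 0 := by
          rw [map_smul, h, smul_smul, smul_smul, mul_comm, sub_self]
        rw [h3, zero_add] at h2
        rw [← h2]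
        refine Finset.sum_congr rfl fun j _ => ?_
        rw [map_smul, h, smul_smul, smul_smul, ← sub_smul]
        congr 1
        ring
      have h4 := ih _ h1 i hi
      exact (mul_eq_zero.1 h4).resolve_right (sub_ne_zero.2 hb)
    have hca : c a = 0 := by
      rw [Finset.sum_insert ha, Finset.sum_eq_zero (fun j hj => by rw [key j hj, zero_smul]), add_zero] at hc
      exact (smul_eq_zero.1 hc).resolve_right (hu a)
    intro i hi
    rcases Finset.mem_insert.1 hi with rfl | hi
    · exact hca
    · exact key i hi

/-- The characteristic polynomial of an operator with enough simultaneous eigenvectors. -/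
theorem charpoly_eq {K : Type*} [Field K] {g : ℕ} {ι : Type*} [Fintype ι] (hι : Fintype.card ι = g)
    (A : Matrix (Fin g) (Fin g) K) (u : ι → Fin g → K) (hu : LinearIndependent K u) (a : ι → K)
    (h : ∀ i, A *ᵥ u i = a i • u i) : A.charpoly = ∏ i, (X - C (a i)) := by
  classical
  have hcard : Fintype.card ι = Module.finrank K (Fin g → K) := by rw [Module.finrank_fin_fun, hι]
  rcases isEmpty_or_nonempty ι with he | hne
  · have : g = 0 := by rw [← hι]; exact Fintype.card_eq_zero
    subst this
    simp
  · let B := basisOfLinearIndependentOfCardEqFinrank hu hcard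
    have hB : ∀ i, B i = u i := fun i => by rw [coe_basisOfLinearIndependentOfCardEqFinrank]
    have h1 : LinearMap.toMatrix B B (Matrix.toLin' A) = Matrix.diagonal a := by
      ext i j
      rw [LinearMap.toMatrix_apply, hB, Matrix.toLin'_apply, h, map_smul, ← hB, B.repr_self,
        Finsupp.smul_apply, Finsupp.single_apply, Matrix.diagonal_apply]
      by_cases hij : j = i
      · subst hij; simp
      · rw [if_neg hij, if_neg (Ne.symm hij), smul_zero]
    rw [← Matrix.charpoly_toLin', ← LinearMap.charpoly_toMatrix (Matrix.toLin' A) B, h1, Matrix.charpoly_diagonal]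

/-- The dimension of the kernel modulo the maximal ideal. -/
theorem card_le {V : Type*} [CommRing V] [IsDomain V] [IsLocalRing V] {K : Type*} [Field K] (j : V →+* K)
    (hj : Function.Injective j) {κ : Type*} [Field κ] (π : V →+* κ) {g : ℕ} {O : Type*} [CommRing O]
    (M : O → Matrix (Fin g) (Fin g) V) (Φ : Finset (O →+* V)) (hΦ : Φ.card = g)
    (hu : ∀ φ ∈ Φ, ∃ u : Fin g → K, u ≠ 0 ∧ ∀ b, (M b).map j *ᵥ u = j (φ b) • u) (b : O) {n : ℕ}
    (v : Fin n → Fin g → κ) (hv : LinearIndependent κ v) (h0 : ∀ i, (M b).map π *ᵥ v i = 0) :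
    n ≤ Nat.card {φ : O →+* V // φ ∈ Φ ∧ π (φ b) = 0} := by
  classical
  choose! u hu0 hu1 using hu
  have h1 : LinearIndependent K (fun φ : Φ => u φ) := by
    refine linInd (fun b => Matrix.toLin' ((M b).map j)) (fun (φ : Φ) b => j ((φ : O →+* V) b)) ?_ _ ?_ ?_
    · intro φ ψ h
      apply Subtype.ext
      refine RingHom.ext fun b => hj (congrFun h b)
    · exact fun φ => hu0 _ φ.2
    · intro φ b
      rw [Matrix.toLin'_apply]
      exact hu1 _ φ.2 b
  have h2 := charpoly_eq (by rw [Fintype.card_coe]; exact hΦ) ((M b).map j) (fun φ : Φ => u φ) h1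
    (fun φ : Φ => j ((φ : O →+* V) b)) (fun φ => hu1 _ φ.2 b)
  have h3 : (M b).charpoly = ∏ φ : Φ, (X - C ((φ : O →+* V) b)) := by
    apply Polynomial.map_injective j hj
    rw [← Matrix.charpoly_map, h2, Polynomial.map_prod]
    simp
  have h4 : ((M b).map π).charpoly = ∏ φ : Φ, (X - C (π ((φ : O →+* V) b))) := by
    have := Matrix.charpoly_map (M b) π
    rw [this, h3, Polynomial.map_prod]
    simp
  have h5 : Module.finrank κ (Module.End.eigenspace (Matrix.toLin' ((M b).map π)) 0) ≤
      ((M b).map π).charpoly.rootMultiplicity 0 := by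
    have := LinearMap.finrank_eigenspace_le (Matrix.toLin' ((M b).map π)) 0
    rwa [Matrix.charpoly_toLin'] at this
  have h6 : n ≤ Module.finrank κ (Module.End.eigenspace (Matrix.toLin' ((M b).map π)) 0) := by
    have hmem : ∀ i, v i ∈ Module.End.eigenspace (Matrix.toLin' ((M b).map π)) 0 := by
      intro i
      rw [Module.End.mem_eigenspace_iff, Matrix.toLin'_apply, h0, zero_smul]
    have h7 : LinearIndependent κ (fun i => (⟨v i, hmem i⟩ : Module.End.eigenspace (Matrix.toLin' ((M b).map π)) 0)) :=
      LinearIndependent.of_comp (Submodule.subtype _) hv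
    simpa using h7.fintype_card_le_finrank
  refine h6.trans (h5.trans ?_)
  rw [h4, ← Polynomial.count_roots, Polynomial.roots_prod _ _ (Finset.prod_ne_zero_iff.2 fun φ _ => X_sub_C_ne_zero _)]
  simp only [roots_X_sub_C, Multiset.bind_singleton]
  rw [Multiset.count_map, ← Finset.filter_val, Finset.card_val]
  have h8 : Nat.card {φ : O →+* V // φ ∈ Φ ∧ π (φ b) = 0} = Fintype.card {φ : Φ // 0 = π ((φ : O →+* V) b)} := by
    rw [← Nat.card_eq_fintype_card]
    exact Nat.card_congr
      { toFun := fun φ => ⟨⟨φ.1, φ.2.1⟩, φ.2.2.symm⟩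
        invFun := fun φ => ⟨φ.1.1, φ.1.2, φ.2.symm⟩
        left_inv := fun _ => rfl
        right_inv := fun _ => rfl }
  rw [h8, Fintype.card_subtype]

end K525.HTLie
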