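import Groth.Agent.AbVar.K511.HT.LieChart
import Groth.Agent.AbVar.K525.HTLieLin
import Groth.Agent.AgPol.K814.RelDim

/-!
# The action of endomorphisms on the Lie algebra of an abelian scheme over a local ring

* `mat c α`: the matrix over `R` of an endomorphism `α` in a chart; `co_lieEnd`: it gives the action over all
  `f : Spec B ⟶ Spec R`.
* `lie2`: over a local domain `V` with fraction field `K` and residue field `κ`: if the action of `O` on `Lie (X_K)` has
  eigenvectors for `g` characters `φ ∈ Φ`, then the kernel of `b` on `Lie (X_κ)` has dimension at most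
  `#{φ ∈ Φ | φ b ∈ 𝔪}`.
-/

set_option autoImplicit false
universe u
open CategoryTheory CategoryTheory.Limits MonoidalCategory CartesianMonoidalCategory MonObj GrpObj AlgebraicGeometry
open LieS K988.LieModel K988.LieCalc K988.LieScale K511.HT
open scoped Matrix

noncomputable section

namespace K525.HTLie

section mat

variable {R : Type u} [CommRing R] {G : Over (Spc R)} [GrpObj G] [IsCommMonObj G] {g : ℕ} (c : Chart R G g)

/-- The matrix of an endomorphism. -/
def mat (α : EndAV.End G) : Matrix (Fin g) (Fin g) R :=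
  Matrix.of fun i j => c.co (𝟙 _) (lieEnd (𝟙 _) G α ((c.coE (𝟙 _)).symm (Pi.single j 1))) i

theorem co_lieEnd_aux (α : EndAV.End G) {B : Type u} [CommRing B] (h : R →+* B) (f : Spc B ⟶ Spc R)
    (hf : f = spm h ≫ 𝟙 (Spc R)) (v : LL f G) :
    c.co f (lieEnd f G α v) = (mat c α).map h *ᵥ c.co f v := by
  subst hf
  let E : Fin g → LL (spm h ≫ 𝟙 (Spc R)) G := fun j => liePull (𝟙 _) h G ((c.coE (𝟙 _)).symm (Pi.single j 1))
  have hE : ∀ j i, c.co _ (E j) i = if i = j then 1 else 0 := by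
    intro j i
    rw [c.co_pull, ← c.coE_apply, LinearEquiv.apply_symm_apply, Pi.single_apply]
    split_ifs <;> simp
  have hv : v = ∑ j, c.co _ v j • E j := by
    apply c.co_injective
    rw [map_sum]
    ext i
    simp only [map_smul, Finset.sum_apply, Pi.smul_apply, hE, smul_eq_mul, mul_ite, _root_.mul_one, mul_zero,
      Finset.sum_ite_eq, Finset.mem_univ, if_true]
  have h1 : lieEnd (spm h ≫ 𝟙 (Spc R)) G α v = ∑ j, c.co _ v j • lieEnd _ G α (E j) := by
    conv_lhs => rw [hv]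
    rw [map_sum]
    simp only [map_smul]
  rw [h1, map_sum]
  ext i
  simp only [map_smul, Finset.sum_apply, Pi.smul_apply, smul_eq_mul, Matrix.mulVec, dotProduct, Matrix.map_apply]
  refine Finset.sum_congr rfl fun j _ => ?_
  rw [mul_comm]
  congr 1
  rw [show lieEnd (spm h ≫ 𝟙 (Spc R)) G α (E j) = liePull (𝟙 _) h G
    (lieEnd (𝟙 _) G α ((c.coE (𝟙 _)).symm (Pi.single j 1))) from (liePull_lieMap (𝟙 _) h (H := G) α _).symm, c.co_pull]
  rfl

/-- The matrix gives the action over every point. -/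
theorem co_lieEnd (α : EndAV.End G) {B : Type u} [CommRing B] (f : Spc B ⟶ Spc R) (v : LL f G) :
    c.co f (lieEnd f G α v) = (mat c α).map (rh f) *ᵥ c.co f v :=
  co_lieEnd_aux c α (rh f) f (by rw [spm_rh]; exact (Category.comp_id f).symm) v

/-- The action on the Lie algebra of a base change. -/
theorem co_bc (α : EndAV.End G) {B : Type u} [CommRing B] (h : R →+* B) (v : LL (𝟙 (Spc B)) (Red.bc (spm h) G)) :
    c.co _ (lieBc (spm h) (𝟙 _) G (lieEnd (𝟙 _) _ (bcEnd (spm h) G α) v)) =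
      (mat c α).map h *ᵥ c.co _ (lieBc (spm h) (𝟙 _) G v) := by
  rw [lieBc_lieEnd]
  exact co_lieEnd_aux c α h _ ((Category.id_comp _).trans (Category.comp_id _).symm) _

end mat

theorem mk_prod {S : Scheme.{u}} {B : Type u} [CommRing B] (f : Spc B ⟶ S) (G : Over S) [GrpObj G] [IsCommMonObj G]
    {Q : Type*} (s : Finset Q) (x : Q → LieS.Lie G B f) :
    K988.LieModel.mk f G (∏ i ∈ s, x i) = ∑ i ∈ s, K988.LieModel.mk f G (x i) := by
  classical
  induction s using Finset.induction_on with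
  | empty => rw [Finset.prod_empty, Finset.sum_empty]; rfl
  | insert a s ha ih => rw [Finset.prod_insert ha, Finset.sum_insert ha, ← ih]; rfl

/-- The dimension of the kernel of `b` on the Lie algebra of the special fibre. -/
theorem lie2 {V : Type u} [CommRing V] [IsDomain V] [IsLocalRing V] {K : Type u} [Field K] (j : V →+* K)
    (hj : Function.Injective j) {κ : Type u} [Field κ] (π : V →+* κ)
    (X : Over (Spc V)) [GrpObj X] [IsCommMonObj X] (g : ℕ) (hX : AgPol.IsAbSch X g)
    (O : Type) [CommRing O] (ρ : O →+* EndAV.End X) (Φ : Finset (O →+* V)) (hΦ : Φ.card = g)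
    (hE : ∀ φ ∈ Φ, Eig K (Red.bc (spm j) X) ((bcEnd (spm j) X).comp ρ) (j.comp φ))
    (b : O) (n : ℕ) (v : Fin n → LieS.Lie (Red.bc (spm π) X) κ (𝟙 (Spc κ)))
    (h0 : ∀ i, LieS.map κ (𝟙 (Spc κ)) (bcEnd (spm π) X (ρ b)).toHom (v i) = 1)
    (hv : ∀ c : Fin n → κ, ∏ i, (c i • v i : LieS.Lie (Red.bc (spm π) X) κ (𝟙 (Spc κ))) = 1 → c = 0) :
    n ≤ Nat.card {φ : O →+* V // φ ∈ Φ ∧ π (φ b) = 0} := by
  have := K814.RelDim.of_isAbSch X g hX
  obtain ⟨c⟩ := nonempty_chart V X g
  refine card_le j hj π (fun b => mat c (ρ b)) Φ hΦ ?_ b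
    (fun i => c.co _ (lieBc (spm π) (𝟙 _) X (K988.LieModel.mk (𝟙 (Spc κ)) (Red.bc (spm π) X) (v i)))) ?_ ?_
  · intro φ hφ
    obtain ⟨w, hw, hw'⟩ := (eig_iff _ _ _ _).1 (hE φ hφ)
    refine ⟨c.co _ (lieBc (spm j) (𝟙 _) X w), ?_, ?_⟩
    · intro h
      apply hw
      rw [← map_zero (c.co _)] at h
      exact (lieBc (spm j) (𝟙 _) X).map_eq_zero_iff.1 (c.co_injective _ h)
    · intro b
      rw [← co_bc c (ρ b) j w]
      have := hw' b
      rw [RingHom.comp_apply] at this
      rw [this, map_smul, map_smul]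
      rfl
  · rw [Fintype.linearIndependent_iff]
    intro a ha
    have h1 : c.co _ (lieBc (spm π) (𝟙 _) X (∑ i, a i • K988.LieModel.mk (𝟙 (Spc κ)) (Red.bc (spm π) X) (v i))) = 0 := by
      rw [map_sum, map_sum]
      simp only [map_smul]
      exact ha
    rw [← map_zero (c.co _)] at h1
    have h2 := (lieBc (spm π) (𝟙 _) X).map_eq_zero_iff.1 (c.co_injective _ h1)
    have h3 : K988.LieModel.mk (𝟙 (Spc κ)) (Red.bc (spm π) X) (∏ i, a i • v i) = 0 := by
      rw [mk_prod]
      exact h2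
    exact congrFun (hv a h3)
  · intro i
    rw [← co_bc c (ρ b) π]
    have h1 : lieEnd (𝟙 (Spc κ)) (Red.bc (spm π) X) (bcEnd (spm π) X (ρ b))
        (K988.LieModel.mk (𝟙 (Spc κ)) (Red.bc (spm π) X) (v i)) = 0 :=
      congrArg (K988.LieModel.mk (𝟙 (Spc κ)) (Red.bc (spm π) X)) (h0 i)
    rw [h1, map_zero, map_zero]

/-- `lie2` with the hypotheses of `K511.HT.ST`. -/
theorem lie2_ST {V : Type u} [CommRing V] [IsDomain V] [IsDiscreteValuationRing V]
    (X : Over (Spc V)) [GrpObj X] [IsCommMonObj X] (g : ℕ) (hX : AgPol.IsAbSch X g)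
    (O : Type) [CommRing O] (ρ : O →+* EndAV.End X) (Φ : Finset (O →+* V)) (hΦ : Φ.card = g)
    (hE : ∀ φ ∈ Φ, Eig (FractionRing V) (Red.bc (spm (algebraMap V (FractionRing V))) X)
      ((bcEnd (spm (algebraMap V (FractionRing V))) X).comp ρ) ((algebraMap V (FractionRing V)).comp φ))
    (b : O) (n : ℕ)
    (v : Fin n → LieS.Lie (Red.bc (spm (IsLocalRing.residue V)) X) (IsLocalRing.ResidueField V)
      (𝟙 (Spc (IsLocalRing.ResidueField V))))
    (h0 : ∀ i, LieS.map (IsLocalRing.ResidueField V) (𝟙 (Spc (IsLocalRing.ResidueField V)))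
      (bcEnd (spm (IsLocalRing.residue V)) X (ρ b)).toHom (v i) = 1)
    (hv : ∀ c : Fin n → IsLocalRing.ResidueField V, ∏ i, (c i • v i : LieS.Lie (Red.bc (spm (IsLocalRing.residue V)) X)
      (IsLocalRing.ResidueField V) (𝟙 (Spc (IsLocalRing.ResidueField V)))) = 1 → c = 0) :
    n ≤ Nat.card {φ : O →+* V // φ ∈ Φ ∧ φ b ∈ IsLocalRing.maximalIdeal V} := by
  have h := lie2 (algebraMap V (FractionRing V)) (IsFractionRing.injective V (FractionRing V))
    (IsLocalRing.residue V) X g hX O ρ Φ hΦ hE b n v h0 hv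
  simpa only [IsLocalRing.residue_eq_zero_iff] using h

end K525.HTLie
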