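import Groth.Agent.AbVar.K511.HT.LieChart
import Groth.Agent.AbVar.K525.HTLie

/-!
# Tangent vectors at the origin and derivations of the local ring

`G` a group scheme over a field `κ`, `R₀ G` the local ring at the origin, `jj G : Spec (R₀ G) ⟶ G`,
`aug : R₀ G →+* κ` the evaluation and `cst : κ →+* R₀ G` the constants.  Elements of `LL f G` (for `f : Spec B ⟶ Spec κ`,
`B` a field) are ring homomorphisms `R₀ G → B[ε]`.
-/

set_option autoImplicit false
set_option linter.unusedSectionVars false
universe u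
open CategoryTheory CategoryTheory.Limits MonoidalCategory CartesianMonoidalCategory MonObj GrpObj AlgebraicGeometry
open LieS K988.LieModel K988.LieCalc K988.LieScale K511.HT
open Groth.Agent.FlatB.PushRing

noncomputable section

namespace K525.HTStt

/-- A ring with a surjection to a field with nil kernel is local. -/
theorem isLocalRing_of_nil {D B : Type*} [CommRing D] [Field B] (π : D →+* B) (hs : Function.Surjective π)
    (hπ : ∀ x, π x = 0 → IsNilpotent x) : IsLocalRing D := by
  have hu : ∀ a, π a ≠ 0 → IsUnit a := by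
    intro a ha
    obtain ⟨b, hb⟩ := hs (π a)⁻¹
    have h1 : IsNilpotent (1 - a * b) := hπ _ (by rw [map_sub, map_one, map_mul, hb, mul_inv_cancel₀ ha, sub_self])
    have h2 : IsUnit (a * b) := by
      have := h1.isUnit_one_sub
      rwa [sub_sub_cancel] at this
    exact isUnit_of_mul_isUnit_left h2
  have : Nontrivial D := π.domain_nontrivial
  refine IsLocalRing.of_nonunits_add fun a b ha hb => ?_
  have h1 : ∀ a, a ∈ nonunits D → π a = 0 := fun a ha => by
    by_contra h
    exact ha (hu a h)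
  intro h
  have := h.map π
  rw [map_add, h1 a ha, h1 b hb, add_zero] at this
  exact not_isUnit_zero this

variable {κ : Type u} [Field κ] (G : Over (Spc κ)) [GrpObj G]

/-- The origin. -/
def e₀ : G.left := (η[G] : 𝟙_ (Over (Spc κ)) ⟶ G).left (IsLocalRing.closedPoint κ)

/-- The local ring at the origin. -/
def R₀ : Type u := G.left.presheaf.stalk (e₀ G)

instance : CommRing (R₀ G) := inferInstanceAs (CommRing (G.left.presheaf.stalk (e₀ G)))

instance : IsLocalRing (R₀ G) := inferInstanceAs (IsLocalRing (G.left.presheaf.stalk (e₀ G)))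

/-- The spectrum of the local ring at the origin. -/
def jj : Spc (R₀ G) ⟶ G.left := G.left.fromSpecStalk (e₀ G)

instance : Mono (jj G) := inferInstanceAs (Mono (G.left.fromSpecStalk (e₀ G)))

variable {G} in
/-- Points reducing to the origin factor through the local ring. -/
theorem factor {B D : Type u} [Field B] [CommRing D] (f : Spc B ⟶ Spc κ)
    (π : D →+* B) (hs : Function.Surjective π) (hπ : ∀ x, π x = 0 → IsNilpotent x) (u : Spc D ⟶ G.left)
    (hu : spm π ≫ u = f ≫ (η[G] : 𝟙_ (Over (Spc κ)) ⟶ G).left) :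
    ∃ θ : R₀ G →+* D, spm θ ≫ jj G = u := by
  have := isLocalRing_of_nil π hs hπ
  have h1 : u (IsLocalRing.closedPoint D) = e₀ G := by
    have h2 : IsLocalHom π := by
      refine ⟨fun a ha => ?_⟩
      by_contra h
      have h3 : a ∈ IsLocalRing.maximalIdeal D := h
      have h4 : RingHom.ker π = IsLocalRing.maximalIdeal D :=
        IsLocalRing.eq_maximalIdeal (RingHom.ker_isMaximal_of_surjective π hs)
      rw [← h4, RingHom.mem_ker] at h3
      rw [h3] at ha
      exact not_isUnit_zero ha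
    have h3 : (spm π) (IsLocalRing.closedPoint B) = IsLocalRing.closedPoint D := IsLocalRing.comap_closedPoint π
    rw [← h3, ← Scheme.Hom.comp_apply, hu, Scheme.Hom.comp_apply, e₀]
    congr 1
    exact Subsingleton.elim (α := Spec (CommRingCat.of κ)) _ _
  have key : ∀ x, x = e₀ G → (∃ θ : G.left.presheaf.stalk x ⟶ CommRingCat.of D, Spec.map θ ≫ G.left.fromSpecStalk x = u) →
      ∃ θ : R₀ G →+* D, spm θ ≫ jj G = u := by
    rintro _ rfl ⟨θ, hθ⟩
    exact ⟨θ.hom, hθ⟩
  exact key _ h1 ⟨_, Scheme.Spec_stalkClosedPointTo_fromSpecStalk u⟩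

variable {G} in
theorem factor_unique {D : Type u} [CommRing D] {θ θ' : R₀ G →+* D}
    (h : spm θ ≫ jj G = spm θ' ≫ jj G) : θ = θ' :=
  spm_injective ((cancel_mono (jj G)).1 h)

theorem exists_aug : ∃ ε : R₀ G →+* κ, spm ε ≫ jj G = (η[G] : 𝟙_ (Over (Spc κ)) ⟶ G).left :=
  factor (𝟙 (Spc κ)) (RingHom.id κ) Function.surjective_id (fun x hx => by
    have : x = 0 := hx
    rw [this]
    exact IsNilpotent.zero) _ (by
    rw [Category.id_comp]
    exact (congrArg (· ≫ (η[G] : 𝟙_ (Over (Spc κ)) ⟶ G).left) (Spec.map_id (CommRingCat.of κ))).trans (Category.id_comp _))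

/-- Evaluation at the origin. -/
def aug : R₀ G →+* κ := (exists_aug G).choose

theorem spm_aug : spm (aug G) ≫ jj G = (η[G] : 𝟙_ (Over (Spc κ)) ⟶ G).left := (exists_aug G).choose_spec

/-- The constants. -/
def cst : κ →+* R₀ G := rh (jj G ≫ G.hom)

theorem spm_cst : spm (cst G) = jj G ≫ G.hom := spm_rh _

theorem aug_cst (a : κ) : aug G (cst G a) = a := by
  have h1 : (aug G).comp (cst G) = RingHom.id κ := by
    apply spm_injective
    rw [← spm_comp, spm_cst, ← Category.assoc, spm_aug]
    exact (Over.w (η[G] : 𝟙_ (Over (Spc κ)) ⟶ G)).trans (Spec.map_id _).symm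
  exact RingHom.congr_fun h1 a

theorem aug_surjective : Function.Surjective (aug G) := fun a => ⟨_, aug_cst G a⟩

theorem mem_maximalIdeal (x : R₀ G) : x ∈ IsLocalRing.maximalIdeal (R₀ G) ↔ aug G x = 0 := by
  have h4 : RingHom.ker (aug G) = IsLocalRing.maximalIdeal (R₀ G) :=
    IsLocalRing.eq_maximalIdeal (RingHom.ker_isMaximal_of_surjective _ (aug_surjective G))
  rw [← h4, RingHom.mem_ker]

section

variable {G} {B : Type u} [Field B] (f : Spc B ⟶ Spc κ)

theorem factor_pt {D : Type u} [CommRing D] (q : Spc D ⟶ Spc κ) (π : D →+* B) (hs : Function.Surjective π)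
    (hπ : ∀ x, π x = 0 → IsNilpotent x) (hq : spm π ≫ q = f) (u : Over.mk q ⟶ G)
    (hu : (Over.homMk (spm π) hq : Over.mk f ⟶ Over.mk q) ≫ u = 1) :
    ∃ θ : R₀ G →+* D, spm θ ≫ jj G = u.left ∧ (∀ a, π (θ a) = rh f (aug G a)) ∧
      ∀ a : κ, θ (cst G a) = rh q a := by
  have hu' : spm π ≫ u.left = f ≫ (η[G] : 𝟙_ (Over (Spc κ)) ⟶ G).left := by
    have h1 := congrArg (fun t => t.left) hu
    exact h1.trans one_pt_left
  obtain ⟨θ, hθ⟩ := factor f π hs hπ u.left hu'
  refine ⟨θ, hθ, fun a => ?_, fun a => ?_⟩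
  · have h1 : spm (π.comp θ) ≫ jj G = spm ((rh f).comp (aug G)) ≫ jj G := by
      rw [← spm_comp, ← spm_comp, Category.assoc, Category.assoc]
      rw [hθ, hu', spm_aug, spm_rh]
    exact RingHom.congr_fun (factor_unique h1) a
  · have h1 : spm (θ.comp (cst G)) = spm (rh q) := by
      rw [← spm_comp]
      rw [spm_cst, ← Category.assoc, hθ, spm_rh]
      exact Over.w u
    exact RingHom.congr_fun (spm_injective h1) a

theorem exists_th (v : LL f G) : ∃ θ : R₀ G →+* DualNumber B, spm θ ≫ jj G = (un f G v).1.left ∧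
    (∀ a, (θ a).fst = rh f (aug G a)) ∧ ∀ a : κ, θ (cst G a) = algebraMap B (DualNumber B) (rh f a) := by
  obtain ⟨θ, h1, h2, h3⟩ := factor_pt f (Spec.map (CommRingCat.ofHom (algebraMap B (DualNumber B))) ≫ f)
    (TrivSqZeroExt.fstHom B B B).toRingHom fstHom_surjective fstHom_nil (by
      rw [← Category.assoc]
      change (Spec.map _ ≫ Spec.map _) ≫ f = f
      rw [specMap_comp, fstHom_comp_algebraMap, CommRingCat.ofHom_id]
      erw [Spec.map_id]; exact Category.id_comp f) (un f G v).1 (un f G v).2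
  refine ⟨θ, h1, h2, fun a => ?_⟩
  rw [h3]
  exact RingHom.congr_fun (rh_comp f (algebraMap B (DualNumber B))) a

/-- The ring homomorphism attached to a tangent vector. -/
def th (v : LL f G) : R₀ G →+* DualNumber B := (exists_th f v).choose

theorem th_spec (v : LL f G) : spm (th f v) ≫ jj G = (un f G v).1.left := (exists_th f v).choose_spec.1

theorem th_fst (v : LL f G) (a : R₀ G) : (th f v a).fst = rh f (aug G a) := (exists_th f v).choose_spec.2.1 a

theorem th_cst (v : LL f G) (a : κ) :
    th f v (cst G a) = algebraMap B (DualNumber B) (rh f a) := (exists_th f v).choose_spec.2.2 a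

theorem th_eq (v : LL f G) {θ : R₀ G →+* DualNumber B} (h : spm θ ≫ jj G = (un f G v).1.left) :
    th f v = θ := factor_unique ((th_spec f v).trans h.symm)

theorem th_smul (b : B) (v : LL f G) : th f (b • v) = (scaleHom b).comp (th f v) := by
  apply th_eq
  rw [← spm_comp, Category.assoc]
  change spm (scaleHom b) ≫ spm (th f v) ≫ jj G = spm (scaleHom b) ≫ (un f G v).1.left
  rw [th_spec]

/-- Addition of tangent vectors is addition of derivations. -/
theorem th_add (v w : LL f G) (a : R₀ G) : (th f (v + w) a).snd = (th f v a).snd + (th f w a).snd := by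
  let x := (un f G v).1
  let y := (un f G w).1
  have hx : zeroSec B f ≫ x = 1 := (un f G v).2
  have hy : zeroSec B f ≫ y = 1 := (un f G w).2
  let u : Pt f (toD11 B) ⟶ G := (ev f (toD11 B) (e₁ B) e₁_sq ≫ x) * (ev f (toD11 B) (e₂ B) e₂_sq ≫ y)
  have hu1 : rm f (eqL.fst _ _) fst_comp_toD11 ≫ u =
      ev f (algebraMap B (DualNumber B)) DualNumber.eps (eps_sq B) ≫ x := by
    rw [MonObj.comp_mul, rm_ev_assoc f _ _ (e₂ B) _ 0 (by simp) rfl,
        ev_zero_comp f y hy _ _ _ rfl, _root_.mul_one, rm_ev_assoc f _ _ (e₁ B) _ DualNumber.eps (eps_sq B) rfl]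
  have hu2 : rm f (eqL.snd _ _) snd_comp_toD11 ≫ u =
      ev f (algebraMap B (DualNumber B)) DualNumber.eps (eps_sq B) ≫ y := by
    rw [MonObj.comp_mul, rm_ev_assoc f _ _ (e₁ B) _ 0 (by simp) rfl,
        ev_zero_comp f x hx _ _ _ rfl, _root_.one_mul, rm_ev_assoc f _ _ (e₂ B) _ DualNumber.eps (eps_sq B) rfl]
  have hst : (DualNumber.eps : DualNumber B) * DualNumber.eps = 0 := eps_sq B
  have hu3 : rm f (d11Hom (algebraMap B (DualNumber B)) _ _ (eps_sq B) (eps_sq B) hst)
      (d11Hom_comp _ _ _ _ _ _) ≫ u =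
      (ev f (algebraMap B (DualNumber B)) DualNumber.eps (eps_sq B) ≫ x) *
        (ev f (algebraMap B (DualNumber B)) DualNumber.eps (eps_sq B) ≫ y) := by
    rw [MonObj.comp_mul,
      rm_ev_assoc f _ _ (e₁ B) _ _ (eps_sq B) (d11Hom_e₁ _ _ _ _ _ _),
      rm_ev_assoc f _ _ (e₂ B) _ _ (eps_sq B) (d11Hom_e₂ _ _ _ _ _ _)]
  have hπ : (augD11 B).comp (toD11 B) = RingHom.id B := RingHom.ext fun b => rfl
  obtain ⟨θ, hθ, h2, h3⟩ := factor_pt f (spm (toD11 B) ≫ f) (augD11 B) augD11_surjective augD11_nil (by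
      rw [← Category.assoc, spm_comp, hπ]
      change Spec.map (𝟙 _) ≫ f = f
      rw [Spec.map_id, Category.id_comp]) u (by
      have h4 : (Over.homMk (spm (TrivSqZeroExt.fstHom B B B).toRingHom) (by
        change Spec.map _ ≫ Spec.map _ ≫ f = f
        rw [← Category.assoc, specMap_comp, fstHom_comp_algebraMap, CommRingCat.ofHom_id]
        erw [Spec.map_id]; exact Category.id_comp f) :
          Over.mk f ⟶ Pt f (algebraMap B (DualNumber B))) ≫ rm f (eqL.fst _ _) fst_comp_toD11 =
          (Over.homMk (spm (augD11 B)) (by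
            change spm (augD11 B) ≫ spm (toD11 B) ≫ f = f
            rw [← Category.assoc, spm_comp, hπ]
            change Spec.map (𝟙 _) ≫ f = f
            rw [Spec.map_id, Category.id_comp]) : Over.mk f ⟶ Pt f (toD11 B)) := by
        ext1
        exact spm_comp _ _
      rw [← h4, Category.assoc, hu1, ← Category.assoc]
      have h5 : (Over.homMk (spm (TrivSqZeroExt.fstHom B B B).toRingHom) (by
        change Spec.map _ ≫ Spec.map _ ≫ f = f
        rw [← Category.assoc, specMap_comp, fstHom_comp_algebraMap, CommRingCat.ofHom_id]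
        erw [Spec.map_id]; exact Category.id_comp f) :
          Over.mk f ⟶ Pt f (algebraMap B (DualNumber B))) ≫
          ev f (algebraMap B (DualNumber B)) DualNumber.eps (eps_sq B) = zeroSec B f := by
        ext1
        rw [Over.comp_left, ev_eps_left]
        exact Category.comp_id _
      rw [h5, hx])
  have k1 : th f v = (eqL.fst _ _).comp θ := by
    apply th_eq
    rw [← spm_comp, Category.assoc, hθ]
    have := congrArg (fun t => t.left) hu1
    rw [Over.comp_left, Over.comp_left, ev_eps_left] at this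
    exact this.trans (Category.id_comp _)
  have k2 : th f w = (eqL.snd _ _).comp θ := by
    apply th_eq
    rw [← spm_comp, Category.assoc, hθ]
    have := congrArg (fun t => t.left) hu2
    rw [Over.comp_left, Over.comp_left, ev_eps_left] at this
    exact this.trans (Category.id_comp _)
  have k3 : th f (v + w) = (d11Hom (algebraMap B (DualNumber B)) _ _ (eps_sq B) (eps_sq B) hst).comp θ := by
    apply th_eq
    rw [← spm_comp, Category.assoc, hθ]
    have := congrArg (fun t => t.left) hu3
    rw [← MonObj.comp_mul] at this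
    rw [Over.comp_left, Over.comp_left, ev_eps_left] at this
    exact this.trans (Category.id_comp _)
  rw [k3, k1, k2]
  simp only [RingHom.comp_apply]
  generalize θ a = d
  change (algebraMap B (DualNumber B) d.1.1.fst + algebraMap B (DualNumber B) d.1.1.snd * DualNumber.eps +
    algebraMap B (DualNumber B) d.1.2.snd * DualNumber.eps).snd = d.1.1.snd + d.1.2.snd
  simp [TrivSqZeroExt.algebraMap_eq_inl']

/-- The derivation attached to a tangent vector, linear in the vector. -/
def dv : LL f G →ₗ[B] (R₀ G → B) where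
  toFun v a := (th f v a).snd
  map_add' v w := funext fun a => th_add f v w a
  map_smul' b v := funext fun a => by
    rw [th_smul, RingHom.comp_apply, RingHom.id_apply]
    simp [scaleHom, dualHom_apply, TrivSqZeroExt.algebraMap_eq_inl', mul_comm]

theorem dv_apply (v : LL f G) (a : R₀ G) : dv f v a = (th f v a).snd := rfl

theorem dv_injective : Function.Injective (dv (G := G) f) := by
  intro v w h
  have h1 : th f v = th f w := by
    refine RingHom.ext fun a => TrivSqZeroExt.ext ?_ (congrFun h a)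
    rw [th_fst, th_fst]
  apply LL_ext
  ext1
  rw [← th_spec, ← th_spec, h1]

/-- Homomorphisms act by the map on local rings. -/
theorem dv_lieMap {H : Over (Spc κ)} [GrpObj H] [IsCommMonObj G] [IsCommMonObj H] (φ : EndAV.Hom G H)
    (β : R₀ H →+* R₀ G) (hβ : spm β ≫ jj H = jj G ≫ φ.toHom.left) (v : LL f G) (a : R₀ H) :
    dv f (lieMap f φ v) a = dv f v (β a) := by
  have h1 : th f (lieMap f φ v) = (th f v).comp β := by
    apply th_eq
    rw [← spm_comp, Category.assoc, hβ, ← Category.assoc, th_spec]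
    rfl
  rw [dv_apply, h1]
  rfl

end

section vec

variable {G}

/-- A functional on the cotangent space gives a ring homomorphism. -/
def thOf (l : R₀ G → κ) (h0 : ∀ x y, l (x + y) = l x + l y) (h1 : ∀ x y, l (x * y) = aug G x * l y + aug G y * l x)
    (h2 : ∀ a, l (cst G a) = 0) : R₀ G →+* DualNumber κ where
  toFun x := TrivSqZeroExt.inl (aug G x) + TrivSqZeroExt.inr (l x)
  map_one' := by
    have : l 1 = 0 := by rw [← map_one (cst G), h2]
    rw [this, map_one]
    simp
  map_mul' x y := by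
    rw [h1, map_mul]
    ext <;> simp; ring
  map_zero' := by
    have : l 0 = 0 := by rw [← map_zero (cst G), h2]
    rw [this, map_zero]
    simp
  map_add' x y := by
    rw [h0, map_add]
    ext <;> simp

/-- The tangent vector attached to a derivation. -/
theorem exists_vec (l : R₀ G → κ) (h0 : ∀ x y, l (x + y) = l x + l y)
    (h1 : ∀ x y, l (x * y) = aug G x * l y + aug G y * l x) (h2 : ∀ a, l (cst G a) = 0) :
    ∃ v : LL (𝟙 (Spc κ)) G, dv (𝟙 (Spc κ)) v = l := by
  let θ := thOf l h0 h1 h2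
  have halg : θ.comp (cst G) = algebraMap κ (DualNumber κ) := by
    refine RingHom.ext fun a => ?_
    change TrivSqZeroExt.inl (aug G (cst G a)) + TrivSqZeroExt.inr (l (cst G a)) = _
    rw [aug_cst, h2]
    simp [TrivSqZeroExt.algebraMap_eq_inl']
  let v : dpt κ (𝟙 (Spc κ)) ⟶ G := Over.homMk (spm θ ≫ jj G) (by
    rw [Category.assoc, ← spm_cst]
    refine (spm_comp _ _).trans ?_
    rw [halg]
    exact (Category.comp_id _).symm)
  have hv : v ∈ Lie G κ (𝟙 (Spc κ)) := by
    rw [mem_Lie_iff]
    ext1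
    rw [one_pt_left]
    change spm (TrivSqZeroExt.fstHom κ κ κ).toRingHom ≫ spm θ ≫ jj G = 𝟙 _ ≫ _
    have h4 : (TrivSqZeroExt.fstHom κ κ κ).toRingHom.comp θ = aug G := by
      refine RingHom.ext fun a => ?_
      change (TrivSqZeroExt.inl (aug G a) + TrivSqZeroExt.inr (l a) : DualNumber κ).fst = _
      simp
    rw [← Category.assoc, spm_comp, h4, spm_aug, Category.id_comp]
  refine ⟨K988.LieModel.mk (𝟙 (Spc κ)) G ⟨v, hv⟩, funext fun i => ?_⟩
  rw [dv_apply, th_eq (𝟙 (Spc κ)) (K988.LieModel.mk (𝟙 (Spc κ)) G ⟨v, hv⟩) (θ := θ) rfl]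
  change (TrivSqZeroExt.inl (aug G i) + TrivSqZeroExt.inr (l i) : DualNumber κ).snd = _
  simp

/-- The extension of a functional on `𝔪` to a derivation. -/
theorem exists_vec' (l : IsLocalRing.maximalIdeal (R₀ G) → κ) (h0 : ∀ x y, l (x + y) = l x + l y)
    (h1 : ∀ (a : R₀ G) (x : IsLocalRing.maximalIdeal (R₀ G)), l (a • x) = aug G a * l x) :
    ∃ v : LL (𝟙 (Spc κ)) G, ∀ x : IsLocalRing.maximalIdeal (R₀ G), dv (𝟙 (Spc κ)) v x = l x := by
  have hm : ∀ a : R₀ G, a - cst G (aug G a) ∈ IsLocalRing.maximalIdeal (R₀ G) := fun a => by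
    rw [mem_maximalIdeal, map_sub, aug_cst, sub_self]
  have hz : l 0 = 0 := by
    have := h0 0 0
    rw [add_zero] at this
    exact left_eq_add.1 this
  obtain ⟨v, hv⟩ := exists_vec (fun a => l ⟨a - cst G (aug G a), hm a⟩) (fun x y => by
      rw [← h0]
      congr 1
      apply Subtype.ext
      change x + y - cst G (aug G (x + y)) = x - _ + (y - _)
      rw [map_add, map_add]
      ring) (fun x y => by
      have h3 : aug G y * l ⟨x - cst G (aug G x), hm x⟩ =
          l (cst G (aug G y) • ⟨x - cst G (aug G x), hm x⟩) := by rw [h1, aug_cst]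
      rw [← h1, h3, ← h0]
      congr 1
      apply Subtype.ext
      change x * y - cst G (aug G (x * y)) = x * (y - _) + cst G (aug G y) * (x - _)
      rw [map_mul, map_mul]
      ring) (fun a => by
      rw [← hz]
      congr 1
      apply Subtype.ext
      change cst G a - cst G (aug G (cst G a)) = 0
      rw [aug_cst, sub_self])
  refine ⟨v, fun x => ?_⟩
  rw [hv]
  change l ⟨(x : R₀ G) - cst G (aug G x), hm x⟩ = l x
  congr 1
  apply Subtype.ext
  change (x : R₀ G) - cst G (aug G x) = x
  rw [(mem_maximalIdeal G _).1 x.2, map_zero, sub_zero]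

/-- A derivation is determined by its values on the maximal ideal. -/
theorem dv_eq_zero_iff (v : LL (𝟙 (Spc κ)) G) :
    v = 0 ↔ ∀ x : IsLocalRing.maximalIdeal (R₀ G), dv (𝟙 (Spc κ)) v x = 0 := by
  refine ⟨fun h x => by rw [h, map_zero]; rfl, fun h => dv_injective (𝟙 (Spc κ)) (funext fun a => ?_)⟩
  rw [map_zero]
  have h1 : a - cst G (aug G a) ∈ IsLocalRing.maximalIdeal (R₀ G) := by
    rw [mem_maximalIdeal, map_sub, aug_cst, sub_self]
  have h2 := h ⟨_, h1⟩
  have h3 : dv (𝟙 (Spc κ)) v (cst G (aug G a)) = 0 := by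
    rw [dv_apply, th_cst]
    simp [TrivSqZeroExt.algebraMap_eq_inl']
  have h4 : dv (𝟙 (Spc κ)) v (a - cst G (aug G a)) = dv (𝟙 (Spc κ)) v a - dv (𝟙 (Spc κ)) v (cst G (aug G a)) := by
    rw [dv_apply, map_sub]
    rfl
  rw [h3, sub_zero] at h4
  exact h4.symm.trans h2

/-- **(STT)**: functionals on the cotangent space at the origin as tangent vectors: independent functionals give
independent tangent vectors; a functional vanishing on `β 𝔪` gives a tangent vector killed by the homomorphism inducing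
`β` on local rings. -/
theorem stt [IsCommMonObj G] {n : ℕ} (l : Fin n → IsLocalRing.maximalIdeal (R₀ G) → κ)
    (h0 : ∀ i x y, l i (x + y) = l i x + l i y)
    (h1 : ∀ i (a : R₀ G) (x : IsLocalRing.maximalIdeal (R₀ G)), l i (a • x) = aug G a * l i x)
    (hl : ∀ c : Fin n → κ, (∀ x, ∑ i, c i * l i x = 0) → c = 0) :
    ∃ v : Fin n → LieS.Lie G κ (𝟙 (Spc κ)),
      (∀ c : Fin n → κ, ∏ i, (c i • v i : LieS.Lie G κ (𝟙 (Spc κ))) = 1 → c = 0) ∧
      ∀ (b : EndAV.End G) (β : R₀ G →+* R₀ G), spm β ≫ jj G = jj G ≫ b.toHom.left →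
        (∀ i (x : IsLocalRing.maximalIdeal (R₀ G)) (h : β x ∈ IsLocalRing.maximalIdeal (R₀ G)), l i ⟨β x, h⟩ = 0) →
        ∀ i, LieS.map κ (𝟙 (Spc κ)) b.toHom (v i) = 1 := by
  choose v hv using fun i => exists_vec' (l i) (h0 i) (h1 i)
  refine ⟨fun i => un (𝟙 (Spc κ)) G (v i), fun c hc => hl c fun x => ?_, fun b β hβ hb i => ?_⟩
  · have h2 : ∑ i, c i • v i = 0 := by
      have h3 := K525.HTLie.mk_prod (𝟙 (Spc κ)) G Finset.univ (fun i => c i • un (𝟙 (Spc κ)) G (v i))
      rw [hc] at h3
      exact h3.symm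
    have h3 := (dv_eq_zero_iff _).1 h2 x
    rw [map_sum, Finset.sum_apply] at h3
    simp only [map_smul, Pi.smul_apply, hv, smul_eq_mul] at h3
    exact h3
  · have h2 : lieMap (𝟙 (Spc κ)) b (v i) = 0 := by
      rw [dv_eq_zero_iff]
      intro x
      have hx : β x ∈ IsLocalRing.maximalIdeal (R₀ G) := by
        rw [mem_maximalIdeal]
        have h3 : (aug G).comp β = aug G := by
          apply factor_unique
          rw [← spm_comp, Category.assoc, hβ, ← Category.assoc, spm_aug]
          have h4 : (η[G] : 𝟙_ (Over (Spc κ)) ⟶ G) ≫ b.toHom = η[G] := IsMonHom.one_hom b.toHom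
          exact congrArg (fun t => t.left) h4
        rw [← RingHom.comp_apply, h3]
        exact (mem_maximalIdeal G _).1 x.2
      rw [dv_lieMap (𝟙 (Spc κ)) (H := G) b β hβ]
      have := hv i ⟨β x, hx⟩
      rw [hb i x hx] at this
      exact this
    exact congrArg (un (𝟙 (Spc κ)) G) h2

end vec

/-- The map induced by an endomorphism on the local ring at the origin. -/
theorem exists_beta [IsCommMonObj G] (b : EndAV.End G) : ∃ β : R₀ G →+* R₀ G, spm β ≫ jj G = jj G ≫ b.toHom.left := by
  have h4 : (η[G] : 𝟙_ (Over (Spc κ)) ⟶ G) ≫ b.toHom = η[G] := IsMonHom.one_hom b.toHom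
  have h5 : b.toHom.left (e₀ G) = e₀ G := by
    rw [e₀, ← Scheme.Hom.comp_apply]
    exact congrArg (fun t : 𝟙_ (Over (Spc κ)) ⟶ G => t.left (IsLocalRing.closedPoint κ)) h4
  have key : ∀ x, x = e₀ G → (∃ θ : G.left.presheaf.stalk x ⟶ G.left.presheaf.stalk (e₀ G),
      Spec.map θ ≫ G.left.fromSpecStalk x = G.left.fromSpecStalk (e₀ G) ≫ b.toHom.left) →
      ∃ β : R₀ G →+* R₀ G, spm β ≫ jj G = jj G ≫ b.toHom.left := by
    rintro _ rfl ⟨θ, hθ⟩
    exact ⟨θ.hom, hθ⟩
  exact key _ h5 ⟨b.toHom.left.stalkMap (e₀ G), Scheme.SpecMap_stalkMap_fromSpecStalk b.toHom.left⟩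

end K525.HTStt
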