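import Groth.Agent.AbVar.K525.HTFin
import Groth.Agent.AbVar.K525.Conv

/-!
# The final assembly of `S17997` from `HTE` and the lattice theorem `LAT`
-/

set_option autoImplicit false
universe u

open CategoryTheory MonoidalCategory CartesianMonoidalCategory MonObj GrpObj AlgebraicGeometry Limits MvPolynomial

namespace K525.LatFin

open K525.AlgC K525.AVC

/-- The conclusion of `K525.HTFin.exists_av`. -/
def Ex (p : ℕ) (k : Type u) [Field k] {K : Type} [Field K] [CharZero K] (ϖ : K) : Prop :=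
  ∃ (B : Over (Spec (CommRingCat.of k))) (_ : GrpObj B) (_ : IsCommMonObj B) (_ : IsProper B.hom)
    (_ : GeometricallyIntegral B.hom) (g : ℕ) (_ : topologicalKrullDim B.left = g)
    (_ : (minpoly ℤ ϖ).natDegree = 2 * g) (π : EndAV.End B),
    K511.HT.IsFrob p π.toHom ∧ Polynomial.eval₂ (Int.castRingHom (EndAV.End B)) π (minpoly ℤ ϖ) = 0

/-- The lattice theorem. -/
def LAT : Prop :=
  ∀ (p : ℕ) [Fact p.Prime] (k : Type u) [Field k] [Finite k], Nat.card k = p →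
    ∀ (J : Type) [Fintype J] (K : J → Type) [∀ j, Field (K j)] [∀ j, CharZero (K j)] (ϖ : ∀ j, K j),
    (∀ j, IsIntegral ℤ (ϖ j)) → (∀ j, ∀ z ∈ (minpoly ℤ (ϖ j)).aroots ℂ, ‖z‖ = Real.sqrt p) →
    (∀ j, ∀ z ∈ (minpoly ℤ (ϖ j)).aroots ℂ, z.im ≠ 0) →
    (∀ i j, minpoly ℤ (ϖ i) = minpoly ℤ (ϖ j) → i = j) → (∀ j, Ex p k (ϖ j)) →
    ∃ (B : Alg k) (ρ : (K525.Rw.ev p J K ϖ).range ≃+* End B), IsAV B ∧
      ρ ⟨K525.Rw.ev p J K ϖ (X 0), AlgHom.mem_range_self _ _⟩ = End.of (frC B)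

theorem fin (hE : K511.HT.HTE.{u}) (hL : LAT.{u})
    (p : ℕ) [Fact p.Prime] (k : Type u) [Field k] [Finite k] (hk : Nat.card k = p)
    (J : Type) [Fintype J] (K : J → Type) [∀ j, Field (K j)] [∀ j, CharZero (K j)] (ϖ : ∀ j, K j)
    (hint : ∀ j, IsIntegral ℤ (ϖ j))
    (hweil : ∀ j, ∀ z ∈ (minpoly ℤ (ϖ j)).aroots ℂ, ‖z‖ = Real.sqrt p)
    (hnr : ∀ j, ∀ z ∈ (minpoly ℤ (ϖ j)).aroots ℂ, z.im ≠ 0)
    (hinj : ∀ i j, minpoly ℤ (ϖ i) = minpoly ℤ (ϖ j) → i = j) :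
    ∃ (A : Over (Spec (CommRingCat.of k))) (_ : GrpObj A) (_ : IsCommMonObj A) (πA : A ⟶ A) (_ : IsMonHom πA)
      (hπAle : ∀ U : A.left.Opens, U ≤ πA.left ⁻¹ᵁ U)
      (ρ : (MvPolynomial.aeval ![fun j => ϖ j, fun j => (p : K j) / ϖ j] : MvPolynomial (Fin 2) ℤ →ₐ[ℤ] ((j : J) → K j)).range ≃+* EndAV.End A),
      IsProper A.hom ∧ GeometricallyIntegral A.hom ∧ πA.left.base = 𝟙 _ ∧
      (∀ (U : A.left.Opens) (s : Γ(A.left, U)), (πA.left.appLE U U (hπAle U)).hom s = s ^ p) ∧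
      ρ ⟨(MvPolynomial.aeval ![fun j => ϖ j, fun j => (p : K j) / ϖ j] : MvPolynomial (Fin 2) ℤ →ₐ[ℤ] ((j : J) → K j)) (X 0), AlgHom.mem_range_self _ _⟩ = EndAV.End.of πA := by
  obtain ⟨B, ρ, hB, hρ⟩ := hL p k hk J K ϖ hint hweil hnr hinj (fun j =>
    K525.HTFin.exists_av hE p k hk (K j) (ϖ j) (hint j) (hweil j) (hnr j))
  obtain ⟨h1, h2⟩ := hB
  let A : Over (Spec (CommRingCat.of k)) := B.obj.X
  have hA : IsProper A.hom := h1
  have hmk : K525.AVC.mk A = B := rfl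
  have hF := K520.Frob.isFrob_fr k A
  subst hk
  refine ⟨A, inferInstance, inferInstance, K520.Frob.fr k A, inferInstance, hF.le, ρ.trans (K525.Conv.endE A), h1, h2,
    hF.base, hF.app, ?_⟩
  show K525.Conv.endE A (ρ _) = _
  rw [hρ]
  rfl

end K525.LatFin
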