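import Groth.Agent.AbVar.K525.AbsOrd
import Mathlib.GroupTheory.QuotientGroup.Finite
import Mathlib.Algebra.Module.ZMod
import Mathlib.CategoryTheory.Preadditive.Basic

/-!
# The contravariant functor `Hom(-, A)` in an abelian category with an order function

`D1 ord A`: `#Hom(G, A) ≤ ord G` for every `G` of finite order. `Nice`: divisible objects with finite torsion, all of whose
finite subobjects `G` satisfy `#Hom(G, A) = ord G` and `Hom(X, A) → Hom(G, A)` is surjective.
-/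

set_option autoImplicit false

universe v u

open CategoryTheory Limits K525.AbsOrd

namespace K525.AbsD

variable {C : Type u} [Category.{v} C] [Abelian C]

/-- `#Hom(G, A) ≤ ord G` for all `G` of finite order. -/
def D1 (ord : C → ℕ) (A : C) : Prop := ∀ G : C, ord G ≠ 0 → Finite (G ⟶ A) ∧ Nat.card (G ⟶ A) ≤ ord G

/-- The cokernel part of `Hom(-, A)`. -/
noncomputable def kerEquiv (S : ShortComplex C) (hS : S.ShortExact) (A : C) :
    (S.X₃ ⟶ A) ≃ (Preadditive.leftComp A S.f).ker where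
  toFun g := ⟨S.g ≫ g, by
    rw [AddMonoidHom.mem_ker]
    show S.f ≫ S.g ≫ g = 0
    rw [← Category.assoc, S.zero, zero_comp]⟩
  invFun x := haveI := hS.epi_g; hS.exact.desc x.1 x.2
  left_inv g := by
    have := hS.epi_g
    rw [← cancel_epi S.g]
    exact hS.exact.g_desc _ _
  right_inv x := by
    have := hS.epi_g
    apply Subtype.ext
    exact hS.exact.g_desc _ _

theorem card_exact (S : ShortComplex C) (hS : S.ShortExact) (A : C) :
    Nat.card (S.X₂ ⟶ A) = Nat.card (Preadditive.leftComp A S.f).range * Nat.card (S.X₃ ⟶ A) := by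
  rw [AddSubgroup.card_eq_card_quotient_mul_card_addSubgroup (Preadditive.leftComp A S.f).ker,
    Nat.card_congr (kerEquiv S hS A),
    Nat.card_congr (QuotientAddGroup.quotientKerEquivRange (Preadditive.leftComp A S.f)).toEquiv]

theorem finite_of_exact (S : ShortComplex C) (hS : S.ShortExact) (A : C) (h1 : Finite (S.X₁ ⟶ A))
    (h3 : Finite (S.X₃ ⟶ A)) : Finite (S.X₂ ⟶ A) := by
  have e := QuotientAddGroup.quotientKerEquivRange (Preadditive.leftComp A S.f)
  have : Finite ((S.X₂ ⟶ A) ⧸ (Preadditive.leftComp A S.f).ker) := Finite.of_equiv _ e.symm.toEquiv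
  have : Finite (Preadditive.leftComp A S.f).ker := Finite.of_equiv _ (kerEquiv S hS A)
  exact Finite.of_addSubgroup_quotient (Preadditive.leftComp A S.f).ker

variable {ord : C → ℕ} (h : IsOrd ord) {A : C} (hD : D1 ord A)
include h hD

theorem perf_of_shortExact (S : ShortComplex C) (hS : S.ShortExact) (h2 : ord S.X₂ ≠ 0)
    (hP : Nat.card (S.X₂ ⟶ A) = ord S.X₂) :
    Nat.card (S.X₁ ⟶ A) = ord S.X₁ ∧ Nat.card (S.X₃ ⟶ A) = ord S.X₃ ∧
      ∀ g : S.X₁ ⟶ A, ∃ k : S.X₂ ⟶ A, S.f ≫ k = g := by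
  have := hS.mono_f
  have := hS.epi_g
  have h1 : ord S.X₁ ≠ 0 := h.ne_zero_of_mono S.f h2
  have h3 : ord S.X₃ ≠ 0 := h.ne_zero_of_epi S.g h2
  obtain ⟨f1, c1⟩ := hD _ h1
  obtain ⟨f3, c3⟩ := hD _ h3
  have hc := card_exact S hS A
  have hr : Nat.card (Preadditive.leftComp A S.f).range ≤ Nat.card (S.X₁ ⟶ A) :=
    Nat.card_le_card_of_injective _ Subtype.val_injective
  rw [hP, h.mul S hS] at hc
  have p1 : 0 < ord S.X₁ := Nat.pos_of_ne_zero h1
  have p3 : 0 < ord S.X₃ := Nat.pos_of_ne_zero h3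
  have hr' : Nat.card (Preadditive.leftComp A S.f).range ≤ ord S.X₁ := hr.trans c1
  have e3 : Nat.card (S.X₃ ⟶ A) = ord S.X₃ := by
    by_contra hne
    have : Nat.card (S.X₃ ⟶ A) < ord S.X₃ := lt_of_le_of_ne c3 hne
    have : Nat.card (Preadditive.leftComp A S.f).range * Nat.card (S.X₃ ⟶ A) < ord S.X₁ * ord S.X₃ :=
      Nat.mul_lt_mul_of_le_of_lt hr' this p1
    omega
  rw [e3] at hc
  have er : ord S.X₁ = Nat.card (Preadditive.leftComp A S.f).range := Nat.eq_of_mul_eq_mul_right p3 hc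
  have e1 : Nat.card (S.X₁ ⟶ A) = ord S.X₁ := le_antisymm c1 (er ▸ hr)
  refine ⟨e1, e3, ?_⟩
  have ht : (Preadditive.leftComp A S.f).range = ⊤ :=
    AddSubgroup.eq_top_of_card_eq _ (by rw [e1, er])
  intro g
  have : g ∈ (Preadditive.leftComp A S.f).range := by rw [ht]; trivial
  obtain ⟨k, hk⟩ := this
  exact ⟨k, hk⟩

theorem perf_of_mono {G' G : C} (i : G' ⟶ G) [Mono i] (h2 : ord G ≠ 0) (hP : Nat.card (G ⟶ A) = ord G) :
    Nat.card (G' ⟶ A) = ord G' ∧ Nat.card (cokernel i ⟶ A) = ord (cokernel i) ∧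
      ∀ g : G' ⟶ A, ∃ k : G ⟶ A, i ≫ k = g :=
  perf_of_shortExact h hD (ShortComplex.mk i (cokernel.π i) (cokernel.condition i))
    { exact := ShortComplex.exact_cokernel i
      mono_f := inferInstance
      epi_g := inferInstance } h2 hP

theorem perf_of_epi {G G' : C} (q : G ⟶ G') [Epi q] (h2 : ord G ≠ 0) (hP : Nat.card (G ⟶ A) = ord G) :
    Nat.card (G' ⟶ A) = ord G' :=
  (perf_of_shortExact h hD (ShortComplex.mk (kernel.ι q) q (kernel.condition q))
    { exact := ShortComplex.exact_kernel q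
      mono_f := inferInstance
      epi_g := inferInstance } h2 hP).2.1

omit h hD in
theorem smul_id_comp {X Y : C} (m : ℕ) (f : X ⟶ Y) : (m • 𝟙 X) ≫ f = m • f := by
  rw [Preadditive.nsmul_comp, Category.id_comp]

omit h hD in
theorem comp_smul_id {X Y : C} (m : ℕ) (f : X ⟶ Y) : f ≫ (m • 𝟙 Y) = m • f := by
  rw [Preadditive.comp_nsmul, Category.comp_id]

omit h hD in
theorem smul_ker_ι (X : C) (m : ℕ) : m • kernel.ι (m • 𝟙 X) = 0 :=
  (comp_smul_id m (kernel.ι (m • 𝟙 X))).symm.trans (kernel.condition _)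

/-- Divisible objects with finite torsion satisfying duality with respect to `A`. -/
structure Nice (ord : C → ℕ) (A X : C) : Prop where
  epi : ∀ m : ℕ, m ≠ 0 → Epi (m • 𝟙 X)
  fin : ∀ m : ℕ, m ≠ 0 → ord (kernel (m • 𝟙 X)) ≠ 0
  ext : ∀ (G : C) (i : G ⟶ X) [Mono i], ord G ≠ 0 →
    Nat.card (G ⟶ A) = ord G ∧ ∀ g : G ⟶ A, ∃ k : X ⟶ A, i ≫ k = g

omit h hD in
/-- The torsion of a subobject. -/
theorem torsion_sub {X Y : C} (u : X ⟶ Y) [Mono u] (m : ℕ) :
    ∃ j : kernel (m • 𝟙 X) ⟶ kernel (m • 𝟙 Y), Mono j ∧ j ≫ kernel.ι _ = kernel.ι _ ≫ u := by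
  have hz : (kernel.ι (m • 𝟙 X) ≫ u) ≫ (m • 𝟙 Y) = 0 := by
    rw [comp_smul_id, ← Preadditive.nsmul_comp, smul_ker_ι, zero_comp]
  refine ⟨kernel.lift _ (kernel.ι (m • 𝟙 X) ≫ u) hz, ?_, kernel.lift_ι _ _ _⟩
  have : Mono (kernel.lift _ (kernel.ι (m • 𝟙 X) ≫ u) hz ≫ kernel.ι (m • 𝟙 Y)) := by
    rw [kernel.lift_ι]; infer_instance
  exact mono_of_mono _ (kernel.ι (m • 𝟙 Y))

/-- Every subobject of finite order lies in some torsion. -/
theorem Nice.mk' {X : C} (he : ∀ m : ℕ, m ≠ 0 → Epi (m • 𝟙 X)) (hf : ∀ m : ℕ, m ≠ 0 → ord (kernel (m • 𝟙 X)) ≠ 0)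
    (hc : ∀ m : ℕ, m ≠ 0 → ord (kernel (m • 𝟙 X)) ≤ Nat.card ((X ⟶ A) ⧸ (nsmulAddMonoidHom m : (X ⟶ A) →+ (X ⟶ A)).range)) :
    Nice ord A X := by
  refine ⟨he, hf, ?_⟩
  intro G i _ hG
  -- the torsion subobject
  have hm : ord G ≠ 0 := hG
  set m := ord G with hmdef
  have hz : i ≫ (m • 𝟙 X) = 0 := by rw [comp_smul_id, ← smul_id_comp, h.nsmul G, zero_comp]
  have hi' : Mono (kernel.lift _ i hz) := by
    have : Mono (kernel.lift _ i hz ≫ kernel.ι (m • 𝟙 X)) := by rw [kernel.lift_ι]; infer_instance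
    exact mono_of_mono _ (kernel.ι (m • 𝟙 X))
  have := he m hm
  -- the kernel of restriction to the torsion is `m Hom(X, A)`
  let res := Preadditive.leftComp A (kernel.ι (m • 𝟙 X))
  have hker : res.ker ≤ (nsmulAddMonoidHom m : (X ⟶ A) →+ (X ⟶ A)).range := by
    intro g hg
    have hg' : kernel.ι (m • 𝟙 X) ≫ g = 0 := hg
    have hex := ShortComplex.exact_kernel (m • 𝟙 X)
    refine ⟨hex.desc g hg', ?_⟩
    have h1 := hex.g_desc g hg'
    refine Eq.trans ?_ h1
    exact (smul_id_comp m (hex.desc g hg')).symm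
  obtain ⟨fT, cT⟩ := hD _ (hf m hm)
  have hfr : Finite res.range := inferInstance
  have hq : Finite ((X ⟶ A) ⧸ res.ker) :=
    Finite.of_equiv _ (QuotientAddGroup.quotientKerEquivRange res).symm.toEquiv
  have h1 : Nat.card ((X ⟶ A) ⧸ (nsmulAddMonoidHom m : (X ⟶ A) →+ (X ⟶ A)).range) ≤ Nat.card ((X ⟶ A) ⧸ res.ker) := by
    have hsurj : Function.Surjective
        (QuotientAddGroup.map res.ker (nsmulAddMonoidHom m : (X ⟶ A) →+ (X ⟶ A)).range (AddMonoidHom.id _)
          (by simpa using hker)) := by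
      intro x
      obtain ⟨y, rfl⟩ := QuotientAddGroup.mk_surjective x
      exact ⟨(y : (X ⟶ A) ⧸ res.ker), rfl⟩
    exact Nat.card_le_card_of_surjective _ hsurj
  rw [Nat.card_congr (QuotientAddGroup.quotientKerEquivRange res).toEquiv] at h1
  have h2 : Nat.card res.range ≤ Nat.card (kernel (m • 𝟙 X) ⟶ A) :=
    Nat.card_le_card_of_injective _ Subtype.val_injective
  have hcm := hc m hm
  have e1 : Nat.card (kernel (m • 𝟙 X) ⟶ A) = ord (kernel (m • 𝟙 X)) := by omega
  have e2 : Nat.card res.range = Nat.card (kernel (m • 𝟙 X) ⟶ A) := by omega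
  have ht : res.range = ⊤ := AddSubgroup.eq_top_of_card_eq _ e2
  obtain ⟨c1, -, c3⟩ := perf_of_mono h hD (kernel.lift _ i hz) (hf m hm) e1
  refine ⟨c1, fun g => ?_⟩
  obtain ⟨k, hk⟩ := c3 g
  have : k ∈ res.range := by rw [ht]; trivial
  obtain ⟨l, hl⟩ := this
  have hl' : kernel.ι (m • 𝟙 X) ≫ l = k := hl
  refine ⟨l, ?_⟩
  rw [← hk, ← hl', ← Category.assoc, kernel.lift_ι]

omit hD in
/-- Closure of the duality property under direct sums. -/
theorem Nice.prod {X Y : C} (hX : Nice ord A X) (hY : Nice ord A Y) : Nice ord A (X ⊞ Y) := by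
  have hext : ∀ (G : C) (i : G ⟶ X ⊞ Y) [Mono i], ord G ≠ 0 →
      Nat.card (G ⟶ A) = ord G ∧ ∀ g : G ⟶ A, ∃ k : X ⊞ Y ⟶ A, i ≫ k = g := by
    intro G i _ hG
    -- the subobject `G ∩ X` and the quotient inside `Y`
    let p : G ⟶ Y := i ≫ biprod.snd
    let K := kernel p
    let a : K ⟶ X := kernel.ι p ≫ i ≫ biprod.fst
    have ha : Mono a := by
      rw [Preadditive.mono_iff_cancel_zero]
      intro P g hg
      rw [← cancel_mono (kernel.ι p), zero_comp, ← cancel_mono i, zero_comp]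
      apply biprod.hom_ext
      · rw [zero_comp]; simpa [a] using hg
      · rw [zero_comp, Category.assoc, Category.assoc]
        show g ≫ kernel.ι p ≫ p = 0
        rw [kernel.condition, comp_zero]
    let b : Abelian.image p ⟶ Y := Abelian.image.ι p
    have hKne : ord K ≠ 0 := h.ne_zero_of_mono (kernel.ι p) hG
    have hIne : ord (Abelian.image p) ≠ 0 := h.ne_zero_of_epi (Abelian.factorThruImage p) hG
    obtain ⟨cK, eK⟩ := hX.ext K a hKne
    obtain ⟨cI, eI⟩ := hY.ext _ b hIne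
    let S : ShortComplex C := ShortComplex.mk (kernel.ι p) (Abelian.factorThruImage p) (by
      rw [← cancel_mono (Abelian.image.ι p), Category.assoc, Abelian.image.fac, kernel.condition, zero_comp])
    have hS : S.ShortExact :=
      { exact := by
          rw [ShortComplex.exact_iff_exact_up_to_refinements]
          intro T x hx
          have hx' : x ≫ p = 0 := by
            have : x ≫ Abelian.factorThruImage p = 0 := hx
            rw [← Abelian.image.fac p, ← Category.assoc, this, zero_comp]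
          exact ⟨T, 𝟙 T, inferInstance, kernel.lift p x hx', by simp [S]⟩
        mono_f := inferInstanceAs (Mono (kernel.ι p))
        epi_g := inferInstanceAs (Epi (Abelian.factorThruImage p)) }
    have hsurj : ∀ g : K ⟶ A, ∃ k : X ⊞ Y ⟶ A, kernel.ι p ≫ i ≫ k = g := by
      intro g
      obtain ⟨l, hl⟩ := eK g
      refine ⟨biprod.fst ≫ l, ?_⟩
      rw [← hl]
      simp [a]
    refine ⟨?_, ?_⟩
    · have hc := card_exact S hS A
      have ht : (Preadditive.leftComp A S.f).range = ⊤ := by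
        rw [eq_top_iff]
        intro g _
        obtain ⟨k, hk⟩ := hsurj g
        exact ⟨i ≫ k, hk⟩
      have h2 : Nat.card (Preadditive.leftComp A S.f).range = Nat.card (K ⟶ A) := by
        rw [ht]; exact Nat.card_congr AddSubgroup.topEquiv.toEquiv
      have hm := h.mul S hS
      have hc' : Nat.card (G ⟶ A) = ord K * ord (Abelian.image p) := by
        rw [← cK, ← cI, ← h2]; exact hc
      rw [hc']
      exact hm.symm
    · intro g
      obtain ⟨k, hk⟩ := hsurj (kernel.ι p ≫ g)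
      have hz : S.f ≫ (g - i ≫ k) = 0 := by
        show kernel.ι p ≫ (g - i ≫ k) = 0
        rw [Preadditive.comp_sub, hk, sub_self]
      have := hS.epi_g
      obtain ⟨l, hl⟩ := eI (hS.exact.desc (g - i ≫ k) hz)
      have hd := hS.exact.g_desc (g - i ≫ k) hz
      refine ⟨k + biprod.snd ≫ l, ?_⟩
      have h3 : i ≫ biprod.snd ≫ l = g - i ≫ k := by
        rw [← hd]
        show _ = Abelian.factorThruImage p ≫ _
        rw [← hl, ← Category.assoc, ← Category.assoc]
        show _ = (Abelian.factorThruImage p ≫ Abelian.image.ι p) ≫ l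
        rw [Abelian.image.fac]
      rw [Preadditive.comp_add, h3]
      abel
  have hep : ∀ m : ℕ, m ≠ 0 → Epi (m • 𝟙 (X ⊞ Y)) := by
    intro m hm
    have := hX.epi m hm
    have := hY.epi m hm
    have : m • 𝟙 (X ⊞ Y) = biprod.map (m • 𝟙 X) (m • 𝟙 Y) := by
      apply biprod.hom_ext
      · rw [biprod.map_fst, smul_id_comp, comp_smul_id]
      · rw [biprod.map_snd, smul_id_comp, comp_smul_id]
    rw [this]
    infer_instance
  refine ⟨hep, ?_, hext⟩
  intro m hm
  -- the torsion of the direct sum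
  let K := kernel (m • 𝟙 (X ⊞ Y))
  have h1 : (kernel.ι (m • 𝟙 (X ⊞ Y)) ≫ biprod.fst) ≫ (m • 𝟙 X) = 0 := by
    rw [comp_smul_id, ← Preadditive.nsmul_comp, smul_ker_ι, zero_comp]
  have h2 : (kernel.ι (m • 𝟙 (X ⊞ Y)) ≫ biprod.snd) ≫ (m • 𝟙 Y) = 0 := by
    rw [comp_smul_id, ← Preadditive.nsmul_comp, smul_ker_ι, zero_comp]
  let f : K ⟶ kernel (m • 𝟙 X) ⊞ kernel (m • 𝟙 Y) := biprod.lift (kernel.lift _ _ h1) (kernel.lift _ _ h2)
  have hf : Mono f := by
    rw [Preadditive.mono_iff_cancel_zero]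
    intro P g hg
    have h3 : g ≫ kernel.ι (m • 𝟙 (X ⊞ Y)) ≫ biprod.fst = 0 := by
      have : g ≫ f ≫ biprod.fst ≫ kernel.ι _ = 0 := by rw [← Category.assoc, hg, zero_comp]
      simpa [f] using this
    have h4 : g ≫ kernel.ι (m • 𝟙 (X ⊞ Y)) ≫ biprod.snd = 0 := by
      have : g ≫ f ≫ biprod.snd ≫ kernel.ι _ = 0 := by rw [← Category.assoc, hg, zero_comp]
      simpa [f] using this
    rw [← cancel_mono (kernel.ι (m • 𝟙 (X ⊞ Y))), zero_comp]
    apply biprod.hom_ext
    · rw [zero_comp, Category.assoc, h3]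
    · rw [zero_comp, Category.assoc, h4]
  apply h.ne_zero_of_mono f
  rw [h.prod]
  exact Nat.mul_ne_zero (hX.fin m hm) (hY.fin m hm)

/-- No nonzero torsion-free objects. -/
def G0 (C : Type u) [Category.{v} C] [Abelian C] : Prop :=
  ∀ T : C, (∀ m : ℕ, m ≠ 0 → Mono (m • 𝟙 T)) → IsZero T

omit hD in
/-- A morphism out of a nice object through which all morphisms to `A` factor is a monomorphism. -/
theorem Nice.mono_of_factors (hG0 : G0 C) {Y Z : C} (hY : Nice ord A Y) (f : Y ⟶ Z)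
    (hf : ∀ g : Y ⟶ A, ∃ g' : Z ⟶ A, f ≫ g' = g) : Mono f := by
  have hz : IsZero (kernel f) := by
    apply hG0
    intro m hm
    apply h.mono_of_kernel
    obtain ⟨j, hj, hjι⟩ := torsion_sub (kernel.ι f) m
    have hne : ord (kernel (m • 𝟙 (kernel f))) ≠ 0 := h.ne_zero_of_mono j (hY.fin m hm)
    obtain ⟨c, e⟩ := hY.ext _ (kernel.ι (m • 𝟙 (kernel f)) ≫ kernel.ι f) hne
    rw [← c]
    have hu : ∀ g : kernel (m • 𝟙 (kernel f)) ⟶ A, g = 0 := by
      intro g
      obtain ⟨k, rfl⟩ := e g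
      obtain ⟨l, rfl⟩ := hf k
      rw [Category.assoc, ← Category.assoc (kernel.ι f), kernel.condition, zero_comp, comp_zero]
    have : Unique (kernel (m • 𝟙 (kernel f)) ⟶ A) := ⟨⟨0⟩, hu⟩
    exact Nat.card_unique
  rw [Preadditive.mono_iff_cancel_zero]
  intro P g hg
  have : g = kernel.lift f g hg ≫ kernel.ι f := (kernel.lift_ι _ _ _).symm
  rw [this, hz.eq_zero_of_src (kernel.ι f), comp_zero]

omit hD in
/-- A subobject with the same torsion, divisible, is everything. -/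
theorem isIso_of_torsion (hG0 : G0 C) {Y Z : C} (u : Y ⟶ Z) [Mono u] (he : ∀ m : ℕ, m ≠ 0 → Epi (m • 𝟙 Y))
    (hZ : ∀ m : ℕ, m ≠ 0 → ord (kernel (m • 𝟙 Z)) ≠ 0)
    (hle : ∀ m : ℕ, m ≠ 0 → ord (kernel (m • 𝟙 Z)) ≤ ord (kernel (m • 𝟙 Y))) : IsIso u := by
  have hz : IsZero (cokernel u) := by
    apply hG0
    intro m hm
    have := he m hm
    obtain ⟨j, hj, hjι⟩ := torsion_sub u m
    have hji : IsIso j := h.isIso_of_mono j (hZ m hm) (hle m hm)
    rw [Preadditive.mono_iff_cancel_zero]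
    intro P x hx
    -- lift `x` to `Z`
    obtain ⟨P', π, hπ, x', hx'⟩ := surjective_up_to_refinements_of_epi (cokernel.π u) x
    have h1 : (m • x') ≫ cokernel.π u = 0 := by
      rw [Preadditive.nsmul_comp, ← hx', ← Preadditive.comp_nsmul, ← comp_smul_id, hx, comp_zero]
    obtain ⟨P'', π', hπ', y, hy⟩ := (ShortComplex.exact_cokernel u).exact_up_to_refinements (m • x') h1
    obtain ⟨P3, π3, hπ3, y', hy'⟩ := surjective_up_to_refinements_of_epi (m • 𝟙 Y) y
    have hy2 : (π3 ≫ π' ≫ x' - y' ≫ u) ≫ (m • 𝟙 Z) = 0 := by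
      have e1 : π' ≫ (m • x') = y ≫ u := hy
      rw [comp_smul_id] at hy'
      rw [comp_smul_id, nsmul_sub, sub_eq_zero, ← Preadditive.comp_nsmul, ← Preadditive.comp_nsmul, e1,
        ← Category.assoc, hy', Preadditive.nsmul_comp]
    have h4 : (π3 ≫ π' ≫ x' - y' ≫ u) ≫ cokernel.π u = 0 := by
      have e2 : π3 ≫ π' ≫ x' - y' ≫ u = kernel.lift _ _ hy2 ≫ inv j ≫ kernel.ι (m • 𝟙 Y) ≫ u := by
        rw [← hjι, IsIso.inv_hom_id_assoc, kernel.lift_ι]
      rw [e2]
      simp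
    rw [Preadditive.sub_comp, Category.assoc, Category.assoc, Category.assoc, cokernel.condition, comp_zero,
      sub_zero, ← hx'] at h4
    rw [← cancel_epi π, ← cancel_epi π', ← cancel_epi π3, comp_zero, comp_zero, comp_zero]
    exact h4
  have : Epi u := by
    rw [Preadditive.epi_iff_cancel_zero]
    intro P g hg
    have : g = cokernel.π u ≫ cokernel.desc u g hg := (cokernel.π_desc _ _ _).symm
    rw [this, hz.eq_zero_of_tgt (cokernel.π u), zero_comp]
  exact isIso_of_mono_of_epi u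

end K525.AbsD
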