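import Groth.Agent.AbVar.K525.AbsD
import Mathlib.RingTheory.Noetherian.Basic
import Mathlib.RingTheory.Nakayama
import Mathlib.Algebra.Module.Submodule.Map
import Mathlib.RingTheory.PrincipalIdealDomain
import Mathlib.Algebra.Module.Torsion.Basic

/-!
# Full faithfulness and essential surjectivity of `Hom(-, A)` in an abelian category with an order function
-/

set_option autoImplicit false

universe w v u

open CategoryTheory Limits ZeroObject K525.AbsOrd K525.AbsD

namespace K525.AbsFF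

variable {C : Type u} [Category.{v} C] [Abelian C]
variable {ord : C → ℕ} (h : IsOrd ord) {A : C} (hD : D1 ord A)

attribute [local instance] Abelian.hasFiniteBiproducts

/-- Divisible subobjects of nice objects are nice. -/
theorem _root_.K525.AbsD.Nice.sub (h : IsOrd ord) {X B : C} (hX : Nice ord A X) (u : B ⟶ X) [Mono u]
    (he : ∀ m : ℕ, m ≠ 0 → Epi (m • 𝟙 B)) : Nice ord A B := by
  refine ⟨he, ?_, ?_⟩
  · intro m hm
    obtain ⟨j, hj, -⟩ := torsion_sub u m
    exact h.ne_zero_of_mono j (hX.fin m hm)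
  · intro G i _ hG
    obtain ⟨c, e⟩ := hX.ext G (i ≫ u) hG
    refine ⟨c, fun g => ?_⟩
    obtain ⟨k, hk⟩ := e g
    exact ⟨u ≫ k, by rw [← hk, Category.assoc]⟩

theorem epi_smul_of_epi {X Y : C} (q : X ⟶ Y) [Epi q] (m : ℕ) (hm : Epi (m • 𝟙 X)) : Epi (m • 𝟙 Y) := by
  have : Epi (q ≫ (m • 𝟙 Y)) := by
    rw [comp_smul_id, ← smul_id_comp]; exact epi_comp _ _
  exact epi_of_epi q _

/-- Quotients of nice objects by subobjects of finite order are nice. -/
theorem _root_.K525.AbsD.Nice.quot (h : IsOrd ord) (hD : D1 ord A) {X Y : C} (hX : Nice ord A X) (q : X ⟶ Y) [Epi q]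
    (hq : ord (kernel q) ≠ 0) : Nice ord A Y := by
  have hext : ∀ (G : C) (i : G ⟶ Y) [Mono i], ord G ≠ 0 →
      Nat.card (G ⟶ A) = ord G ∧ ∀ g : G ⟶ A, ∃ k : Y ⟶ A, i ≫ k = g := by
    intro G i _ hG
    let P := pullback i q
    let a : P ⟶ X := pullback.snd i q
    let b : P ⟶ G := pullback.fst i q
    have hab : b ≫ i = a ≫ q := pullback.condition
    have hb : Epi b := inferInstanceAs (Epi (pullback.fst i q))
    have ha : Mono a := inferInstanceAs (Mono (pullback.snd i q))
    -- the kernel of `b` is the kernel of `q`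
    have hkb : ord (kernel b) ≠ 0 := by
      have hz : (kernel.ι b ≫ a) ≫ q = 0 := by
        rw [Category.assoc, ← hab, ← Category.assoc, kernel.condition, zero_comp]
      have hmono : Mono (kernel.lift q _ hz) := by
        have : Mono (kernel.lift q _ hz ≫ kernel.ι q) := by rw [kernel.lift_ι]; exact mono_comp _ _
        exact mono_of_mono _ (kernel.ι q)
      exact h.ne_zero_of_mono (kernel.lift q _ hz) hq
    have hP : ord P ≠ 0 := by
      rw [h.epi b]
      exact Nat.mul_ne_zero hkb hG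
    obtain ⟨cP, eP⟩ := hX.ext P a hP
    refine ⟨perf_of_epi h hD b hP cP, fun g => ?_⟩
    obtain ⟨k, hk⟩ := eP (b ≫ g)
    have hkq : kernel.ι q ≫ k = 0 := by
      -- the kernel of `q` lifts to the pullback
      let l : kernel q ⟶ P := pullback.lift 0 (kernel.ι q) (by rw [zero_comp, kernel.condition])
      have h1 : l ≫ a = kernel.ι q := pullback.lift_snd _ _ _
      have h2 : l ≫ b = 0 := pullback.lift_fst _ _ _
      rw [← h1, Category.assoc, hk, ← Category.assoc, h2, zero_comp]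
    have hex := ShortComplex.exact_kernel q
    refine ⟨hex.desc k hkq, ?_⟩
    have hd : q ≫ hex.desc k hkq = k := hex.g_desc k hkq
    rw [← cancel_epi b, ← Category.assoc, hab, Category.assoc, hd, hk]
  refine ⟨fun m hm => epi_smul_of_epi q m (hX.epi m hm), ?_, hext⟩
  intro m hm
  -- the torsion of `Y` is a quotient of a finite subobject of `X`
  let i := kernel.ι (m • 𝟙 Y)
  let P := pullback i q
  let a : P ⟶ X := pullback.snd i q
  let b : P ⟶ kernel (m • 𝟙 Y) := pullback.fst i q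
  have hab : b ≫ i = a ≫ q := pullback.condition
  have hb : Epi b := inferInstanceAs (Epi (pullback.fst i q))
  have ha : Mono a := inferInstanceAs (Mono (pullback.snd i q))
  -- multiplication by `m` maps `P` to the kernel of `q`
  have hz : (m • a) ≫ q = 0 := by
    rw [Preadditive.nsmul_comp, ← hab, ← Preadditive.comp_nsmul, smul_ker_ι, comp_zero]
  let f : P ⟶ kernel q := kernel.lift q (m • a) hz
  have hk : ord (kernel f) ≠ 0 := by
    have hz2 : (kernel.ι f ≫ a) ≫ (m • 𝟙 X) = 0 := by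
      rw [comp_smul_id, ← Preadditive.comp_nsmul]
      have : m • a = f ≫ kernel.ι q := (kernel.lift_ι _ _ _).symm
      rw [this, ← Category.assoc, kernel.condition, zero_comp]
    have hmono : Mono (kernel.lift _ _ hz2) := by
      have : Mono (kernel.lift _ _ hz2 ≫ kernel.ι (m • 𝟙 X)) := by rw [kernel.lift_ι]; exact mono_comp _ _
      exact mono_of_mono _ (kernel.ι (m • 𝟙 X))
    exact h.ne_zero_of_mono (kernel.lift _ _ hz2) (hX.fin m hm)
  have hI : ord (Abelian.image f) ≠ 0 := h.ne_zero_of_mono (Abelian.image.ι f) hq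
  have hP : ord P ≠ 0 := by
    have h1 := h.epi (Abelian.factorThruImage f)
    have h2 : ord (kernel (Abelian.factorThruImage f)) ≠ 0 := by
      have hz3 : kernel.ι (Abelian.factorThruImage f) ≫ f = 0 := by
        have e1 : kernel.ι (Abelian.factorThruImage f) ≫ f =
            kernel.ι (Abelian.factorThruImage f) ≫ (Abelian.factorThruImage f ≫ Abelian.image.ι f) := by
          rw [Abelian.image.fac f]
        rw [e1, ← Category.assoc, kernel.condition, zero_comp]
      have hmono : Mono (kernel.lift f _ hz3) := by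
        have : Mono (kernel.lift f _ hz3 ≫ kernel.ι f) := by rw [kernel.lift_ι]; infer_instance
        exact mono_of_mono _ (kernel.ι f)
      exact h.ne_zero_of_mono (kernel.lift f _ hz3) hk
    rw [h1]
    exact Nat.mul_ne_zero h2 hI
  exact h.ne_zero_of_epi b hP


include h in
/-- Double annihilator: a nice subobject `Y` of a nice object `X` with `Hom(X, A)` finitely generated and
`Hom(X, A) → Hom(Y, A)` surjective is cut out by the morphisms `X ⟶ A` vanishing on it. -/
theorem factors_of_annihilates (hG0 : G0 C) {X Y : C} (hX : Nice ord A X) (hY : Nice ord A Y) (u : Y ⟶ X)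
    [Mono u] (hfin : Module.Finite ℤ (X ⟶ A)) (hsurj : ∀ g : Y ⟶ A, ∃ k : X ⟶ A, u ≫ k = g) :
    ∃ (n : ℕ) (k : Fin n → (X ⟶ A)), (∀ i, u ≫ k i = 0) ∧ (∀ l : X ⟶ A, u ≫ l = 0 → l ∈ AddSubgroup.closure (Set.range k)) ∧
      ∃ (e : Y ≅ kernel (biproduct.lift k)), e.hom ≫ kernel.ι _ = u := by
  -- generators of the annihilator
  let K : Submodule ℤ (X ⟶ A) := (Preadditive.leftComp A u).ker.toIntSubmodule
  have hKfg : K.FG := IsNoetherian.noetherian K
  obtain ⟨n, k, hk⟩ := Submodule.fg_iff_exists_fin_generating_family.1 hKfg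
  have hmem : ∀ l : X ⟶ A, l ∈ K ↔ u ≫ l = 0 := fun l => Iff.rfl
  have hki : ∀ i, u ≫ k i = 0 := fun i => (hmem _).1 (hk ▸ Submodule.subset_span ⟨i, rfl⟩)
  have hcl : ∀ l : X ⟶ A, u ≫ l = 0 → l ∈ AddSubgroup.closure (Set.range k) := by
    intro l hl
    have : l ∈ Submodule.span ℤ (Set.range k) := by rw [hk]; exact (hmem l).2 hl
    rw [← AddSubgroup.toIntSubmodule_closure] at this
    exact this
  refine ⟨n, k, hki, hcl, ?_⟩
  let F := biproduct.lift k
  have hFz : u ≫ F = 0 := by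
    apply biproduct.hom_ext
    intro i
    rw [Category.assoc, biproduct.lift_π, hki, zero_comp]
  let u' : Y ⟶ kernel F := kernel.lift F u hFz
  have hu' : u' ≫ kernel.ι F = u := kernel.lift_ι _ _ _
  have hmu' : Mono u' := by
    have : Mono (u' ≫ kernel.ι F) := by rw [hu']; infer_instance
    exact mono_of_mono _ (kernel.ι F)
  -- elements of the annihilator vanish on the kernel
  have hvan : ∀ l : X ⟶ A, u ≫ l = 0 → kernel.ι F ≫ l = 0 := by
    intro l hl
    have h1 := hcl l hl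
    clear hl
    induction h1 using AddSubgroup.closure_induction with
    | mem x hx =>
      obtain ⟨i, rfl⟩ := hx
      have : k i = F ≫ biproduct.π _ i := (biproduct.lift_π _ _).symm
      rw [this, ← Category.assoc, kernel.condition, zero_comp]
    | zero => exact comp_zero
    | add x y _ _ hx hy => rw [Preadditive.comp_add, hx, hy, add_zero]
    | neg x _ hx => rw [Preadditive.comp_neg, hx, neg_zero]
  have hiso : IsIso u' := by
    have hfinZ : ∀ m : ℕ, m ≠ 0 → ord (kernel (m • 𝟙 (kernel F))) ≠ 0 := by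
      intro m hm
      obtain ⟨j, hj, -⟩ := torsion_sub (kernel.ι F) m
      exact h.ne_zero_of_mono j (hX.fin m hm)
    refine isIso_of_torsion h hG0 u' hY.epi hfinZ ?_
    intro m hm
    obtain ⟨j, hj, hjι⟩ := torsion_sub u' m
    obtain ⟨cG, eG⟩ := hX.ext _ (kernel.ι (m • 𝟙 (kernel F)) ≫ kernel.ι F) (hfinZ m hm)
    obtain ⟨cY, eY⟩ := hY.ext _ (kernel.ι (m • 𝟙 Y)) (hY.fin m hm)
    have hfY : Finite (kernel (m • 𝟙 Y) ⟶ A) := Nat.finite_of_card_ne_zero (by rw [cY]; exact hY.fin m hm)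
    rw [← cG, ← cY]
    refine Nat.card_le_card_of_injective (fun g => j ≫ g) ?_
    have hinj : Function.Injective (Preadditive.leftComp A j) := by
      rw [injective_iff_map_eq_zero]
      intro g hg
      have hg' : j ≫ g = 0 := hg
      obtain ⟨l, hl⟩ := eG g
      have h1 : kernel.ι (m • 𝟙 Y) ≫ u ≫ l = 0 := by
        rw [← hu']
        have : kernel.ι (m • 𝟙 Y) ≫ (u' ≫ kernel.ι F) ≫ l = j ≫ kernel.ι _ ≫ kernel.ι F ≫ l := by
          rw [← Category.assoc j, hjι]
          simp only [Category.assoc]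
        rw [this]
        rw [Category.assoc] at hl
        rw [hl, hg']
      have := hY.epi m hm
      have hex := ShortComplex.exact_kernel (m • 𝟙 Y)
      obtain ⟨l', hl'⟩ := hsurj (hex.desc _ h1)
      have h2 : u ≫ l = m • (u ≫ l') := by
        rw [hl', ← smul_id_comp]
        exact (hex.g_desc _ h1).symm
      have h3 : u ≫ (l - m • l') = 0 := by
        rw [Preadditive.comp_sub, h2, Preadditive.comp_nsmul, sub_self]
      have h4 := hvan _ h3
      rw [Preadditive.comp_sub, sub_eq_zero, Preadditive.comp_nsmul] at h4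
      rw [← hl, Category.assoc, h4, Preadditive.comp_nsmul, ← Preadditive.nsmul_comp, smul_ker_ι, zero_comp]
    exact hinj
  exact ⟨asIso u', hu'⟩

/-- Powers of `A`. -/
structure IsPow (A : C) (n : ℕ) (X : C) (pr : Fin n → (X ⟶ A)) : Prop where
  lift : ∀ {T : C} (f : Fin n → (T ⟶ A)), ∃ x : T ⟶ X, ∀ i, x ≫ pr i = f i
  ext : ∀ {T : C} (x y : T ⟶ X), (∀ i, x ≫ pr i = y ≫ pr i) → x = y

theorem IsPow.span {n : ℕ} {X : C} {pr : Fin n → (X ⟶ A)} (hp : IsPow A n X pr) (k : X ⟶ A) :
    ∃ r : Fin n → (A ⟶ A), k = ∑ i, pr i ≫ r i := by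
  classical
  choose s hs using fun i : Fin n => hp.lift (fun j => if i = j then 𝟙 A else 0)
  refine ⟨fun i => s i ≫ k, ?_⟩
  have : 𝟙 X = ∑ i, pr i ≫ s i := by
    apply hp.ext
    intro j
    rw [Category.id_comp, Preadditive.sum_comp, Finset.sum_eq_single j]
    · rw [Category.assoc, hs, if_pos rfl, Category.comp_id]
    · intro i _ hij
      rw [Category.assoc, hs, if_neg hij, comp_zero]
    · intro hj
      exact absurd (Finset.mem_univ _) hj
  calc k = 𝟙 X ≫ k := (Category.id_comp k).symm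
    _ = _ := by rw [this, Preadditive.sum_comp]; simp only [Category.assoc]

theorem IsPow.inj {n : ℕ} {X : C} {pr : Fin n → (X ⟶ A)} (hp : IsPow A n X pr) (r : Fin n → (A ⟶ A))
    (hr : ∑ i, pr i ≫ r i = 0) : r = 0 := by
  classical
  choose s hs using fun i : Fin n => hp.lift (fun j => if i = j then 𝟙 A else 0)
  funext i
  have h1 : s i ≫ ∑ j, pr j ≫ r j = 0 := by rw [hr, comp_zero]
  rw [Preadditive.comp_sum, Finset.sum_eq_single i] at h1
  · rw [← Category.assoc, hs, if_pos rfl, Category.id_comp] at h1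
    exact h1
  · intro j _ hij
    rw [← Category.assoc, hs, if_neg (Ne.symm hij), zero_comp]
  · intro hj
    exact absurd (Finset.mem_univ _) hj

include h in
theorem exists_isPow (Q : C → Prop) (hQ0 : ∀ Z, IsZero Z → Q Z) (hQA : Q A) (hQ : ∀ X Y, Q X → Q Y → Q (X ⊞ Y))
    (hA : Nice ord A A) (n : ℕ) : ∃ (X : C) (pr : Fin n → (X ⟶ A)), IsPow A n X pr ∧ Nice ord A X ∧ Q X := by
  induction n with
  | zero =>
    refine ⟨0, fun i => i.elim0, ⟨fun f => ⟨0, fun i => i.elim0⟩, fun x y _ => (isZero_zero C).eq_of_tgt x y⟩, ?_,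
      hQ0 _ (isZero_zero C)⟩
    refine ⟨fun m _ => ?_, fun m _ => ?_, ?_⟩
    · rw [(isZero_zero C).eq_of_src (m • 𝟙 (0 : C)) (𝟙 _)]
      infer_instance
    · have hz : IsZero (kernel (m • 𝟙 (0 : C))) := IsZero.of_mono (kernel.ι _) (isZero_zero C)
      rw [h.zero _ hz]
      exact one_ne_zero
    · intro G i _ hG
      have hz : IsZero G := IsZero.of_mono i (isZero_zero C)
      refine ⟨?_, fun g => ⟨0, hz.eq_of_src _ _⟩⟩
      have : Unique (G ⟶ A) := ⟨⟨0⟩, fun g => hz.eq_of_src _ _⟩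
      rw [h.zero G hz, Nat.card_unique]
  | succ n ih =>
    obtain ⟨X, pr, hp, hX, hQX⟩ := ih
    refine ⟨A ⊞ X, Fin.cons biprod.fst (fun i => biprod.snd ≫ pr i), ⟨?_, ?_⟩, hA.prod h hX, hQ _ _ hQA hQX⟩
    · intro T f
      obtain ⟨x, hx⟩ := hp.lift (fun i => f i.succ)
      refine ⟨biprod.lift (f 0) x, ?_⟩
      intro i
      refine Fin.cases ?_ (fun i => ?_) i
      · simp
      · simp [hx]
    · intro T x y hxy
      apply biprod.hom_ext
      · simpa using hxy 0
      · apply hp.ext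
        intro i
        simpa using hxy i.succ


theorem IsPow.finite {n : ℕ} {X : C} {pr : Fin n → (X ⟶ A)} (hp : IsPow A n X pr) (hA : Module.Finite ℤ (A ⟶ A)) :
    Module.Finite ℤ (X ⟶ A) := by
  let F : (Fin n → (A ⟶ A)) →+ (X ⟶ A) :=
    { toFun := fun r => ∑ i, pr i ≫ r i
      map_zero' := by simp
      map_add' := fun r s => by simp [Finset.sum_add_distrib] }
  exact Module.Finite.of_surjective F.toIntLinearMap (fun k => by
    obtain ⟨r, hr⟩ := hp.span k
    exact ⟨r, hr.symm⟩)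

/-- A finitely generated `Hom(Y, A)` has finitely many generators as an abelian group. -/
theorem exists_gens {M : Type*} [AddCommGroup M] (hM : Module.Finite ℤ M) :
    ∃ (n : ℕ) (φ : Fin n → M), ∀ g : M, ∃ c : Fin n → ℤ, ∑ i, c i • φ i = g := by
  obtain ⟨n, φ, hφ⟩ := Submodule.fg_iff_exists_fin_generating_family.1 hM.fg_top
  refine ⟨n, φ, fun g => ?_⟩
  have : g ∈ Submodule.span ℤ (Set.range φ) := by rw [hφ]; trivial
  exact (Submodule.mem_span_range_iff_exists_fun ℤ).1 this

include h in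
/-- The embedding of a nice object into a power of `A`. -/
theorem exists_embedding (hG0 : G0 C) (hA : Nice ord A A) {Y : C} (hY : Nice ord A Y)
    (hYfin : Module.Finite ℤ (Y ⟶ A)) (Q : C → Prop) (hQ0 : ∀ Z, IsZero Z → Q Z) (hQA : Q A)
    (hQ : ∀ X Y, Q X → Q Y → Q (X ⊞ Y)) :
    ∃ (n : ℕ) (X : C) (pr : Fin n → (X ⟶ A)) (u : Y ⟶ X), IsPow A n X pr ∧ Nice ord A X ∧ Q X ∧ Mono u ∧
      (∀ g : Y ⟶ A, ∃ c : Fin n → ℤ, ∑ i, c i • (u ≫ pr i) = g) := by
  obtain ⟨n, φ, hφ⟩ := exists_gens hYfin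
  obtain ⟨X, pr, hp, hX, hQX⟩ := exists_isPow h Q hQ0 hQA hQ hA n
  obtain ⟨u, hu⟩ := hp.lift φ
  refine ⟨n, X, pr, u, hp, hX, hQX, ?_, ?_⟩
  · refine hY.mono_of_factors h hG0 u fun g => ?_
    obtain ⟨c, hc⟩ := hφ g
    refine ⟨∑ i, c i • pr i, ?_⟩
    rw [← hc, Preadditive.comp_sum]
    simp only [Preadditive.comp_zsmul, hu]
  · intro g
    obtain ⟨c, hc⟩ := hφ g
    exact ⟨c, by simp only [hu, hc]⟩

include h in
/-- **Full faithfulness.** -/
theorem exists_hom_of_linear (hG0 : G0 C) (hA : Nice ord A A) (hAfin : Module.Finite ℤ (A ⟶ A)) {Y : C}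
    (hY : Nice ord A Y) (hYfin : Module.Finite ℤ (Y ⟶ A)) {T : C} (g : (Y ⟶ A) →ₗ[End A] (T ⟶ A)) :
    ∃ f : T ⟶ Y, ∀ φ : Y ⟶ A, g φ = f ≫ φ := by
  obtain ⟨n, X, pr, u, hp, hX, -, hu, hgen⟩ := exists_embedding h hG0 hA hY hYfin (fun _ => True)
    (fun _ _ => trivial) trivial (fun _ _ _ _ => trivial)
  have hsurj : ∀ g : Y ⟶ A, ∃ k : X ⟶ A, u ≫ k = g := by
    intro g
    obtain ⟨c, hc⟩ := hgen g
    refine ⟨∑ i, c i • pr i, ?_⟩
    rw [← hc, Preadditive.comp_sum]
    simp only [Preadditive.comp_zsmul]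
  obtain ⟨n', k, hk0, -, e, he⟩ := factors_of_annihilates h hG0 hX hY u (hp.finite hAfin) hsurj
  obtain ⟨f', hf'⟩ := hp.lift (fun i => g (u ≫ pr i))
  -- `f'` composed with linear combinations
  have hcomb : ∀ l : X ⟶ A, f' ≫ l = g (u ≫ l) := by
    intro l
    obtain ⟨r, rfl⟩ := hp.span l
    rw [Preadditive.comp_sum, Preadditive.comp_sum, map_sum]
    refine Finset.sum_congr rfl fun i _ => ?_
    rw [← Category.assoc, hf', ← Category.assoc]
    exact (g.map_smul (show End A from r i) (u ≫ pr i)).symm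
  have hz : f' ≫ biproduct.lift k = 0 := by
    apply biproduct.hom_ext
    intro j
    rw [Category.assoc, biproduct.lift_π, zero_comp, hcomb, hk0, map_zero]
  let f : T ⟶ Y := kernel.lift _ f' hz ≫ e.inv
  have hfu : f ≫ u = f' := by
    show (kernel.lift _ f' hz ≫ e.inv) ≫ u = f'
    rw [← he, Category.assoc, e.inv_hom_id_assoc, kernel.lift_ι]
  refine ⟨f, fun φ => ?_⟩
  obtain ⟨l, rfl⟩ := hsurj φ
  rw [← hcomb, ← Category.assoc, hfu]

include h in
theorem hom_ext_of_nice (hG0 : G0 C) (hA : Nice ord A A) {Y : C}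
    (hY : Nice ord A Y) (hYfin : Module.Finite ℤ (Y ⟶ A)) {T : C} (f g : T ⟶ Y)
    (hfg : ∀ φ : Y ⟶ A, f ≫ φ = g ≫ φ) : f = g := by
  obtain ⟨n, X, pr, u, hp, hX, -, hu, hgen⟩ := exists_embedding h hG0 hA hY hYfin (fun _ => True)
    (fun _ _ => trivial) trivial (fun _ _ _ _ => trivial)
  rw [← cancel_mono u]
  apply hp.ext
  intro i
  rw [Category.assoc, Category.assoc, hfg]

/-- A finitely generated torsion-free abelian group `N` with `N = 2 N` is zero; relative version. -/
theorem mem_of_divisible {N : Type*} [AddCommGroup N] (hN : Module.Finite ℤ N) (L : AddSubgroup N)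
    (htf : ∀ (n : ℤ) (x : N), n ≠ 0 → n • x ∈ L → x ∈ L) (hdiv : ∀ x : N, ∃ y ∈ L, ∃ z : N, x = y + (2 : ℤ) • z)
    (x : N) : x ∈ L := by
  let Q := N ⧸ L
  have hQ : (⊤ : Submodule ℤ Q).FG := (Module.Finite.of_surjective (QuotientAddGroup.mk' L).toIntLinearMap
    (QuotientAddGroup.mk_surjective)).fg_top
  have hle : (⊤ : Submodule ℤ Q) ≤ Ideal.span {(2 : ℤ)} • ⊤ := by
    intro q _
    obtain ⟨x, rfl⟩ := QuotientAddGroup.mk_surjective q
    obtain ⟨y, hy, z, rfl⟩ := hdiv x
    have : ((y + (2 : ℤ) • z : N) : Q) = (2 : ℤ) • (z : Q) := by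
      have h0 : (y : Q) = 0 := (QuotientAddGroup.eq_zero_iff y).2 hy
      rw [QuotientAddGroup.mk_add, h0, zero_add]
      rfl
    rw [this]
    exact Submodule.smul_mem_smul (Ideal.mem_span_singleton_self _) trivial
  obtain ⟨r, hr1, hr2⟩ := Submodule.exists_sub_one_mem_and_smul_eq_zero_of_fg_of_le_smul
    (Ideal.span {(2 : ℤ)}) (⊤ : Submodule ℤ Q) hQ hle
  have hr0 : r ≠ 0 := by
    rintro rfl
    rw [Ideal.mem_span_singleton] at hr1
    omega
  have : ((r • x : N) : Q) = 0 := hr2 (x : Q) trivial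
  exact htf r x hr0 ((QuotientAddGroup.eq_zero_iff _).1 this)


include h in
/-- **Essential surjectivity.** A finitely generated module over `End A` embedding into a free module with torsion-free
cokernel is `Hom(B, A)` for an image `B` of a homomorphism between powers of `A`. -/
theorem exists_of_module (hA : Nice ord A A) (hAfin : Module.Finite ℤ (A ⟶ A))
    (Q : C → Prop) (hQ0 : ∀ Z, IsZero Z → Q Z) (hQA : Q A) (hQ : ∀ X Y, Q X → Q Y → Q (X ⊞ Y))
    {M : Type w} [AddCommGroup M] [Module (End A) M] (hM : Module.Finite ℤ M) (s : ℕ)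
    (j : M →ₗ[End A] (Fin s → End A)) (hj : Function.Injective j)
    (htf : ∀ (n : ℤ) (x : Fin s → End A), n ≠ 0 → (∃ m, j m = n • x) → ∃ m, j m = x) :
    ∃ (X X' B : C) (e : X ⟶ B) (u : B ⟶ X'), Epi e ∧ Mono u ∧ Q X ∧ Q X' ∧ Nice ord A B ∧
      Module.Finite ℤ (B ⟶ A) ∧ Nonempty (M ≃ₗ[End A] (B ⟶ A)) := by
  classical
  obtain ⟨n, φ, hφ⟩ := exists_gens hM
  obtain ⟨X, pr, hp, hX, hQX⟩ := exists_isPow h Q hQ0 hQA hQ hA s
  obtain ⟨X', pr', hp', hX', hQX'⟩ := exists_isPow h Q hQ0 hQA hQ hA n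
  let θ0 : M →ₗ[End A] (X ⟶ A) :=
    { toFun := fun m => ∑ l, pr l ≫ (j m l)
      map_add' := fun m m' => by
        rw [← Finset.sum_add_distrib]
        refine Finset.sum_congr rfl fun l _ => ?_
        rw [map_add]
        exact Preadditive.comp_add _ _ _ _ _ _
      map_smul' := fun r m => by
        show _ = (∑ l, pr l ≫ (j m l)) ≫ r
        rw [Preadditive.sum_comp]
        refine Finset.sum_congr rfl fun l _ => ?_
        rw [map_smul, Category.assoc]
        rfl }
  have hθ0inj : ∀ m, θ0 m = 0 → m = 0 := by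
    intro m hm
    have h1 := hp.inj (j m) hm
    exact hj (by rw [map_zero]; exact h1)
  obtain ⟨ψ, hψ⟩ := hp'.lift (fun i => θ0 (φ i))
  let B := Abelian.image ψ
  let e : X ⟶ B := Abelian.factorThruImage ψ
  let u : B ⟶ X' := Abelian.image.ι ψ
  have heu : e ≫ u = ψ := Abelian.image.fac ψ
  have hepi : Epi e := inferInstance
  have hmono : Mono u := inferInstance
  have hex : ∀ m : M, ∃ b : B ⟶ A, e ≫ b = θ0 m := by
    intro m
    obtain ⟨c, hc⟩ := hφ m
    refine ⟨∑ i, c i • (u ≫ pr' i), ?_⟩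
    rw [← hc, map_sum, Preadditive.comp_sum]
    refine Finset.sum_congr rfl fun i _ => ?_
    rw [Preadditive.comp_zsmul, ← Category.assoc, heu, hψ, map_zsmul]
  choose θf hθf using hex
  let θ : M →ₗ[End A] (B ⟶ A) :=
    { toFun := θf
      map_add' := fun m m' => by
        rw [← cancel_epi e, Preadditive.comp_add, hθf, hθf, hθf, map_add]
      map_smul' := fun r m => by
        rw [← cancel_epi e, hθf, map_smul]
        show _ = e ≫ (θf m ≫ r)
        rw [← Category.assoc, hθf]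
        rfl }
  have hθ : ∀ m, e ≫ θ m = θ0 m := hθf
  have hθφ : ∀ i, θ (φ i) = u ≫ pr' i := by
    intro i
    rw [← cancel_epi e, hθ, ← Category.assoc, heu, hψ]
  have hNX : Module.Finite ℤ (X ⟶ A) := hp.finite hAfin
  have hNB : Module.Finite ℤ (B ⟶ A) := by
    refine Module.Finite.of_injective (Preadditive.leftComp A e).toIntLinearMap ?_
    intro a b hab
    have : e ≫ a = e ≫ b := hab
    exact (cancel_epi e).1 this
  have hBdiv : ∀ m : ℕ, m ≠ 0 → Epi (m • 𝟙 B) := fun m hm => epi_smul_of_epi e m (hX.epi m hm)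
  have hB : Nice ord A B := hX'.sub h u hBdiv
  refine ⟨X, X', B, e, u, hepi, hmono, hQX, hQX', hB, hNB, ⟨LinearEquiv.ofBijective θ ⟨?_, ?_⟩⟩⟩
  · rw [injective_iff_map_eq_zero]
    intro m hm
    apply hθ0inj
    rw [← hθ, hm, comp_zero]
  · intro g
    have key := mem_of_divisible hNB (LinearMap.range θ).toAddSubgroup ?_ ?_ g
    · exact key
    · rintro n g hn ⟨m, hm⟩
      obtain ⟨x, hx⟩ := hp.span (e ≫ g)
      have h1 : j m = n • (show Fin s → End A from x) := by
        have h2 : ∑ l, pr l ≫ ((show A ⟶ A from j m l) - n • x l) = 0 := by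
          simp only [Preadditive.comp_sub, Finset.sum_sub_distrib, Preadditive.comp_zsmul]
          rw [← Finset.smul_sum, ← hx, sub_eq_zero]
          have h3 : θ0 m = n • (e ≫ g) := by rw [← hθ, hm, Preadditive.comp_zsmul]
          exact h3
        have h4 := hp.inj _ h2
        funext l
        have h5 := congrFun h4 l
        exact sub_eq_zero.1 h5
      obtain ⟨m', hm'⟩ := htf n x hn ⟨m, h1⟩
      refine ⟨m', ?_⟩
      rw [← cancel_epi e, hθ]
      refine Eq.trans ?_ hx.symm
      show ∑ l, pr l ≫ (j m' l) = _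
      rw [hm']
    · intro g
      obtain ⟨-, ek⟩ := hX'.ext _ (kernel.ι (2 • 𝟙 B) ≫ u) (hB.fin 2 two_ne_zero)
      obtain ⟨k, hk⟩ := ek (kernel.ι (2 • 𝟙 B) ≫ g)
      obtain ⟨r, hr⟩ := hp'.span k
      have huk : u ≫ k = θ (∑ i, (show End A from r i) • φ i) := by
        rw [hr, Preadditive.comp_sum, map_sum]
        refine Finset.sum_congr rfl fun i _ => ?_
        rw [map_smul, hθφ, ← Category.assoc]
        rfl
      have hz : kernel.ι (2 • 𝟙 B) ≫ (g - u ≫ k) = 0 := by
        rw [Preadditive.comp_sub, sub_eq_zero, ← Category.assoc, hk]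
      have := hBdiv 2 two_ne_zero
      have hexa := ShortComplex.exact_kernel (2 • 𝟙 B)
      refine ⟨u ≫ k, ?_, hexa.desc _ hz, ?_⟩
      · rw [huk]
        exact ⟨_, rfl⟩
      · have h6 : (2 • 𝟙 B) ≫ hexa.desc _ hz = g - u ≫ k := hexa.g_desc _ hz
        rw [smul_id_comp] at h6
        have h7 : (2 : ℤ) • hexa.desc _ hz = g - u ≫ k :=
          (natCast_zsmul (hexa.desc _ hz) 2).trans h6
        rw [h7]
        abel

end K525.AbsFF
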