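import Mathlib.LinearAlgebra.FreeModule.PID
import Mathlib.LinearAlgebra.FreeModule.StrongRankCondition
import Mathlib.LinearAlgebra.Dimension.Free
import Mathlib.Data.ZMod.Basic
import Mathlib.RingTheory.Ideal.Quotient.Basic
import Mathlib.GroupTheory.QuotientGroup.Basic
import Mathlib.SetTheory.Cardinal.Finite

/-!
# Counting `M / n M`
-/

set_option autoImplicit false

namespace K525.Count

/-- Reduction of the coordinates modulo `n`. -/
theorem exists_red (M : Type*) [AddCommGroup M] [Module.Finite ℤ M] [Module.Free ℤ M] (n : ℕ) :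
    ∃ φ : M →+ (Fin (Module.finrank ℤ M) → ZMod n), Function.Surjective φ ∧ ∀ x, φ x = 0 ↔ ∃ y, x = n • y := by
  let b := Module.finBasis ℤ M
  let φ : M →+ (Fin (Module.finrank ℤ M) → ZMod n) :=
    { toFun := fun x i => ((b.repr x i : ℤ) : ZMod n)
      map_zero' := by ext i; simp
      map_add' := fun x y => by ext i; simp }
  have hφ : ∀ x i, φ x i = ((b.repr x i : ℤ) : ZMod n) := fun _ _ => rfl
  refine ⟨φ, ?_, ?_⟩
  · intro v
    choose c hc using fun i => ZMod.intCast_surjective (v i)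
    refine ⟨∑ i, c i • b i, ?_⟩
    ext i
    rw [hφ, b.repr_sum_self, hc]
  · intro x
    constructor
    · intro h
      have h1 : ∀ i, (n : ℤ) ∣ b.repr x i := by
        intro i
        rw [← ZMod.intCast_zmod_eq_zero_iff_dvd, ← hφ, h]
        rfl
      choose c hc using h1
      refine ⟨∑ i, c i • b i, ?_⟩
      rw [Finset.smul_sum]
      conv_lhs => rw [← b.sum_repr x]
      refine Finset.sum_congr rfl fun i _ => ?_
      rw [hc, mul_smul, natCast_zsmul]
    · rintro ⟨y, rfl⟩
      ext i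
      rw [map_nsmul, Pi.smul_apply, nsmul_eq_mul, ZMod.natCast_self, zero_mul, Pi.zero_apply]

theorem card_quot (M : Type*) [AddCommGroup M] [Module.Finite ℤ M] [Module.Free ℤ M] (n : ℕ) :
    Nat.card (M ⧸ (nsmulAddMonoidHom n : M →+ M).range) = n ^ Module.finrank ℤ M := by
  obtain ⟨φ, hφ, hk⟩ := exists_red M n
  have hker : (nsmulAddMonoidHom n : M →+ M).range = φ.ker := by
    ext x
    rw [AddMonoidHom.mem_ker, hk]
    constructor
    · rintro ⟨y, rfl⟩; exact ⟨y, rfl⟩
    · rintro ⟨y, rfl⟩; exact ⟨y, rfl⟩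
  rw [hker, Nat.card_congr (QuotientAddGroup.quotientKerEquivOfSurjective φ hφ).toEquiv, Nat.card_fun, Nat.card_zmod,
    Nat.card_fin]

theorem finite_quot (M : Type*) [AddCommGroup M] [Module.Finite ℤ M] [Module.Free ℤ M] (n : ℕ) (hn : n ≠ 0) :
    Finite (M ⧸ (nsmulAddMonoidHom n : M →+ M).range) := by
  apply Nat.finite_of_card_ne_zero
  rw [card_quot]
  exact pow_ne_zero _ hn

section

variable (R : Type*) [CommRing R] [Module.Finite ℤ R] [Module.Free ℤ R] (n : ℕ)

theorem ideal_eq : (Ideal.span {(n : R)}).toAddSubgroup = (nsmulAddMonoidHom n : R →+ R).range := by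
  ext x
  rw [Submodule.mem_toAddSubgroup, Ideal.mem_span_singleton']
  constructor
  · rintro ⟨a, rfl⟩
    exact ⟨a, by rw [nsmulAddMonoidHom_apply, nsmul_eq_mul, mul_comm]⟩
  · rintro ⟨a, rfl⟩
    exact ⟨a, by rw [nsmulAddMonoidHom_apply, nsmul_eq_mul, mul_comm]⟩

theorem card_ideal : Nat.card (R ⧸ Ideal.span {(n : R)}) = n ^ Module.finrank ℤ R := by
  rw [← card_quot, ← ideal_eq]
  rfl

theorem finite_ideal (hn : n ≠ 0) : Finite (R ⧸ Ideal.span {(n : R)}) := by
  apply Nat.finite_of_card_ne_zero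
  rw [card_ideal]
  exact pow_ne_zero _ hn

end

end K525.Count
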