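import Groth.Agent.AbVar.K525.AbsFF
import Groth.Agent.AbVar.K525.Count

/-!
# Consequences of duality: surjectivity, cokernels, isogenies
-/

set_option autoImplicit false

universe w v u

open CategoryTheory Limits ZeroObject K525.AbsOrd K525.AbsD

namespace K525.AbsMore

variable {C : Type u} [Category.{v} C] [Abelian C]

attribute [local instance] Abelian.hasFiniteBiproducts

/-- A subgroup `L` of a finitely generated abelian group `N` with `N = L + ℓ N` for all primes `ℓ` is everything. -/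
theorem mem_of_all_primes {N : Type*} [AddCommGroup N] (hN : Module.Finite ℤ N) (L : AddSubgroup N)
    (hdiv : ∀ ℓ : ℕ, ℓ.Prime → ∀ x : N, ∃ y ∈ L, ∃ z : N, x = y + ℓ • z) (x : N) : x ∈ L := by
  let Q := N ⧸ L
  have hQ : (⊤ : Submodule ℤ Q).FG := (Module.Finite.of_surjective (QuotientAddGroup.mk' L).toIntLinearMap
    (QuotientAddGroup.mk_surjective)).fg_top
  have key : ∀ ℓ : ℕ, ℓ.Prime → ∃ r : ℤ, r - 1 ∈ Ideal.span {(ℓ : ℤ)} ∧ ∀ q : Q, r • q = 0 := by
    intro ℓ hℓ
    have hle : (⊤ : Submodule ℤ Q) ≤ Ideal.span {(ℓ : ℤ)} • ⊤ := by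
      intro q _
      obtain ⟨x, rfl⟩ := QuotientAddGroup.mk_surjective q
      obtain ⟨y, hy, z, rfl⟩ := hdiv ℓ hℓ x
      have : ((y + ℓ • z : N) : Q) = (ℓ : ℤ) • (z : Q) := by
        have h0 : (y : Q) = 0 := (QuotientAddGroup.eq_zero_iff y).2 hy
        rw [QuotientAddGroup.mk_add, h0, zero_add, natCast_zsmul]
        rfl
      rw [this]
      exact Submodule.smul_mem_smul (Ideal.mem_span_singleton_self _) trivial
    obtain ⟨r, hr1, hr2⟩ := Submodule.exists_sub_one_mem_and_smul_eq_zero_of_fg_of_le_smul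
      (Ideal.span {(ℓ : ℤ)}) (⊤ : Submodule ℤ Q) hQ hle
    exact ⟨r, hr1, fun q => hr2 q trivial⟩
  let I : Ideal ℤ := Module.annihilator ℤ Q
  obtain ⟨e, he⟩ := (IsPrincipalIdealRing.principal I).principal
  have he' : I = Ideal.span {e} := he
  have hmem : ∀ r : ℤ, (∀ q : Q, r • q = 0) → e ∣ r := by
    intro r hr
    rw [← Ideal.mem_span_singleton, ← he']
    exact Module.mem_annihilator.2 hr
  have hunit : e.natAbs = 1 := by
    by_contra hne
    obtain ⟨ℓ, hℓ, hdvd⟩ := Nat.exists_prime_and_dvd hne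
    obtain ⟨r, hr1, hr2⟩ := key ℓ hℓ
    have h1 : (ℓ : ℤ) ∣ e := Int.natCast_dvd.2 hdvd
    have h2 : (ℓ : ℤ) ∣ r := h1.trans (hmem r hr2)
    rw [Ideal.mem_span_singleton] at hr1
    have h3 : (ℓ : ℤ) ∣ 1 := by
      have : (1 : ℤ) = r - (r - 1) := by ring
      rw [this]
      exact dvd_sub h2 hr1
    have h4 : ℓ ∣ 1 := by exact_mod_cast h3
    exact hℓ.one_lt.ne' (Nat.dvd_one.1 h4)
  have h1 : (1 : ℤ) ∈ I := by
    rw [he', Ideal.mem_span_singleton]
    exact Int.natAbs_dvd_natAbs.1 (by rw [hunit]; exact one_dvd _)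
  have h2 := Module.mem_annihilator.1 h1 (x : Q)
  rw [one_smul] at h2
  exact (QuotientAddGroup.eq_zero_iff _).1 h2

variable {ord : C → ℕ} {A : C}

theorem injective_of_epi {X Y : C} (q : X ⟶ Y) [Epi q] : Function.Injective (Preadditive.leftComp A q) := by
  intro a b hab
  exact (cancel_epi q).1 hab

/-- Homomorphisms divisible on torsion. -/
theorem exists_smul_of_torsion {X : C} (m : ℕ) (hm : Epi (m • 𝟙 X)) (f : X ⟶ A)
    (hf : kernel.ι (m • 𝟙 X) ≫ f = 0) : ∃ g : X ⟶ A, f = m • g := by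
  have hex := ShortComplex.exact_kernel (m • 𝟙 X)
  refine ⟨hex.desc f hf, ?_⟩
  have h1 : (m • 𝟙 X) ≫ hex.desc f hf = f := hex.g_desc f hf
  exact h1.symm.trans (smul_id_comp m _)

/-- **Extension of homomorphisms** from divisible subobjects of nice objects. -/
theorem surj_of_mono (h : IsOrd ord) {X Y : C} (hX : Nice ord A X) (u : Y ⟶ X) [Mono u] (he : ∀ m : ℕ, m ≠ 0 → Epi (m • 𝟙 Y))
    (hfg : Module.Finite ℤ (Y ⟶ A)) : Function.Surjective (Preadditive.leftComp A u) := by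
  intro g
  have := mem_of_all_primes hfg (Preadditive.leftComp A u).range (by
    intro ℓ hℓ g
    have hep := he ℓ hℓ.ne_zero
    obtain ⟨j, hj, hjι⟩ := torsion_sub u ℓ
    have hfin : ord (kernel (ℓ • 𝟙 Y)) ≠ 0 := h.ne_zero_of_mono j (hX.fin ℓ hℓ.ne_zero)
    obtain ⟨-, hext⟩ := hX.ext _ (kernel.ι (ℓ • 𝟙 Y) ≫ u) hfin
    obtain ⟨k, hk⟩ := hext (kernel.ι (ℓ • 𝟙 Y) ≫ g)
    obtain ⟨z, hz⟩ := exists_smul_of_torsion ℓ hep (g - u ≫ k) (by
      rw [Preadditive.comp_sub, ← hk, Category.assoc, sub_self])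
    refine ⟨u ≫ k, ⟨k, rfl⟩, z, ?_⟩
    rw [← hz]; abel) g
  exact this

/-- **The cokernel of precomposition with an epimorphism with finite kernel.** -/
theorem card_coker {X Y : C} (hX : Nice ord A X) (q : X ⟶ Y) [Epi q] (hq : ord (kernel q) ≠ 0) :
    Nat.card ((X ⟶ A) ⧸ (Preadditive.leftComp A q).range) = ord (kernel q) := by
  obtain ⟨c, e⟩ := hX.ext _ (kernel.ι q) hq
  have hsurj : Function.Surjective (Preadditive.leftComp A (kernel.ι q)) := e
  have hker : (Preadditive.leftComp A q).range = (Preadditive.leftComp A (kernel.ι q)).ker := by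
    ext f
    rw [AddMonoidHom.mem_ker]
    constructor
    · rintro ⟨g, rfl⟩
      show kernel.ι q ≫ q ≫ g = 0
      rw [← Category.assoc, kernel.condition, zero_comp]
    · intro hf
      have hex := ShortComplex.exact_kernel q
      exact ⟨hex.desc f hf, hex.g_desc f hf⟩
  rw [hker, Nat.card_congr (QuotientAddGroup.quotientKerEquivOfSurjective _ hsurj).toEquiv, c]

/-- The upper bound for the rank. -/
theorem pow_finrank_le (hD : D1 ord A) {X : C} [Module.Finite ℤ (X ⟶ A)] [Module.Free ℤ (X ⟶ A)] (m : ℕ) (hm : Epi (m • 𝟙 X))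
    (hfin : ord (kernel (m • 𝟙 X)) ≠ 0) : m ^ Module.finrank ℤ (X ⟶ A) ≤ ord (kernel (m • 𝟙 X)) := by
  obtain ⟨h1, h2⟩ := hD _ hfin
  refine le_trans ?_ h2
  rw [← K525.Count.card_quot]
  let φ := Preadditive.leftComp A (kernel.ι (m • 𝟙 X))
  have hle : (nsmulAddMonoidHom m : (X ⟶ A) →+ (X ⟶ A)).range = φ.ker := by
    ext f
    rw [AddMonoidHom.mem_ker]
    constructor
    · rintro ⟨g, rfl⟩
      show kernel.ι (m • 𝟙 X) ≫ (m • g) = 0
      rw [Preadditive.comp_nsmul, ← Preadditive.nsmul_comp, smul_ker_ι, zero_comp]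
    · intro hf
      obtain ⟨g, hg⟩ := exists_smul_of_torsion m hm f hf
      exact ⟨g, hg.symm⟩
  rw [hle, Nat.card_congr (QuotientAddGroup.quotientKerEquivRange φ).toEquiv]
  exact Nat.card_le_card_of_injective _ Subtype.val_injective

/-- If precomposition with `f : X ⟶ Y` is injective on `Hom(-, A)` then `f` is an epimorphism, for `Y` nice with `Y / im f` nice. -/
theorem epi_of_injective (h : IsOrd ord) (hG0 : G0 C) {X Y : C} (f : X ⟶ Y)
    (hQ : Nice ord A (cokernel f)) (hinj : Function.Injective (Preadditive.leftComp A f)) : Epi f := by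
  have hz : IsZero (cokernel f) := by
    apply hG0
    intro m hm
    apply h.mono_of_kernel
    have hne := hQ.fin m hm
    obtain ⟨c, e⟩ := hQ.ext _ (kernel.ι (m • 𝟙 (cokernel f))) hne
    rw [← c]
    have hu : ∀ g : kernel (m • 𝟙 (cokernel f)) ⟶ A, g = 0 := by
      intro g
      obtain ⟨k, rfl⟩ := e g
      have : cokernel.π f ≫ k = 0 := by
        apply hinj
        show f ≫ cokernel.π f ≫ k = f ≫ 0
        rw [← Category.assoc, cokernel.condition, zero_comp, comp_zero]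
      have : k = 0 := by rw [← cancel_epi (cokernel.π f), this, comp_zero]
      rw [this, comp_zero]
    have : Unique (kernel (m • 𝟙 (cokernel f)) ⟶ A) := ⟨⟨0⟩, hu⟩
    exact Nat.card_unique
  rw [Preadditive.epi_iff_cancel_zero]
  intro P g hg
  have : g = cokernel.π f ≫ cokernel.desc f g hg := (cokernel.π_desc _ _ _).symm
  rw [this, hz.eq_zero_of_tgt (cokernel.π f), zero_comp]

/-- If the cokernel of precomposition with `f` is finite, the kernel of `f` is finite. -/
theorem ord_kernel_ne_zero (h : IsOrd ord) (hG0 : G0 C) (hA : Nice ord A A) {X Y : C} (hX : Nice ord A X)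
    (hXfin : Module.Finite ℤ (X ⟶ A)) (f : X ⟶ Y) (hf : Finite ((X ⟶ A) ⧸ (Preadditive.leftComp A f).range)) :
    ord (kernel f) ≠ 0 := by
  set N := Nat.card ((X ⟶ A) ⧸ (Preadditive.leftComp A f).range) with hN
  have hN0 : N ≠ 0 := Nat.card_pos.ne'
  have h1 : ∀ g : X ⟶ A, ∃ g' : Y ⟶ A, N • g = f ≫ g' := by
    intro g
    have h2 : N • (QuotientAddGroup.mk g : (X ⟶ A) ⧸ (Preadditive.leftComp A f).range) = 0 := by
      rw [hN]; exact card_nsmul_eq_zero'
    have h3 : ((N • g : X ⟶ A) : (X ⟶ A) ⧸ (Preadditive.leftComp A f).range) = 0 := h2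
    obtain ⟨g', hg'⟩ := (QuotientAddGroup.eq_zero_iff _).1 h3
    exact ⟨g', hg'.symm⟩
  have h4 : N • kernel.ι f = 0 := by
    apply K525.AbsFF.hom_ext_of_nice h hG0 hA hX hXfin
    intro φ
    obtain ⟨g', hg'⟩ := h1 φ
    rw [zero_comp, Preadditive.nsmul_comp, ← Preadditive.comp_nsmul, hg', ← Category.assoc, kernel.condition, zero_comp]
  have hz : kernel.ι f ≫ (N • 𝟙 X) = 0 := by rw [comp_smul_id, h4]
  have hm : Mono (kernel.lift _ (kernel.ι f) hz) := by
    have : Mono (kernel.lift _ (kernel.ι f) hz ≫ kernel.ι (N • 𝟙 X)) := by rw [kernel.lift_ι]; infer_instance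
    exact mono_of_mono _ (kernel.ι (N • 𝟙 X))
  exact h.ne_zero_of_mono (kernel.lift _ (kernel.ι f) hz) (hX.fin N hN0)

end K525.AbsMore
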