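import Mathlib.CategoryTheory.Abelian.Refinements
import Mathlib.CategoryTheory.Abelian.Exact
import Mathlib.Algebra.Homology.ShortComplex.ShortExact
import Mathlib.CategoryTheory.Preadditive.Schur
import Mathlib.GroupTheory.Index
import Mathlib.SetTheory.Cardinal.Finite

/-!
# Order functions on an abelian category

`IsOrd ord`: an abstract version of the order of a finite commutative group scheme (order `0` means: not finite).
-/

set_option autoImplicit false

universe v u

open CategoryTheory Limits

namespace K525.AbsOrd

variable {C : Type u} [Category.{v} C] [Abelian C]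

/-- An order function on an abelian category: multiplicative in short exact sequences, equal to one exactly for
the zero objects, killing its object, and such that every nonzero object of nonzero (finite) order has a nonzero finite
module over its endomorphism ring whose cardinality is at most the order. The value `0` means "not finite". -/
structure IsOrd (ord : C → ℕ) : Prop where
  mul : ∀ (S : ShortComplex C), S.ShortExact → ord S.X₂ = ord S.X₁ * ord S.X₃
  isZero : ∀ G : C, ord G = 1 → IsZero G
  zero : ∀ G : C, IsZero G → ord G = 1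
  nsmul : ∀ G : C, ord G • 𝟙 G = 0
  mod : ∀ G : C, ord G ≠ 0 → ¬ IsZero G → ∃ (V : Type v) (_ : AddCommGroup V) (_ : Module (End G) V),
    Nontrivial V ∧ Finite V ∧ Nat.card V ≤ ord G

namespace IsOrd

variable {ord : C → ℕ} (h : IsOrd ord)
include h

theorem mono {G H : C} (i : G ⟶ H) [Mono i] : ord H = ord G * ord (cokernel i) :=
  h.mul (ShortComplex.mk i (cokernel.π i) (cokernel.condition i))
    { exact := ShortComplex.exact_cokernel i
      mono_f := inferInstance
      epi_g := inferInstance }

theorem epi {G H : C} (q : G ⟶ H) [Epi q] : ord G = ord (kernel q) * ord H :=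
  h.mul (ShortComplex.mk (kernel.ι q) q (kernel.condition q))
    { exact := ShortComplex.exact_kernel q
      mono_f := inferInstance
      epi_g := inferInstance }

theorem iso {G H : C} (e : G ≅ H) : ord G = ord H := by
  have h1 : IsZero (cokernel e.hom) := isZero_cokernel_of_epi e.hom
  rw [h.mono e.hom, h.zero _ h1, mul_one]

theorem iso_of_isIso {G H : C} (e : G ⟶ H) [IsIso e] : ord G = ord H := h.iso (asIso e)

theorem ne_zero_of_mono {G H : C} (i : G ⟶ H) [Mono i] (hH : ord H ≠ 0) : ord G ≠ 0 := by
  intro h0
  apply hH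
  rw [h.mono i, h0, zero_mul]

theorem ne_zero_of_epi {G H : C} (q : G ⟶ H) [Epi q] (hG : ord G ≠ 0) : ord H ≠ 0 := by
  intro h0
  apply hG
  rw [h.epi q, h0, mul_zero]

theorem le_of_mono {G H : C} (i : G ⟶ H) [Mono i] (hH : ord H ≠ 0) : ord G ≤ ord H := by
  rw [h.mono i] at hH ⊢
  have : 0 < ord (cokernel i) := Nat.pos_of_ne_zero fun h0 => hH (by rw [h0, mul_zero])
  exact Nat.le_mul_of_pos_right _ this

theorem le_of_epi {G H : C} (q : G ⟶ H) [Epi q] (hG : ord G ≠ 0) : ord H ≤ ord G := by
  rw [h.epi q] at hG ⊢
  have : 0 < ord (kernel q) := Nat.pos_of_ne_zero fun h0 => hG (by rw [h0, zero_mul])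
  exact Nat.le_mul_of_pos_left _ this

theorem isIso_of_cokernel {G H : C} (i : G ⟶ H) [Mono i] (h1 : ord (cokernel i) = 1) : IsIso i := by
  have h3 := h.isZero _ h1
  have : Epi i := by
    rw [Preadditive.epi_iff_cancel_zero]
    intro P g hg
    have : g = cokernel.π i ≫ cokernel.desc i g hg := (cokernel.π_desc _ _ _).symm
    rw [this, h3.eq_zero_of_tgt (cokernel.π i), zero_comp]
  exact isIso_of_mono_of_epi i

/-- A monomorphism between objects of the same nonzero order is an isomorphism. -/
theorem isIso_of_mono {G H : C} (i : G ⟶ H) [Mono i] (hH : ord H ≠ 0) (hle : ord H ≤ ord G) : IsIso i := by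
  have h1 := h.mono i
  apply h.isIso_of_cokernel i
  have hG : ord G ≠ 0 := h.ne_zero_of_mono i hH
  have h2 : ord (cokernel i) ≠ 0 := fun h0 => hH (by rw [h1, h0, mul_zero])
  have : ord (cokernel i) ≤ 1 := by
    by_contra hlt
    push Not at hlt
    have : ord G * 1 < ord G * ord (cokernel i) := Nat.mul_lt_mul_of_pos_left hlt (Nat.pos_of_ne_zero hG)
    omega
  omega

theorem mono_of_kernel {G H : C} (f : G ⟶ H) (h1 : ord (kernel f) = 1) : Mono f := by
  have h3 := h.isZero _ h1
  rw [Preadditive.mono_iff_cancel_zero]
  intro P g hg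
  have : g = kernel.lift f g hg ≫ kernel.ι f := (kernel.lift_ι _ _ _).symm
  rw [this, h3.eq_zero_of_src (kernel.ι f), comp_zero]

theorem isIso_of_epi {G H : C} (q : G ⟶ H) [Epi q] (hG : ord G ≠ 0) (hle : ord G ≤ ord H) : IsIso q := by
  have h1 := h.epi q
  have h2 : ord (kernel q) ≠ 0 := fun h0 => hG (by rw [h1, h0, zero_mul])
  have hH : ord H ≠ 0 := h.ne_zero_of_epi q hG
  have : ord (kernel q) ≤ 1 := by
    by_contra hlt
    push Not at hlt
    have : 1 * ord H < ord (kernel q) * ord H := Nat.mul_lt_mul_of_pos_right hlt (Nat.pos_of_ne_zero hH)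
    omega
  have := h.mono_of_kernel q (by omega)
  exact isIso_of_mono_of_epi q

/-- A division ring acting on a nonzero object of finite order is finite, of cardinality at most the order. -/
theorem card_le_of_divisionRing {G : C} (hG : ord G ≠ 0) (h0 : ¬ IsZero G) {D : Type*} [DivisionRing D]
    (f : D →+* End G) : Finite D ∧ Nat.card D ≤ ord G := by
  obtain ⟨V, _, _, hV, hf, hc⟩ := h.mod G hG h0
  letI : Module D V := Module.compHom V f
  obtain ⟨x, hx⟩ := exists_ne (0 : V)
  have hinj : Function.Injective (fun d : D => d • x) := smul_left_injective D hx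
  exact ⟨Finite.of_injective _ hinj, (Nat.card_le_card_of_injective _ hinj).trans hc⟩

theorem prod {G H : C} : ord (G ⊞ H) = ord G * ord H :=
  h.mul (ShortComplex.mk (biprod.inl : G ⟶ G ⊞ H) biprod.snd (by simp))
    (ShortComplex.Splitting.shortExact
      { r := biprod.fst
        s := biprod.inr
        f_r := by simp
        s_g := by simp
        id := by simp })

end IsOrd

end K525.AbsOrd
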