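import Groth.Agent.Sga3.H830.AlgGrpAb
import Groth.Prelude.Def_EndRing
import Mathlib.AlgebraicGeometry.Group.Abelian

/-!
# The abelian category of commutative algebraic groups over a field

With the preadditive structure of `EndAV`, as an instance.
-/

set_option autoImplicit false

universe v u

open CategoryTheory MonoidalCategory CartesianMonoidalCategory MonObj GrpObj AlgebraicGeometry Limits

namespace K525.AlgC

open Groth.Agent.Sga3B.KerGrp Groth.Agent.Sga3C.QuotProps Groth.Agent.Sga3.H830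
open Groth.Agent.Sga3.H830.AlgGrpAb Groth.Agent.Sga3.H830.CommGrpProd Groth.Agent.Sga3.H830.CommAux

/-- A criterion for a preadditive category to be abelian. -/
theorem crit {A : Type u} [Category.{v} A] [Preadditive A] (W : MorphismProperty A)
    (hker : ∀ {G H : A} (f : G ⟶ H), ∃ (K : A) (k : K ⟶ G), Mono k ∧ k ≫ f = 0 ∧
      ∀ (T : A) (x : T ⟶ G), x ≫ f = 0 → ∃ t : T ⟶ K, t ≫ k = x)
    (hfac : ∀ {G H : A} (f : G ⟶ H), ∃ (I : A) (q : G ⟶ I) (i : I ⟶ H), W q ∧ Mono i ∧ q ≫ i = f)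
    (hmono : ∀ {G H : A} (i : G ⟶ H) [Mono i], ∃ (Q : A) (p : H ⟶ Q), W p ∧ i ≫ p = 0 ∧
      ∀ (T : A) (x : T ⟶ H), x ≫ p = 0 → ∃ t : T ⟶ G, t ≫ i = x)
    (hepi : ∀ {G I : A} (q : G ⟶ I), W q → Epi q)
    (hW : ∀ {G I : A} (q : G ⟶ I), W q → ∀ {Z : A} (g : G ⟶ Z),
      (∀ (T : A) (x : T ⟶ G), x ≫ q = 0 → x ≫ g = 0) → ∃ h : I ⟶ Z, q ≫ h = g) :
    HasKernels A ∧ HasCokernels A ∧ IsNormalMonoCategory A ∧ IsNormalEpiCategory A := by
  classical
  have hK : HasKernels A := by
    refine ⟨fun {G H} f => ?_⟩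
    obtain ⟨K, k, hk, w, hl⟩ := hker f
    exact ⟨⟨⟨KernelFork.ofι k w, KernelFork.IsLimit.ofι' k w fun {T} x hx =>
      ⟨(hl T x hx).choose, (hl T x hx).choose_spec⟩⟩⟩⟩
  have hC : HasCokernels A := by
    refine ⟨fun {G H} f => ?_⟩
    obtain ⟨I, q, i, hq, hi, hqi⟩ := hfac f
    obtain ⟨Q, p, hp, w, hl⟩ := hmono i
    have := hepi q hq
    have := hepi p hp
    have w' : f ≫ p = 0 := by rw [← hqi, Category.assoc, w, comp_zero]
    have key : ∀ {Z : A} (g : H ⟶ Z), f ≫ g = 0 → ∃ h : Q ⟶ Z, p ≫ h = g := by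
      intro Z g hg
      refine hW p hp g fun T x hx => ?_
      obtain ⟨t, rfl⟩ := hl T x hx
      have hig : i ≫ g = 0 := by rw [← cancel_epi q, comp_zero, ← Category.assoc, hqi, hg]
      rw [Category.assoc, hig, comp_zero]
    exact ⟨⟨⟨CokernelCofork.ofπ p w', CokernelCofork.IsColimit.ofπ' p w' fun {Z} g hg =>
      ⟨(key g hg).choose, (key g hg).choose_spec⟩⟩⟩⟩
  refine ⟨hK, hC, ?_, ?_⟩
  · refine ⟨fun {G H} i _ => ?_⟩
    obtain ⟨Q, p, hp, w, hl⟩ := hmono i
    exact ⟨⟨Q, p, w, KernelFork.IsLimit.ofι' i w fun {T} x hx =>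
      ⟨(hl T x hx).choose, (hl T x hx).choose_spec⟩⟩⟩
  · refine ⟨fun {G H} f _ => ?_⟩
    obtain ⟨I, q, i, hq, hi, hqi⟩ := hfac f
    have := hepi q hq
    have hei : Epi i := by
      have : Epi (q ≫ i) := by rw [hqi]; infer_instance
      exact epi_of_epi q i
    obtain ⟨Q, p, hp, w, hl⟩ := hmono i
    have hp0 : p = 0 := by rw [← cancel_epi i, w, comp_zero]
    obtain ⟨s, hs⟩ := hl H (𝟙 H) (by rw [hp0, comp_zero])
    obtain ⟨K, k, hk, wk, hkl⟩ := hker q
    have wf : k ≫ f = 0 := by rw [← hqi, ← Category.assoc, wk, zero_comp]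
    have key : ∀ {Z : A} (g : G ⟶ Z), k ≫ g = 0 → ∃ h : H ⟶ Z, f ≫ h = g := by
      intro Z g hg
      obtain ⟨h, hh⟩ := hW q hq g fun T x hx => by
        obtain ⟨t, rfl⟩ := hkl T x hx
        rw [Category.assoc, hg, comp_zero]
      have hsi : i ≫ s = 𝟙 I := by rw [← cancel_mono i, Category.assoc, hs, Category.comp_id, Category.id_comp]
      refine ⟨s ≫ h, ?_⟩
      rw [← hqi, Category.assoc, ← Category.assoc i, hsi, Category.id_comp, hh]
    exact ⟨⟨K, k, wf, CokernelCofork.IsColimit.ofπ' f wf fun {Z} g hg =>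
      ⟨(key g hg).choose, (key g hg).choose_spec⟩⟩⟩

variable (k : Type u) [Field k]

/-- The commutative algebraic groups over `k`. -/
abbrev P : ObjectProperty (CommGrp (Over (Spec (CommRingCat.of k)))) :=
  fun G => LocallyOfFiniteType G.X.hom ∧ QuasiCompact G.X.hom

/-- The category of commutative algebraic groups over `k`. -/
abbrev Alg : Type (u + 1) := (P k).FullSubcategory

variable {k}

/-- The underlying morphism. -/
abbrev und {G H : Alg k} (f : G ⟶ H) : G.obj.X ⟶ H.obj.X := f.hom.hom.hom.hom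

theorem und_comp {G H K : Alg k} (f : G ⟶ H) (g : H ⟶ K) : und (f ≫ g) = und f ≫ und g := rfl

theorem und_id (G : Alg k) : und (𝟙 G) = 𝟙 _ := rfl

theorem und_zero {G H : Alg k} : und (0 : G ⟶ H) = 1 := rfl

theorem und_add {G H : Alg k} (f g : G ⟶ H) : und (f + g) = und f * und g := rfl

theorem und_inj {G H : Alg k} {f g : G ⟶ H} (h : und f = und g) : f = g := homP_ext h

theorem und_nsmul {G H : Alg k} (n : ℕ) (f : G ⟶ H) : und (n • f) = und f ^ n := by
  induction n with
  | zero => rw [zero_nsmul, pow_zero]; rfl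
  | succ n ih => rw [succ_nsmul, pow_succ, und_add, ih]

theorem comp_eq_zero_iff {G H K : Alg k} (f : G ⟶ H) (g : H ⟶ K) :
    f ≫ g = 0 ↔ und f ≫ und g = 1 :=
  ⟨fun h => by rw [← und_comp, h, und_zero], fun h => und_inj (by rw [und_comp, h, und_zero])⟩

theorem mono_of_und {G H : Alg k} (f : G ⟶ H) [Mono (und f)] : Mono f :=
  ⟨fun x y h => und_inj (by rw [← cancel_mono (und f), ← und_comp, h, und_comp])⟩

theorem epi_of_und {G H : Alg k} (f : G ⟶ H) [Epi (und f)] : Epi f :=
  ⟨fun x y h => und_inj (by rw [← cancel_epi (und f), ← und_comp, h, und_comp])⟩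

/-- Kernels. -/
theorem exists_ker {G H : Alg k} (f : G ⟶ H) : ∃ (K : Alg k) (i : K ⟶ G),
    Mono (und i) ∧ IsClosedImmersion (und i).left ∧ i ≫ f = 0 ∧
      (∀ (T : Over (Spec (CommRingCat.of k))) (x : T ⟶ G.obj.X), x ≫ und f = 1 →
      ∃ t : T ⟶ K.obj.X, t ≫ und i = x) := by
  have hs : IsClosedImmersion (η[H.obj.X] : 𝟙_ _ ⟶ H.obj.X).left := by
    have h1 := H.property.1
    have h2 := H.property.2
    infer_instance
  have hi : IsClosedImmersion (kerι (und f)).left :=
    inferInstanceAs (IsClosedImmersion (pullback.fst (und f).left (η[H.obj.X] : 𝟙_ _ ⟶ H.obj.X).left))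
  obtain ⟨gK, hK⟩ := exists_grpObj (und f)
  have hc : IsCommMonObj (kerObj (und f)) := isCommMonObj_of_mono (kerι (und f))
  have hm : Mono (kerι (und f)) := inferInstance
  let K : Alg k := ⟨⟨kerObj (und f)⟩, isAlg_of_isClosedImmersion (kerι (und f)) G.property⟩
  refine ⟨K, mkHomP (G := K) (H := G) (kerι (und f)) hK, hm, hi, ?_, ?_⟩
  · rw [comp_eq_zero_iff]
    exact kerι_comp (und f)
  · intro T x hx
    exact exists_lift (und f) x hx

/-- Monomorphisms of commutative algebraic groups are monomorphisms of schemes. -/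
theorem mono_und {G H : Alg k} (f : G ⟶ H) [Mono f] : Mono (und f) := by
  obtain ⟨K, i, hi, -, hif, hl⟩ := exists_ker f
  have h0 : i = 0 := by rw [← cancel_mono f, hif, zero_comp]
  apply mono_of_ker
  intro T x hx
  obtain ⟨t, rfl⟩ := hl T x hx
  rw [h0, und_zero, MonObj.comp_one]

/-- The class of faithfully flat homomorphisms. -/
def W : MorphismProperty (Alg k) := fun _ _ f => IsFppf (und f)

theorem epi_und_of_W {G H : Alg k} (f : G ⟶ H) (hf : W f) : Epi (und f) := by
  obtain ⟨h1, h2, h3⟩ := hf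
  exact epi_of_flat_surjective (und f)

theorem epi_tensor {S : Scheme.{u}} {G H : Over S} (p : G ⟶ H) (hp : IsFppf p) : Epi (p ⊗ₘ p) := by
  obtain ⟨h1, h2, h3⟩ := hp
  have f2 : Flat (p ⊗ₘ p).left := tensorHom_left_of (@Flat) p p ‹_› ‹_›
  have s2 : Surjective (p ⊗ₘ p).left := tensorHom_left_of (@Surjective) p p ‹_› ‹_›
  exact epi_of_flat_surjective _

/-- Descent of morphisms along a faithfully flat homomorphism. -/
theorem exists_desc_of_W {G I : Alg k} (q : G ⟶ I) (hq : W q) {Z : Alg k}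
    (g : G ⟶ Z) (hg : ∀ (T : Alg k) (x : T ⟶ G), x ≫ q = 0 → x ≫ g = 0) :
    ∃ h : I ⟶ Z, q ≫ h = g := by
  obtain ⟨K, i, hi, -, hiq, hl⟩ := exists_ker q
  have hig : und i ≫ und g = 1 := (comp_eq_zero_iff i g).1 (hg K i hiq)
  have hep := epi_tensor (und q) hq
  obtain ⟨h1, h2, h3⟩ := hq
  obtain ⟨h, hh⟩ := exists_desc (und q) (und g) (by
    intro T x y hxy
    obtain ⟨t, ht⟩ := hl T (x / y) (by rw [GrpObj.div_comp, hxy, div_self'])
    have h4 : (x / y) ≫ und g = 1 := by rw [← ht, Category.assoc, hig, MonObj.comp_one]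
    rw [GrpObj.div_comp] at h4
    exact div_eq_one.1 h4)
  have hm : IsMonHom (und q ≫ h) := by rw [hh]; infer_instance
  have hm' : IsMonHom h := isMonHom_of_epi (und q) h
  exact ⟨mkHomP h hm', und_inj hh⟩

theorem exists_fac {G H : Alg k} (f : G ⟶ H) :
    ∃ (I : Alg k) (q : G ⟶ I) (i : I ⟶ H), W q ∧ Mono i ∧ IsClosedImmersion (und i).left ∧ q ≫ i = f := by
  obtain ⟨I, gI, q, i, hq, hi, hqi, hf, hc, hI⟩ := exists_factor G.property H.property (und f)
  have hm : Mono i := by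
    have : Mono i.left := inferInstance
    exact (Over.forget _).mono_of_mono_map ‹_›
  have hcI : IsCommMonObj I := isCommMonObj_of_mono i
  let I' : Alg k := ⟨⟨I⟩, hI⟩
  have : Mono (und (mkHomP (G := I') (H := H) i hi)) := hm
  exact ⟨I', mkHomP q hq, mkHomP i hi, hf, mono_of_und _, hc, und_inj hqi⟩

theorem exists_normal {G H : Alg k} (i : G ⟶ H) [Mono i] :
    ∃ (Q : Alg k) (p : H ⟶ Q), W p ∧ i ≫ p = 0 ∧
      ∀ (T : Over (Spec (CommRingCat.of k))) (x : T ⟶ H.obj.X), x ≫ und p = 1 → ∃ t : T ⟶ G.obj.X, t ≫ und i = x := by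
  have := mono_und i
  obtain ⟨Q, gQ, p, hp, hf, hk, hQ⟩ := exists_quotient G.property H.property (und i)
  have hep := epi_tensor p hf
  have hcQ : IsCommMonObj Q := isCommMonObj_of_epi p
  let Q' : Alg k := ⟨⟨Q⟩, hQ⟩
  refine ⟨Q', mkHomP p hp, hf, ?_, ?_⟩
  · rw [comp_eq_zero_iff]
    exact hk.w
  · intro T x hx
    exact ⟨hk.lift x (toUnit _) hx, hk.lift_fst _ _ _⟩

theorem hasFiniteProducts_P : HasFiniteProducts (Alg k) := by
  refine CommGrpProd.hasFiniteProducts ?_ ?_
  · intro G H hG hH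
    have := hG.1
    have := hG.2
    have := hH.1
    have := hH.2
    exact ⟨inferInstanceAs (LocallyOfFiniteType (pullback.fst G.X.hom H.X.hom ≫ G.X.hom)),
      inferInstanceAs (QuasiCompact (pullback.fst G.X.hom H.X.hom ≫ G.X.hom))⟩
  · exact ⟨inferInstanceAs (LocallyOfFiniteType (𝟙 _)), inferInstanceAs (QuasiCompact (𝟙 _))⟩

theorem lift_hom {K G T : Alg k} (i : K ⟶ G) [Mono (und i)] (x : T ⟶ G) (t : T.obj.X ⟶ K.obj.X)
    (ht : t ≫ und i = und x) : ∃ t' : T ⟶ K, t' ≫ i = x := by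
  have hm : IsMonHom (t ≫ und i) := by rw [ht]; infer_instance
  have hm' : IsMonHom t := Groth.Agent.Sga3C.SubGrp.isMonHom_of_comp_mono t (und i)
  exact ⟨mkHomP t hm', und_inj ht⟩

theorem all : HasKernels (Alg k) ∧ HasCokernels (Alg k) ∧ IsNormalMonoCategory (Alg k) ∧ IsNormalEpiCategory (Alg k) := by
  refine crit (W (k := k)) ?_ ?_ ?_ ?_ (fun q hq => fun {Z} g hg => exists_desc_of_W q hq g hg)
  · intro G H f
    obtain ⟨K, i, hi, -, hif, hl⟩ := exists_ker f
    refine ⟨K, i, mono_of_und i, hif, fun T x hx => ?_⟩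
    obtain ⟨t, ht⟩ := hl _ (und x) ((comp_eq_zero_iff x f).1 hx)
    exact lift_hom i x t ht
  · intro G H f
    obtain ⟨I, q, i, h1, h2, -, h4⟩ := exists_fac f
    exact ⟨I, q, i, h1, h2, h4⟩
  · intro G H i _
    have := mono_und i
    obtain ⟨Q, p, h1, h2, h3⟩ := exists_normal i
    refine ⟨Q, p, h1, h2, fun T x hx => ?_⟩
    obtain ⟨t, ht⟩ := h3 _ (und x) ((comp_eq_zero_iff x p).1 hx)
    exact lift_hom i x t ht
  · intro G I q hq
    have := epi_und_of_W q hq
    exact epi_of_und q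

/-- **The category of commutative algebraic groups over a field is abelian.** -/
noncomputable instance : Abelian (Alg k) where
  has_finite_products := hasFiniteProducts_P
  has_kernels := all.1
  has_cokernels := all.2.1
  normalMonoOfMono := all.2.2.1.normalMonoOfMono
  normalEpiOfEpi := all.2.2.2.normalEpiOfEpi

/-! ### Monomorphisms and epimorphisms -/

/-- Monomorphisms are closed immersions. -/
theorem isClosedImmersion_of_mono {G H : Alg k} (f : G ⟶ H) [Mono f] : IsClosedImmersion (und f).left := by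
  obtain ⟨I, q, i, hq, hi, hci, hqi⟩ := exists_fac f
  have hqm : Mono q := by
    have : Mono (q ≫ i) := by rw [hqi]; infer_instance
    exact mono_of_mono q i
  have hqe : Epi q := by
    have := epi_und_of_W q hq
    exact epi_of_und q
  have hiso : IsIso q := isIso_of_mono_of_epi q
  have e1 : und q ≫ und (inv q) = 𝟙 _ := by rw [← und_comp, IsIso.hom_inv_id]; rfl
  have e2 : und (inv q) ≫ und q = 𝟙 _ := by rw [← und_comp, IsIso.inv_hom_id]; rfl
  have : IsIso (und q) := ⟨_, e1, e2⟩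
  have : IsIso (und q).left := inferInstanceAs (IsIso ((Over.forget _).map (und q)))
  have h3 : (und f).left = (und q).left ≫ (und i).left := by rw [← hqi]; rfl
  rw [h3]
  exact MorphismProperty.comp_mem _ _ _ (inferInstanceAs (IsClosedImmersion (und q).left)) hci

/-- Epimorphisms are faithfully flat. -/
theorem W_of_epi {G H : Alg k} (f : G ⟶ H) [Epi f] : W f := by
  obtain ⟨I, q, i, hq, hi, hci, hqi⟩ := exists_fac f
  have hie : Epi i := by
    have : Epi (q ≫ i) := by rw [hqi]; infer_instance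
    exact epi_of_epi q i
  have hiso : IsIso i := isIso_of_mono_of_epi i
  have e1 : und i ≫ und (inv i) = 𝟙 _ := by rw [← und_comp, IsIso.hom_inv_id]; rfl
  have e2 : und (inv i) ≫ und i = 𝟙 _ := by rw [← und_comp, IsIso.inv_hom_id]; rfl
  have : IsIso (und i) := ⟨_, e1, e2⟩
  have : IsIso (und i).left := inferInstanceAs (IsIso ((Over.forget _).map (und i)))
  have h3 : (und f).left = (und q).left ≫ (und i).left := by rw [← hqi]; rfl
  obtain ⟨h4, h5, h6⟩ := hq
  refine ⟨?_, ?_, ?_⟩ <;> rw [h3]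
  · exact MorphismProperty.comp_mem _ _ _ h4 (inferInstanceAs (Flat (und i).left))
  · exact MorphismProperty.comp_mem _ _ _ h5 (inferInstanceAs (Surjective (und i).left))
  · exact MorphismProperty.comp_mem _ _ _ h6 (inferInstanceAs (LocallyOfFinitePresentation (und i).left))

theorem epi_of_W {G H : Alg k} (f : G ⟶ H) (hf : W f) : Epi f := by
  have := epi_und_of_W f hf
  exact epi_of_und f

theorem mono_of_isClosedImmersion {G H : Alg k} (f : G ⟶ H) [IsClosedImmersion (und f).left] : Mono f := by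
  have hm : Mono (und f) := by
    have : Mono (und f).left := inferInstance
    exact (Over.forget _).mono_of_mono_map ‹_›
  exact mono_of_und f

end K525.AlgC
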