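import Groth.Agent.AbVar.K525.Unimod
import Mathlib.RingTheory.Ideal.AssociatedPrime.Basic
import Mathlib.RingTheory.Ideal.Quotient.Operations
import Mathlib.Algebra.Module.Projective

/-!
# Cyclicity of finite modules with one-dimensional socles over a Gorenstein order
-/

set_option autoImplicit false

namespace K525.Cyc

open K525.Unimod

section

variable {R : Type*} [CommRing R] (ℓ : ℕ) [hℓ : Fact ℓ.Prime] {V : Type*} [AddCommGroup V] [Module R V] [Finite V]
  (hV : ∀ v : V, ℓ • v = 0)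
  (hm : ∀ m : Ideal R, m.IsMaximal → (ℓ : R) ∈ m → Nat.card {v : V // ∀ r ∈ m, r • v = 0} ≤ Nat.card (R ⧸ m))
include hV hm

/-- A functional without nonzero submodules in its kernel. -/
theorem exists_char' [IsNoetherianRing R] [Module (ZMod ℓ) V] :
    ∃ μ : V →+ ZMod ℓ, ∀ x : V, x ≠ 0 → ∃ r : R, μ (r • x) ≠ 0 := by
  classical
  let I := {m : Ideal R // m.IsMaximal ∧ ∃ v : V, v ≠ 0 ∧ ∀ r ∈ m, r • v = 0}
  have hI : ∀ i : I, ∃ v : V, v ≠ 0 ∧ ∀ r ∈ i.1, r • v = 0 := fun i => i.2.2
  choose v hv0 hv using hI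
  have hli : LinearIndependent (ZMod ℓ) v := by
    rw [linearIndependent_iff']
    intro s g hs i hi
    -- the idempotent
    have hco : Pairwise (Function.onFun IsCoprime (fun j : s => (j.1.1 : Ideal R))) := by
      intro a b hab
      have hne : (a.1.1 : Ideal R) ≠ b.1.1 := fun h => hab (Subtype.ext (Subtype.ext h))
      exact (Ideal.isCoprime_iff_sup_eq).2 (Ideal.IsMaximal.coprime_of_ne a.1.2.1 b.1.2.1 hne)
    obtain ⟨e, he⟩ := Ideal.exists_forall_sub_mem_ideal hco (fun j => if j.1 = i then (1 : R) else 0)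
    have h1 : e • ∑ j ∈ s, g j • v j = g i • v i := by
      rw [Finset.smul_sum, Finset.sum_eq_single i]
      · have h2 := hv i _ (he ⟨i, hi⟩)
        simp only [if_true] at h2
        rw [sub_smul, one_smul, sub_eq_zero] at h2
        rw [← ZMod.natCast_zmod_val (g i), Nat.cast_smul_eq_nsmul, smul_comm, h2]
      · intro j hj hji
        have h2 := hv j _ (he ⟨j, hj⟩)
        simp only [if_neg hji, sub_zero] at h2
        rw [← ZMod.natCast_zmod_val (g j), Nat.cast_smul_eq_nsmul, smul_comm, h2, smul_zero]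
      · intro h; exact absurd hi h
    rw [hs, smul_zero] at h1
    by_contra hgi
    apply hv0 i
    have h3 : v i = (g i)⁻¹ • (g i • v i) := by rw [smul_smul, inv_mul_cancel₀ hgi, one_smul]
    rw [h3, ← h1, smul_zero]
  obtain ⟨g, hg⟩ := LinearMap.exists_leftInverse_of_injective (Finsupp.linearCombination (ZMod ℓ) v)
    (LinearMap.ker_eq_bot.2 hli)
  let μ : V →ₗ[ZMod ℓ] ZMod ℓ := (Finsupp.linearCombination (ZMod ℓ) (fun _ : I => (1 : ZMod ℓ))).comp g
  have hμ : ∀ i : I, (μ : V → ZMod ℓ) (v i) = 1 := by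
    intro i
    have h1 : v i = Finsupp.linearCombination (ZMod ℓ) v (Finsupp.single i 1) := by
      rw [Finsupp.linearCombination_single, one_smul]
    have h2 : g (v i) = Finsupp.single i 1 := by
      conv_lhs => rw [h1]
      exact LinearMap.congr_fun hg _
    show Finsupp.linearCombination (ZMod ℓ) (fun _ : I => (1 : ZMod ℓ)) (g (v i)) = 1
    rw [h2, Finsupp.linearCombination_single, one_smul]
  refine ⟨μ.toAddMonoidHom, fun x hx => ?_⟩
  let N : Submodule R V := Submodule.span R {x}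
  have : Nontrivial N := ⟨⟨x, Submodule.mem_span_singleton_self x⟩, 0, fun h => hx (congrArg Subtype.val h)⟩
  obtain ⟨P, hP⟩ := associatedPrimes.nonempty R N
  obtain ⟨hPp, y, hy⟩ := isAssociatedPrime_iff.1 hP
  have hmem : ∀ r : R, r ∈ P ↔ r • (y : V) = 0 := by
    intro r
    rw [hy, Submodule.mem_colon_singleton, Submodule.mem_bot]
    exact ⟨fun h => by rw [← Submodule.coe_smul, h, Submodule.coe_zero], fun h => Subtype.ext (by
      rw [Submodule.coe_smul, h, Submodule.coe_zero])⟩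
  have hy0 : (y : V) ≠ 0 := fun h => hPp.ne_top ((Ideal.eq_top_iff_one P).2 ((hmem 1).2 (by rw [one_smul, h])))
  -- the quotient embeds
  let f : R →ₗ[R] V := LinearMap.toSpanSingleton R V y
  have hf : LinearMap.ker f = P := by
    ext r
    rw [LinearMap.mem_ker, hmem]
    rfl
  have hfin : Finite (R ⧸ P) := by
    rw [← hf]
    exact Finite.of_injective _ (LinearMap.quotKerEquivRange f).injective
  have hPm : P.IsMaximal := by
    have : IsDomain (R ⧸ P) := Ideal.Quotient.isDomain P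
    exact Ideal.Quotient.maximal_of_isField _ (Finite.isField_of_domain (R ⧸ P))
  have hℓP : (ℓ : R) ∈ P := by
    rw [hmem, Nat.cast_smul_eq_nsmul, hV]
  let i : I := ⟨P, hPm, y, hy0, fun r hr => (hmem r).1 hr⟩
  -- the cyclic module is everything
  let S := {w : V // ∀ r ∈ P, r • w = 0}
  have hc := hm P hPm hℓP
  let F : R ⧸ P → S := Quotient.lift (s := Submodule.quotientRel P) (fun r => ⟨r • (y : V), fun s hs => by
    rw [smul_smul, mul_comm, mul_smul, (hmem s).1 hs, smul_zero]⟩) (by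
      intro a b hab
      apply Subtype.ext
      have h1 : a - b ∈ P := (Submodule.quotientRel_def P).1 hab
      have h2 := (hmem _).1 h1
      rw [sub_smul, sub_eq_zero] at h2
      exact h2)
  have hF : ∀ r : R, F (Ideal.Quotient.mk P r) = ⟨r • (y : V), fun s hs => by
    rw [smul_smul, mul_comm, mul_smul, (hmem s).1 hs, smul_zero]⟩ := fun r => rfl
  have hFi : Function.Injective F := by
    intro a b hab
    obtain ⟨a, rfl⟩ := Ideal.Quotient.mk_surjective a
    obtain ⟨b, rfl⟩ := Ideal.Quotient.mk_surjective b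
    rw [hF, hF] at hab
    rw [Ideal.Quotient.eq, hmem, sub_smul, sub_eq_zero]
    exact congrArg Subtype.val hab
  have hFs := (hFi.bijective_of_nat_card_le hc).2
  obtain ⟨r', hr'⟩ := hFs ⟨v i, hv i⟩
  obtain ⟨r, rfl⟩ := Ideal.Quotient.mk_surjective r'
  rw [hF] at hr'
  have h5 : r • (y : V) = v i := congrArg Subtype.val hr'
  obtain ⟨s, hs⟩ := Submodule.mem_span_singleton.1 y.2
  refine ⟨r * s, ?_⟩
  rw [mul_smul, hs, h5]
  show μ (v i) ≠ 0
  rw [hμ]
  exact one_ne_zero

theorem exists_char [IsNoetherianRing R] : ∃ μ : V →+ ZMod ℓ, ∀ x : V, x ≠ 0 → ∃ r : R, μ (r • x) ≠ 0 :=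
  @exists_char' R _ ℓ _ V _ _ _ hV hm _ (AddCommGroup.zmodModule hV)

/-- Cyclicity. -/
theorem cyclic [Module.Finite ℤ R] [Module.Free ℤ R] {l : R →+ ℤ} (hl : Unimodular l)
    (hcard : Nat.card (R ⧸ Ideal.span {(ℓ : R)}) ≤ Nat.card V) (hfin : Finite (R ⧸ Ideal.span {(ℓ : R)})) :
    ∃ v : V, ∀ w : V, ∃ r : R, w = r • v := by
  have hnoeth : IsNoetherianRing R := isNoetherian_of_isNoetherianRing_of_finite ℤ R |> fun h =>
    isNoetherian_of_tower ℤ h
  obtain ⟨μ, hμ⟩ := exists_char ℓ hV hm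
  have hrep : ∀ w : V, ∃ c : R, ∀ r : R, μ (r • w) = (l (c * r) : ZMod ℓ) := by
    intro w
    let g : R →ₗ[ℤ] ZMod ℓ := (μ.comp ((smulAddHom R V).flip w)).toIntLinearMap
    obtain ⟨h, hh⟩ := Module.projective_lifting_property (Int.castAddHom (ZMod ℓ)).toIntLinearMap g
      (ZMod.intCast_surjective (n := ℓ))
    obtain ⟨c, hc⟩ := hl.exists_rep h.toAddMonoidHom
    refine ⟨c, fun r => ?_⟩
    rw [← hc]
    exact (LinearMap.congr_fun hh r).symm
  choose c hc using hrep
  have huniq : ∀ w w' : V, (∀ r : R, μ (r • w) = μ (r • w')) → w = w' := by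
    intro w w' h
    by_contra hne
    obtain ⟨r, hr⟩ := hμ (w - w') (sub_ne_zero.2 hne)
    exact hr (by rw [smul_sub, map_sub, h, sub_self])
  have hcong : ∀ (a b r : R), a - b ∈ Ideal.span {(ℓ : R)} → (l (a * r) : ZMod ℓ) = (l (b * r) : ZMod ℓ) := by
    intro a b r hab
    obtain ⟨z, hz⟩ := Ideal.mem_span_singleton.1 hab
    have h1 : a = b + (ℓ : R) * z := by rw [← hz]; ring
    have h2 : a * r = b * r + ℓ • (z * r) := by
      rw [h1, nsmul_eq_mul]; ring
    rw [h2, map_add, map_nsmul, Int.cast_add, nsmul_eq_mul, Int.cast_mul]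
    simp
  let Φ : V → R ⧸ Ideal.span {(ℓ : R)} := fun w => Ideal.Quotient.mk _ (c w)
  have hΦ : Function.Injective Φ := by
    intro w w' h
    apply huniq
    intro r
    rw [hc, hc]
    exact hcong _ _ _ (Ideal.Quotient.eq.1 h)
  obtain ⟨v, hv⟩ := (hΦ.bijective_of_nat_card_le hcard).2 1
  refine ⟨v, fun w => ⟨c w, ?_⟩⟩
  apply huniq
  intro r
  have h1 : c v - 1 ∈ Ideal.span {(ℓ : R)} := by
    rw [← Ideal.Quotient.eq, map_one]
    exact hv
  rw [← mul_smul, hc w, hc v, hcong _ _ _ h1, one_mul, mul_comm]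

end

end K525.Cyc
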