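import Groth.Agent.AbVar.K525.ModC
import Groth.Agent.AbVar.K525.AbsFF
import Groth.Agent.Fixpt.H34.RatPts

/-!
# A commutative algebraic group over a finite field on which all multiplications are monomorphisms is trivial
-/

set_option autoImplicit false

universe u

open CategoryTheory MonoidalCategory CartesianMonoidalCategory MonObj GrpObj AlgebraicGeometry Limits

namespace K525.G0C

open K525.AlgC K525.OrdC K525.ModC K525.AbsD

variable {k : Type u} [Field k]

/-- Finitely many points with values in a finite field. -/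
theorem finite_pts (X : Over (Spec (CommRingCat.of k))) [LocallyOfFiniteType X.hom] [QuasiCompact X.hom]
    (κ : Type u) [Field κ] [Finite κ] (f : Spec (CommRingCat.of κ) ⟶ Spec (CommRingCat.of k)) : Finite (Over.mk f ⟶ X) := by
  let Y := pullback X.hom f
  let _ : Y.Over (Spec (CommRingCat.of κ)) := ⟨pullback.snd X.hom f⟩
  have hY : (Y ↘ Spec (CommRingCat.of κ)) = pullback.snd X.hom f := rfl
  have h1 : LocallyOfFiniteType (Y ↘ Spec (CommRingCat.of κ)) := by rw [hY]; infer_instance
  have h2 : QuasiCompact (Y ↘ Spec (CommRingCat.of κ)) := by rw [hY]; infer_instance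
  have h3 : Finite (FixPt.RatPt κ Y) := Groth.Agent.Fixpt.H34.RatPts.finite_ratPt
  have hw : ∀ s : Over.mk f ⟶ X, s.left ≫ X.hom = 𝟙 _ ≫ f := fun s => by
    rw [Category.id_comp]; exact Over.w s
  let Φ : (Over.mk f ⟶ X) → FixPt.RatPt κ Y := fun s => ⟨pullback.lift s.left (𝟙 _) (hw s), pullback.lift_snd _ _ _⟩
  refine Finite.of_injective Φ ?_
  intro s s' h
  have h4 : (Φ s).1 ≫ pullback.fst X.hom f = (Φ s').1 ≫ pullback.fst X.hom f := by rw [h]
  have h5 : ∀ s, (Φ s).1 ≫ pullback.fst X.hom f = s.left := fun s => pullback.lift_fst _ _ _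
  rw [h5, h5] at h4
  ext1
  exact h4

theorem closedPoint_eq [Finite k] (T : Alg k) (hm : ∀ m : ℕ, m ≠ 0 → Mono (m • 𝟙 T)) (t : T.obj.X.left)
    (ht : IsClosed {t}) : t = (η[T.obj.X] : 𝟙_ _ ⟶ T.obj.X).left (pt k) := by
  have hft := T.property.1
  have hqc := T.property.2
  have hJk : JacobsonSpace (Spec (CommRingCat.of k)) := inferInstance
  have hJ : JacobsonSpace T.obj.X.left := LocallyOfFiniteType.jacobsonSpace T.obj.X.hom
  have hx := isClosed_singleton_iff_locallyOfFiniteType.1 ht
  let κ := T.obj.X.left.residueField t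
  let f : Spec κ ⟶ Spec (CommRingCat.of k) := T.obj.X.left.fromSpecResidueField t ≫ T.obj.X.hom
  have hf : LocallyOfFiniteType f := inferInstance
  have hff : IsFinite f := isFinite_iff_locallyOfFiniteType_of_jacobsonSpace.2 hf
  obtain ⟨φ, hφ⟩ := Spec.map_surjective f
  rw [← hφ, IsFinite.SpecMap_iff] at hff
  have hfin : Finite κ := by
    let _ : Algebra k κ := φ.hom.toAlgebra
    have : Module.Finite k κ := hff
    exact Module.finite_of_finite k
  let x : Over.mk f ⟶ T.obj.X := Over.homMk (T.obj.X.left.fromSpecResidueField t) rfl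
  have hfinpts : Finite (Over.mk f ⟶ T.obj.X) := finite_pts T.obj.X κ f
  have hN := Nat.card_pos (α := (Over.mk f ⟶ T.obj.X))
  have hpow : x ^ Nat.card (Over.mk f ⟶ T.obj.X) = 1 := pow_card_eq_one'
  have hmono := hm _ hN.ne'
  have hmono' := mono_und (Nat.card (Over.mk f ⟶ T.obj.X) • 𝟙 T)
  have hx1 : x = 1 := by
    rw [← cancel_mono (und (Nat.card (Over.mk f ⟶ T.obj.X) • 𝟙 T)), und_nsmul, und_id]
    rw [MonObj.comp_pow, MonObj.comp_pow, Category.comp_id, Category.comp_id, hpow, one_pow]
  have h1 : T.obj.X.left.fromSpecResidueField t = (1 : Over.mk f ⟶ T.obj.X).left := congrArg (fun y => y.left) hx1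
  have h2 : (1 : Over.mk f ⟶ T.obj.X).left = (toUnit (Over.mk f)).left ≫ (η[T.obj.X] : 𝟙_ _ ⟶ T.obj.X).left := rfl
  have h3 := Scheme.fromSpecResidueField_apply (X := T.obj.X.left) t (IsLocalRing.closedPoint _)
  rw [h1, h2, Scheme.Hom.comp_apply] at h3
  rw [← h3]
  congr 1
  exact Subsingleton.elim (α := Spec (CommRingCat.of k)) _ _

/-- **Divisibility criterion for triviality.** -/
theorem g0 [Finite k] : G0 (Alg k) := by
  intro T hm
  have hft := T.property.1
  have hqc := T.property.2
  have hJk : JacobsonSpace (Spec (CommRingCat.of k)) := inferInstance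
  have hJ : JacobsonSpace T.obj.X.left := LocallyOfFiniteType.jacobsonSpace T.obj.X.hom
  have hfc : (closedPoints T.obj.X.left).Finite := by
    refine (Set.finite_singleton ((η[T.obj.X] : 𝟙_ _ ⟶ T.obj.X).left (pt k))).subset ?_
    intro t ht
    exact closedPoint_eq T hm t ht
  have hd := JacobsonSpace.discreteTopology hfc
  have hfin : Finite T.obj.X.left := by
    rw [closedPoints_eq_univ] at hfc
    exact Set.finite_univ_iff.1 hfc
  have hord : ord T ≠ 0 := (ord_ne_zero_iff_finite T).2 hfin
  have hmono := hm (ord T) hord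
  have h0 := nsmul_ord T
  rw [IsZero.iff_id_eq_zero, ← cancel_mono (ord T • 𝟙 T), h0, comp_zero, comp_zero]

end K525.G0C
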