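import Groth.Agent.AbVar.K525.LatFin
import Groth.Agent.AbVar.K525.WeilRH
import Groth.Agent.AbVar.K515.HTE
import Groth.Agent.AbVar.K517.HTOL
import Groth.Agent.AbVar.K517.HTWIT
import Groth.Agent.AbVar.K613.EmbMain
import Groth.Agent.AbVar.K869.Ell
import Groth.Agent.AbVar.K510.HT.SP
import Groth.Agent.AbVar.K324.STMain
import Groth.Agent.AbVar.K940.RedMain
import Groth.Agent.AbVar.K940.Nt3
import Groth.Agent.AbVar.K530.HTCmf
import Groth.Agent.AbVar.K229.NT4
import Groth.Agent.AbVar.K229.XI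
import Groth.Agent.AbVar.K229.NTG
import Groth.Agent.AbVar.K516.HTReg
import Groth.Agent.AbVar.K516.HTEv
import Groth.Agent.AbVar.K151.HTPw
import Groth.Agent.AbDual.K732.HCMB
import Groth.Agent.AbVar.K511.HT.Iface4

/-!
# Honda-Tate: everything except `CMA`, `HTQG`, `LAT`
-/

set_option autoImplicit false
universe u

open CategoryTheory MonoidalCategory CartesianMonoidalCategory MonObj GrpObj AlgebraicGeometry Limits MvPolynomial

namespace K525.HTAll

theorem cmw (h : K511.HT.CMA.{u}) : K511.HT.CMW.{u} :=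
  K732.HCMB.main h K869.Ell.main K151.HTPw.main K229.XI.main K516.HTEv.main K516.HTReg.main

theorem hte (h : K511.HT.CMA.{u}) (hG : K511.HT.HTQG.{u}) : K511.HT.HTE.{u} :=
  K515.HTE.main (hG K229.NTG.main1 K229.NTG.main2 K940.Nt3.main K229.NT4.main K530.HTCmf.main K517.HTWIT.main
    K613.EmbMain.main (cmw h) K510.HT.SP.main K517.HTOL.main K940.RedMain.main K324.STMain.main K525.WeilRH.main)

end K525.HTAll
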