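import Groth.Agent.AbVar.K511.HT.Iface
import Mathlib.FieldTheory.Minpoly.IsIntegrallyClosed
import Mathlib.RingTheory.Polynomial.GaussLemma
import Mathlib.FieldTheory.IntermediateField.Adjoin.Basic

/-!
# Assembly of `S17997` from the existence theorem `HTE`

`exists_av`: for every non-real Weil `p`-number `ϖ` there is an abelian variety `B` over the prime field with
`P(π_B) = 0` and `2 dim B = deg P`, `P` the minimal polynomial of `ϖ`.
-/

set_option autoImplicit false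
universe u

open CategoryTheory MonoidalCategory CartesianMonoidalCategory MonObj GrpObj AlgebraicGeometry Limits
open scoped NumberField IntermediateField
open NumberField

namespace K525.HTFin

theorem aeval_gen {K : Type} [Field K] [CharZero K] (ϖ : K) :
    Polynomial.aeval (IntermediateField.AdjoinSimple.gen ℚ ϖ) (minpoly ℤ ϖ) = 0 := by
  apply (algebraMap ℚ⟮ϖ⟯ K).injective
  rw [← Polynomial.aeval_algebraMap_apply, IntermediateField.AdjoinSimple.algebraMap_gen, minpoly.aeval, map_zero]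

/-- Conjugates in `ℂ` of an algebraic integer are roots of its minimal polynomial. -/
theorem mem_aroots {K : Type} [Field K] [CharZero K] (ϖ : K) (hint : IsIntegral ℤ ϖ)
    (σ : ℚ⟮ϖ⟯ →+* ℂ) : σ (IntermediateField.AdjoinSimple.gen ℚ ϖ) ∈ (minpoly ℤ ϖ).aroots ℂ := by
  have h0 : minpoly ℤ ϖ ≠ 0 := minpoly.ne_zero hint
  rw [Polynomial.mem_aroots]
  refine ⟨h0, ?_⟩
  have h1 := aeval_gen ϖ
  have h2 := Polynomial.hom_eval₂ (minpoly ℤ ϖ) (algebraMap ℤ ℚ⟮ϖ⟯) σ (IntermediateField.AdjoinSimple.gen ℚ ϖ)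
  rw [show σ.comp (algebraMap ℤ ℚ⟮ϖ⟯) = algebraMap ℤ ℂ from RingHom.ext_int _ _] at h2
  rw [Polynomial.aeval_def, ← h2, ← Polynomial.aeval_def, h1, map_zero]

/-- The existence theorem in terms of the minimal polynomial. -/
theorem exists_av (h : K511.HT.HTE.{u}) (p : ℕ) [Fact p.Prime] (k : Type u) [Field k] [Finite k] (hk : Nat.card k = p)
    (K : Type) [Field K] [CharZero K] (ϖ : K) (hint : IsIntegral ℤ ϖ)
    (hweil : ∀ z ∈ (minpoly ℤ ϖ).aroots ℂ, ‖z‖ = Real.sqrt p)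
    (hnr : ∀ z ∈ (minpoly ℤ ϖ).aroots ℂ, z.im ≠ 0) :
    ∃ (B : Over (Spec (CommRingCat.of k))) (_ : GrpObj B) (_ : IsCommMonObj B) (_ : IsProper B.hom)
      (_ : GeometricallyIntegral B.hom) (g : ℕ) (_ : topologicalKrullDim B.left = g)
      (_ : (minpoly ℤ ϖ).natDegree = 2 * g) (π : EndAV.End B),
      K511.HT.IsFrob p π.toHom ∧ Polynomial.eval₂ (Int.castRingHom (EndAV.End B)) π (minpoly ℤ ϖ) = 0 := by
  have hQ : IsIntegral ℚ ϖ := hint.tower_top
  have : FiniteDimensional ℚ ℚ⟮ϖ⟯ := IntermediateField.adjoin.finiteDimensional hQ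
  have : NumberField ℚ⟮ϖ⟯ := { }
  have hgen : IsIntegral ℤ (IntermediateField.AdjoinSimple.gen ℚ ϖ) := by
    rw [← isIntegral_algebraMap_iff (algebraMap ℚ⟮ϖ⟯ K).injective, IntermediateField.AdjoinSimple.algebraMap_gen]
    exact hint
  let w : 𝓞 ℚ⟮ϖ⟯ := ⟨IntermediateField.AdjoinSimple.gen ℚ ϖ, hgen⟩
  have htop : Algebra.adjoin ℚ {(w : ℚ⟮ϖ⟯)} = ⊤ :=
    (IntermediateField.adjoin.powerBasis hQ).adjoin_gen_eq_top
  obtain ⟨B, i1, i2, i3, i4, g, hg, hg2, ρ, hρ⟩ := h p k hk ℚ⟮ϖ⟯ w htop (by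
    intro σ
    rw [show σ (w : ℚ⟮ϖ⟯) = σ (IntermediateField.AdjoinSimple.gen ℚ ϖ) from rfl, hweil _ (mem_aroots ϖ hint σ),
      Real.sq_sqrt (Nat.cast_nonneg p)]) (fun σ => hnr _ (mem_aroots ϖ hint σ))
  refine ⟨B, i1, i2, i3, i4, g, hg, ?_, ρ ⟨w, Algebra.self_mem_adjoin_singleton ℤ w⟩, hρ, ?_⟩
  · rw [← hg2, IntermediateField.adjoin.finrank hQ, minpoly.isIntegrallyClosed_eq_field_fractions' ℚ hint,
      (minpoly.monic hint).natDegree_map]
  · rw [show Int.castRingHom (EndAV.End B) = (ρ : _ →+* EndAV.End B).comp (Int.castRingHom _) from RingHom.ext_int _ _,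
      ← Polynomial.hom_eval₂]
    have h3 : Polynomial.eval₂ (Int.castRingHom (Algebra.adjoin ℤ {w})) ⟨w, Algebra.self_mem_adjoin_singleton ℤ w⟩
        (minpoly ℤ ϖ) = 0 := by
      apply (Subtype.val_injective (p := fun x => x ∈ Algebra.adjoin ℤ {w}))
      apply RingOfIntegers.coe_injective
      have h4 := Polynomial.hom_eval₂ (minpoly ℤ ϖ) (Int.castRingHom (Algebra.adjoin ℤ {w}))
        ((algebraMap (𝓞 ℚ⟮ϖ⟯) ℚ⟮ϖ⟯).comp (algebraMap (Algebra.adjoin ℤ {w}) (𝓞 ℚ⟮ϖ⟯)))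
        ⟨w, Algebra.self_mem_adjoin_singleton ℤ w⟩
      refine h4.trans ?_
      have h5 := (RingHom.ext_int (((algebraMap (𝓞 ℚ⟮ϖ⟯) ℚ⟮ϖ⟯).comp (algebraMap (Algebra.adjoin ℤ {w}) (𝓞 ℚ⟮ϖ⟯))).comp
        (Int.castRingHom (Algebra.adjoin ℤ {w}))) (algebraMap ℤ ℚ⟮ϖ⟯))
      rw [h5]
      exact aeval_gen ϖ
    rw [h3, map_zero]

end K525.HTFin
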