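import Groth.Agent.AbVar.K525.Conv
import Groth.Agent.AbVar.K525.AbsMore
import Groth.Agent.AbVar.K520.FrP

/-!
# The hypotheses of the statements
-/

set_option autoImplicit false

universe w u

open CategoryTheory MonoidalCategory CartesianMonoidalCategory MonObj GrpObj AlgebraicGeometry Limits MvPolynomial

namespace K525.Hyp

open K525.AlgC K525.OrdC K525.AbsOrd K525.AbsD K525.AbsS K525.AVC K525.Unimod K525.Count K525.Setup K525.Rw K525.Conv
  K520.Frob K520.FrP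

/-- The hypotheses on the Weil numbers and `A_w`. -/
structure HypW (p : ℕ) [Fact p.Prime] (k : Type u) [Field k] [Finite k]
    (J : Type) [Fintype J] (K : J → Type) [∀ j, Field (K j)] [∀ j, CharZero (K j)] (ϖ : ∀ j, K j)
    (Aw : Over (Spec (CommRingCat.of k))) [GrpObj Aw] [IsCommMonObj Aw] [IsProper Aw.hom] [GeometricallyIntegral Aw.hom]
    (ρw : (ev p J K ϖ).range ≃+* EndAV.End Aw) : Prop where
  hk : Nat.card k = p
  hint : ∀ j, IsIntegral ℤ (ϖ j)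
  hweil : ∀ j, ∀ z ∈ (minpoly ℤ (ϖ j)).aroots ℂ, ‖z‖ = Real.sqrt p
  hnr : ∀ j, ∀ z ∈ (minpoly ℤ (ϖ j)).aroots ℂ, z.im ≠ 0
  hinj : ∀ i j, minpoly ℤ (ϖ i) = minpoly ℤ (ϖ j) → i = j
  hρ : ρw ⟨ev p J K ϖ (X 0), AlgHom.mem_range_self _ _⟩ = EndAV.End.of (fr k Aw)

variable {p : ℕ} [Fact p.Prime] {k : Type u} [Field k] [Finite k]
    {J : Type} [Fintype J] {K : J → Type} [∀ j, Field (K j)] [∀ j, CharZero (K j)] {ϖ : ∀ j, K j}
    {Aw : Over (Spec (CommRingCat.of k))} [GrpObj Aw] [IsCommMonObj Aw] [IsProper Aw.hom] [GeometricallyIntegral Aw.hom]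
    {ρw : (ev p J K ϖ).range ≃+* EndAV.End Aw}

theorem HypW.mk' (hk : Nat.card k = p)
    (hint : ∀ j, IsIntegral ℤ (ϖ j))
    (hweil : ∀ j, ∀ z ∈ (minpoly ℤ (ϖ j)).aroots ℂ, ‖z‖ = Real.sqrt p)
    (hnr : ∀ j, ∀ z ∈ (minpoly ℤ (ϖ j)).aroots ℂ, z.im ≠ 0)
    (hinj : ∀ i j, minpoly ℤ (ϖ i) = minpoly ℤ (ϖ j) → i = j)
    (πw : Aw ⟶ Aw) [IsMonHom πw] (hπwb : πw.left.base = 𝟙 _) (hπwle : ∀ U : Aw.left.Opens, U ≤ πw.left ⁻¹ᵁ U)
    (hπwapp : ∀ (U : Aw.left.Opens) (s : Γ(Aw.left, U)), (πw.left.appLE U U (hπwle U)).hom s = s ^ p)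
    (hρw : ρw ⟨ev p J K ϖ (X 0), AlgHom.mem_range_self _ _⟩ = EndAV.End.of πw) :
    HypW p k J K ϖ Aw ρw := by
  subst hk
  obtain rfl := eq_fr k Aw πw ⟨hπwb, hπwle, hπwapp⟩
  exact ⟨rfl, hint, hweil, hnr, hinj, hρw⟩

/-- The condition `P(π) = 0`. -/
def InW (ϖ : ∀ j, K j) (G : Alg k) : Prop :=
  Polynomial.eval₂ (Int.castRingHom (End G)) (show End G from frC G) (∏ j, minpoly ℤ (ϖ j)) = 0

/-- The rank hypothesis. -/
def RankW (ϖ : ∀ j, K j) (A : Alg k) : Prop := ∀ Y : Alg k, IsAV Y → InW ϖ Y →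
  Module.Finite ℤ (Y ⟶ A) ∧ Module.Free ℤ (Y ⟶ A) ∧
    ∀ g : ℕ, topologicalKrullDim Y.obj.X.left = g → 2 * g ≤ Module.finrank ℤ (Y ⟶ A)

variable (H : HypW p k J K ϖ Aw ρw)
include H

theorem HypW.fam : K944.WeilNum.Order.Fam p ϖ (ev p J K ϖ) := K525.Rw.fam p J K ϖ H.hint H.hweil H.hinj

theorem HypW.fin : Module.Finite ℤ (ev p J K ϖ).range := H.fam.finite

theorem HypW.free : Module.Free ℤ (ev p J K ϖ).range := H.fam.free

theorem HypW.root : Polynomial.aeval (⟨ev p J K ϖ (X 0), AlgHom.mem_range_self _ _⟩ : (ev p J K ϖ).range)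
    (∏ j, minpoly ℤ (ϖ j)) = 0 := by
  apply Subtype.val_injective
  have h1 := Polynomial.aeval_algHom_apply (ev p J K ϖ).range.val
    (⟨ev p J K ϖ (X 0), AlgHom.mem_range_self _ _⟩ : (ev p J K ϖ).range) (∏ j, minpoly ℤ (ϖ j))
  refine h1.symm.trans ?_
  show Polynomial.aeval (ev p J K ϖ (X 0)) _ = 0
  rw [H.fam.f0]
  exact H.fam.aeval_P

theorem HypW.inW : InW ϖ (K525.AVC.mk Aw) := by
  let e : (ev p J K ϖ).range ≃+* End (K525.AVC.mk Aw) := ρw.trans (endE Aw).symm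
  have h1 : e ⟨ev p J K ϖ (X 0), AlgHom.mem_range_self _ _⟩ = (show End (K525.AVC.mk Aw) from frC (K525.AVC.mk Aw)) := by
    show (endE Aw).symm (ρw _) = _
    rw [H.hρ]
    rfl
  show Polynomial.eval₂ (Int.castRingHom (End (K525.AVC.mk Aw))) (show End (K525.AVC.mk Aw) from frC (K525.AVC.mk Aw)) _ = 0
  rw [← h1]
  have h2 := Polynomial.hom_eval₂ (∏ j, minpoly ℤ (ϖ j)) (Int.castRingHom (ev p J K ϖ).range)
    (e : (ev p J K ϖ).range →+* End (K525.AVC.mk Aw)) ⟨ev p J K ϖ (X 0), AlgHom.mem_range_self _ _⟩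
  have h3 : (e : (ev p J K ϖ).range →+* End (K525.AVC.mk Aw)).comp (Int.castRingHom (ev p J K ϖ).range) =
    Int.castRingHom (End (K525.AVC.mk Aw)) := RingHom.ext_int _ _
  rw [h3] at h2
  refine h2.symm.trans ?_
  have h4 := H.root
  rw [Polynomial.aeval_def, show algebraMap ℤ (ev p J K ϖ).range = Int.castRingHom _ from RingHom.ext_int _ _] at h4
  rw [h4]
  exact map_zero _

theorem HypW.data (hR : RankW ϖ (K525.AVC.mk Aw)) : Data p (ρw.trans (endE Aw).symm) where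
  prime := Fact.out
  hk := H.hk
  av := isAV_mk Aw
  fin := H.fin
  free := H.free
  unim := K525.Rw.exists_unimodular H.fam H.hnr
  fv := by
    refine ⟨⟨ev p J K ϖ (X 0), AlgHom.mem_range_self _ _⟩, ⟨ev p J K ϖ (X 1), AlgHom.mem_range_self _ _⟩, ?_, ?_, ?_⟩
    · show (endE Aw).symm (ρw _) = _
      rw [H.hρ]
      rfl
    · apply Subtype.val_injective
      show ev p J K ϖ (X 0) * ev p J K ϖ (X 1) = ((Nat.card k : (ev p J K ϖ).range) : ∀ j, K j)
      rw [H.fam.f0, H.hk]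
      ext j
      rw [Pi.mul_apply, H.fam.f1]
      rfl
    · intro N h1 hF hV
      rw [eq_top_iff]
      rintro ⟨x, g, rfl⟩ -
      have : ∀ (g : MvPolynomial (Fin 2) ℤ), ((ev p J K ϖ).rangeRestrict g) ∈ N := by
        intro g
        induction g using MvPolynomial.induction_on with
        | C a =>
          have : (ev p J K ϖ).rangeRestrict (C a) = a • (1 : (ev p J K ϖ).range) := by
            rw [show (C a : MvPolynomial (Fin 2) ℤ) = (a : MvPolynomial (Fin 2) ℤ) from eq_intCast C a, map_intCast,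
              zsmul_eq_mul, _root_.mul_one]
          rw [this]
          exact N.zsmul_mem h1 a
        | add g g' hg hg' => rw [map_add]; exact N.add_mem hg hg'
        | mul_X g i hg =>
          rw [map_mul, _root_.mul_comm]
          fin_cases i
          · exact hF _ hg
          · exact hV _ hg
      exact this g
  rank := by
    intro g hg
    have e : (ev p J K ϖ).range ≃ₗ[ℤ] (K525.AVC.mk Aw ⟶ K525.AVC.mk Aw) :=
      ((ρw.trans (endE Aw).symm : (ev p J K ϖ).range ≃+* End (K525.AVC.mk Aw)) : (ev p J K ϖ).range ≃+ End (K525.AVC.mk Aw)).toIntLinearEquiv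
    rw [e.finrank_eq]
    exact (hR _ (isAV_mk Aw) H.inW).2.2 g hg

end K525.Hyp
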