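import Groth.Agent.AbVar.K525.AbsFF
import Mathlib.RingTheory.Ideal.Quotient.Basic
import Mathlib.RingTheory.Ideal.Colon
import Mathlib.RingTheory.Artinian.Module
import Mathlib.RingTheory.Artinian.Ring
import Mathlib.Algebra.CharP.Basic

/-!
# A criterion for `R ≅ End A`: `ord A[𝔪] ≤ #(R/𝔪)` for all maximal ideals
-/

set_option autoImplicit false

universe w v u

open CategoryTheory Limits ZeroObject K525.AbsOrd K525.AbsD

namespace K525.LatCrit

variable {C : Type u} [Category.{v} C] [Abelian C]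
variable {A : C} {R : Type w} [CommRing R] (ρ : R →+* End A)

attribute [local instance] Abelian.hasFiniteBiproducts

/-- The endomorphism of `A` attached to `r`. -/
abbrev act (r : R) : A ⟶ A := ρ r

theorem act_mul (r s : R) : act ρ (r * s) = act ρ s ≫ act ρ r := by
  show ρ (r * s) = _
  rw [map_mul]; rfl

theorem act_add (r s : R) : act ρ (r + s) = act ρ r + act ρ s := map_add ρ r s

theorem act_zero : act ρ 0 = 0 := map_zero ρ

theorem act_one : act ρ 1 = 𝟙 A := map_one ρ

theorem act_natCast (n : ℕ) : act ρ (n : R) = n • 𝟙 A := by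
  show ρ (n : R) = _
  rw [map_natCast]
  exact (nsmul_one n).symm

/-- The subobject of `A` killed by an ideal. -/
structure IsKer (I : Ideal R) {K : C} (κ : K ⟶ A) : Prop where
  mono : Mono κ
  zero : ∀ r ∈ I, κ ≫ act ρ r = 0
  lift : ∀ {T : C} (x : T ⟶ A), (∀ r ∈ I, x ≫ act ρ r = 0) → ∃ t : T ⟶ K, t ≫ κ = x

theorem exists_isKer (I : Ideal R) (hI : I.FG) : ∃ (K : C) (κ : K ⟶ A), IsKer ρ I κ := by
  obtain ⟨n, f, hf⟩ := Submodule.fg_iff_exists_fin_generating_family.1 hI
  let F := biproduct.lift (fun i => act ρ (f i))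
  have key : ∀ {T : C} (x : T ⟶ A), (∀ i, x ≫ act ρ (f i) = 0) → ∀ r ∈ I, x ≫ act ρ r = 0 := by
    intro T x hx r hr
    rw [← hf] at hr
    induction hr using Submodule.span_induction with
    | mem r h =>
      obtain ⟨i, rfl⟩ := h
      exact hx i
    | zero => rw [act_zero, comp_zero]
    | add r s _ _ h1 h2 => rw [act_add, Preadditive.comp_add, h1, h2, add_zero]
    | smul c r _ h1 =>
      show x ≫ act ρ (c * r) = 0
      rw [act_mul, ← Category.assoc, h1, zero_comp]
  refine ⟨kernel F, kernel.ι F, inferInstance, ?_, ?_⟩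
  · apply key
    intro i
    have : act ρ (f i) = F ≫ biproduct.π (fun _ => A) i := by
      simp only [F]
      rw [biproduct.lift_π]
    rw [this, ← Category.assoc, kernel.condition, zero_comp]
  · intro T x hx
    refine ⟨kernel.lift F x ?_, kernel.lift_ι _ _ _⟩
    apply biproduct.hom_ext
    intro i
    rw [Category.assoc, biproduct.lift_π, zero_comp]
    exact hx _ (hf ▸ Submodule.subset_span ⟨i, rfl⟩)

/-- Two kernels of the same ideal are isomorphic over `A`. -/
theorem IsKer.exists_iso {I : Ideal R} {K K' : C} {κ : K ⟶ A} {κ' : K' ⟶ A} (h : IsKer ρ I κ) (h' : IsKer ρ I κ') :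
    ∃ e : K ≅ K', e.hom ≫ κ' = κ := by
  obtain ⟨a, ha⟩ := h'.lift κ h.zero
  obtain ⟨b, hb⟩ := h.lift κ' h'.zero
  have := h.mono
  have := h'.mono
  refine ⟨⟨a, b, ?_, ?_⟩, ha⟩
  · rw [← cancel_mono κ, Category.assoc, hb, ha, Category.id_comp]
  · rw [← cancel_mono κ', Category.assoc, ha, hb, Category.id_comp]

section ideal

/-- A minimal ideal above `J` and its colon ideal. -/
theorem exists_step (J : Ideal R) (hJ : J ≠ ⊤) [Finite (R ⧸ J)] :
    ∃ (J' : Ideal R) (x : R) (q : Ideal R), J < J' ∧ J' = J ⊔ Ideal.span {x} ∧ q.IsMaximal ∧ (∀ r, r ∈ q ↔ r * x ∈ J) ∧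
      Nat.card (R ⧸ J) = Nat.card (R ⧸ J') * Nat.card (R ⧸ q) := by
  classical
  have hfin : Finite (Ideal (R ⧸ J)) := Finite.of_injective (fun I : Ideal (R ⧸ J) => (I : Set (R ⧸ J))) SetLike.coe_injective
  have hart : IsArtinianRing (R ⧸ J) := inferInstance
  -- a minimal ideal above `J`
  obtain ⟨I, ⟨hI0, -⟩, hImin⟩ := IsArtinian.set_has_minimal {I : Ideal (R ⧸ J) | I ≠ ⊥ ∧ True}
    ⟨⊤, by
      refine ⟨?_, trivial⟩
      have : Nontrivial (R ⧸ J) := Ideal.Quotient.nontrivial_iff.2 hJ
      exact top_ne_bot⟩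
  let J' : Ideal R := Ideal.comap (Ideal.Quotient.mk J) I
  have hJJ' : J ≤ J' := by
    intro r hr
    show Ideal.Quotient.mk J r ∈ I
    rw [Ideal.Quotient.eq_zero_iff_mem.2 hr]
    exact I.zero_mem
  have hmap : J'.map (Ideal.Quotient.mk J) = I :=
    Ideal.map_comap_of_surjective _ Ideal.Quotient.mk_surjective I
  obtain ⟨x, hxJ', hxJ⟩ : ∃ x ∈ J', x ∉ J := by
    by_contra hcon
    push Not at hcon
    apply hI0
    rw [eq_bot_iff, ← hmap, Ideal.map_le_iff_le_comap]
    intro r hr
    show Ideal.Quotient.mk J r ∈ (⊥ : Ideal _)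
    rw [Ideal.Quotient.eq_zero_iff_mem.2 (hcon r hr)]
    exact Ideal.zero_mem _
  have hlt : J < J' := lt_of_le_of_ne hJJ' fun h => hxJ (h ▸ hxJ')
  have hsup : ∀ y : R, y ∈ J' → y ∉ J → J ⊔ Ideal.span {y} = J' := by
    intro y hy hy'
    refine le_antisymm (sup_le hJJ' ((Ideal.span_singleton_le_iff_mem _).2 hy)) ?_
    have h1 : Ideal.map (Ideal.Quotient.mk J) (Ideal.span {y}) ≠ ⊥ := by
      rw [Ideal.map_span, Set.image_singleton, Ne, Ideal.span_singleton_eq_bot, Ideal.Quotient.eq_zero_iff_mem]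
      exact hy'
    have h2 : Ideal.map (Ideal.Quotient.mk J) (Ideal.span {y}) ≤ I := by
      rw [← hmap]
      exact Ideal.map_mono ((Ideal.span_singleton_le_iff_mem _).2 hy)
    have h3 : Ideal.map (Ideal.Quotient.mk J) (Ideal.span {y}) = I := by
      by_contra hne
      exact hImin _ ⟨h1, trivial⟩ (lt_of_le_of_ne h2 hne)
    intro r hr
    have h4 : Ideal.Quotient.mk J r ∈ Ideal.map (Ideal.Quotient.mk J) (Ideal.span {y}) := by rw [h3]; exact hr
    obtain ⟨s, hs, hs'⟩ := (Ideal.mem_map_iff_of_surjective _ Ideal.Quotient.mk_surjective).1 h4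
    have h5 : r - s ∈ J := by rw [← Ideal.Quotient.eq_zero_iff_mem, map_sub, hs', sub_self]
    have h6 : r = (r - s) + s := by ring
    rw [h6]
    exact Submodule.add_mem _ (Ideal.mem_sup_left h5) (Ideal.mem_sup_right hs)
  let q : Ideal R := Submodule.comap (LinearMap.toSpanSingleton R R x) J
  have hq : ∀ r : R, r ∈ q ↔ r * x ∈ J := fun r => Iff.rfl
  have hqmax : q.IsMaximal := by
    rw [Ideal.isMaximal_iff]
    refine ⟨fun h1 => hxJ (by simpa using (hq 1).1 h1), ?_⟩
    intro P r hqP hr hrP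
    have h1 : r * x ∉ J := fun h2 => hr ((hq r).2 h2)
    have h2 := hsup (r * x) (J'.mul_mem_left r hxJ') h1
    have h3 : x ∈ J ⊔ Ideal.span {r * x} := by rw [h2]; exact hxJ'
    obtain ⟨y, hy, z, hz, hyz⟩ := Submodule.mem_sup.1 h3
    obtain ⟨s, rfl⟩ := Ideal.mem_span_singleton'.1 hz
    have h4 : (1 - s * r) ∈ q := by
      rw [hq]
      have : (1 - s * r) * x = y := by linear_combination (-1 : R) * hyz
      rw [this]; exact hy
    have h5 : s * r ∈ P := P.mul_mem_left s hrP
    have h6 : (1 : R) = (1 - s * r) + s * r := by ring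
    rw [h6]
    exact P.add_mem (hqP h4) h5
  have hcardJ : Nat.card (R ⧸ J) = Nat.card (R ⧸ J') * Nat.card (R ⧸ q) := by
    have h1 := Submodule.card_quotient_mul_card_quotient J' J hlt.le
    let g : R →ₗ[R] R ⧸ J := LinearMap.toSpanSingleton R (R ⧸ J) (J.mkQ x)
    have hgk : LinearMap.ker g = q := by
      ext r
      rw [LinearMap.mem_ker, hq]
      show r • J.mkQ x = 0 ↔ _
      rw [← map_smul, Submodule.mkQ_apply, Submodule.Quotient.mk_eq_zero]
      rfl
    have hgr : LinearMap.range g = Submodule.map J.mkQ J' := by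
      rw [LinearMap.range_toSpanSingleton, ← hsup x hxJ' hxJ, Submodule.map_sup]
      have h2 : Submodule.map J.mkQ J = ⊥ := by
        rw [eq_bot_iff]
        rintro _ ⟨y, hy, rfl⟩
        exact (Submodule.mem_bot _).2 ((Submodule.Quotient.mk_eq_zero J).2 hy)
      rw [h2, bot_sup_eq]
      show _ = Submodule.map J.mkQ (Submodule.span R {x})
      rw [Submodule.map_span, Set.image_singleton]
    have h3 : Nat.card (Submodule.map J.mkQ J') = Nat.card (R ⧸ q) := by
      rw [← hgr, ← hgk]
      exact Nat.card_congr g.quotKerEquivRange.toEquiv.symm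
    rw [← h1, h3, mul_comm]
  exact ⟨J', x, q, hlt, (hsup x hxJ' hxJ).symm, hqmax, hq, hcardJ⟩

end ideal

variable {ord : C → ℕ} (h : IsOrd ord)
include h

/-- The order of `A[J]` is at most `#(R/J)` if this holds for maximal ideals. -/
theorem ord_le [IsNoetherianRing R]
    (hmax : ∀ (q : Ideal R), q.IsMaximal → ∀ {K : C} (κ : K ⟶ A), IsKer ρ q κ → ord K ≠ 0 ∧ ord K ≤ Nat.card (R ⧸ q))
    (J : Ideal R) (hJ : Finite (R ⧸ J)) {K : C} (κ : K ⟶ A) (hκ : IsKer ρ J κ) :
    ord K ≠ 0 ∧ ord K ≤ Nat.card (R ⧸ J) := by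
  suffices H : ∀ (d : ℕ) (J : Ideal R), Finite (R ⧸ J) → Nat.card (R ⧸ J) ≤ d →
      ∀ {K : C} (κ : K ⟶ A), IsKer ρ J κ → ord K ≠ 0 ∧ ord K ≤ Nat.card (R ⧸ J) from H _ J hJ le_rfl κ hκ
  intro d
  induction d using Nat.strong_induction_on with
  | _ d ih =>
    intro J hJ hd K κ hκ
    by_cases hJt : J = ⊤
    · subst hJt
      have hz : IsZero K := by
        rw [IsZero.iff_id_eq_zero]
        have := hκ.mono
        rw [← cancel_mono κ, Category.id_comp, zero_comp]
        have := hκ.zero 1 trivial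
        rwa [act_one, Category.comp_id] at this
      rw [h.zero _ hz]
      exact ⟨one_ne_zero, Nat.card_pos⟩
    · obtain ⟨J', x, q, hlt, hsup, hqmax, hq, hcard⟩ := exists_step J hJt
      have hfJ' : Finite (R ⧸ J') := Finite.of_surjective _ (Ideal.Quotient.factor_surjective hlt.le)
      have hcq : 1 < Nat.card (R ⧸ q) := by
        have hfq : Finite (R ⧸ q) := by
          apply Nat.finite_of_card_ne_zero
          intro h0
          have : 0 < Nat.card (R ⧸ J) := Nat.card_pos
          rw [hcard, h0, mul_zero] at this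
          exact lt_irrefl _ this
        have : Nontrivial (R ⧸ q) := Ideal.Quotient.nontrivial_iff.2 hqmax.ne_top
        exact Finite.one_lt_card
      obtain ⟨K', κ', hκ'⟩ := exists_isKer ρ J' (IsNoetherian.noetherian J')
      obtain ⟨Q, i, hi⟩ := exists_isKer ρ q (IsNoetherian.noetherian q)
      have := hκ.mono
      have := hκ'.mono
      have := hi.mono
      have hlt' : Nat.card (R ⧸ J') < d := by
        refine lt_of_lt_of_le ?_ hd
        rw [hcard]
        have : 0 < Nat.card (R ⧸ J') := Nat.card_pos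
        nlinarith
      obtain ⟨h1, h2⟩ := ih _ hlt' J' hfJ' le_rfl κ' hκ'
      obtain ⟨h3, h4⟩ := hmax q hqmax i hi
      -- multiplication by `x`
      obtain ⟨m, hm⟩ := hi.lift (κ ≫ act ρ x) (fun r hr => by
        rw [Category.assoc, ← act_mul]
        exact hκ.zero _ ((hq r).1 hr))
      obtain ⟨a, ha⟩ := hκ.lift κ' (fun r hr => hκ'.zero r (hlt.le hr))
      have hxJ' : x ∈ J' := by rw [hsup]; exact Ideal.mem_sup_right (Ideal.mem_span_singleton_self x)
      have ham : a ≫ m = 0 := by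
        rw [← cancel_mono i, Category.assoc, hm, ← Category.assoc, ha, zero_comp]
        exact hκ'.zero x hxJ'
      have hamono : Mono a := by
        have : Mono (a ≫ κ) := by rw [ha]; infer_instance
        exact mono_of_mono a κ
      have hk : Nonempty (kernel m ≅ K') := by
        obtain ⟨t, ht⟩ := hκ'.lift (kernel.ι m ≫ κ) (by
          intro r hr
          rw [hsup] at hr
          obtain ⟨u, hu, v, hv, rfl⟩ := Submodule.mem_sup.1 hr
          obtain ⟨s, rfl⟩ := Ideal.mem_span_singleton'.1 hv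
          have h5 : (kernel.ι m ≫ κ) ≫ act ρ x = 0 := by
            rw [Category.assoc, ← hm, ← Category.assoc, kernel.condition, zero_comp]
          rw [act_add, Preadditive.comp_add, act_mul, ← Category.assoc, h5, zero_comp, add_zero, Category.assoc,
            hκ.zero u hu, comp_zero])
        refine ⟨⟨t, kernel.lift m a ham, ?_, ?_⟩⟩
        · rw [← cancel_mono (kernel.ι m), Category.assoc, kernel.lift_ι, ← cancel_mono κ, Category.assoc, ha, ht,
            Category.id_comp]
        · rw [← cancel_mono κ', Category.assoc, ht, ← Category.assoc, kernel.lift_ι, ha, Category.id_comp]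
      obtain ⟨e⟩ := hk
      let p := Abelian.factorThruImage m
      have h6 : ord K = ord (kernel p) * ord (Abelian.image m) := h.epi p
      have h7 : ord (kernel p) = ord K' := by
        have h8 : Nonempty (kernel p ≅ kernel m) := by
          have h9 : p ≫ Abelian.image.ι m = m := Abelian.image.fac m
          have h10 : kernel.ι p ≫ m = 0 := by
            have : kernel.ι p ≫ p ≫ Abelian.image.ι m = 0 := by
              rw [← Category.assoc, kernel.condition, zero_comp]
            rwa [h9] at this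
          have h11 : kernel.ι m ≫ p = 0 := by
            have : (kernel.ι m ≫ p) ≫ Abelian.image.ι m = 0 := by
              rw [Category.assoc, h9, kernel.condition]
            rwa [← zero_comp (f := Abelian.image.ι m), cancel_mono] at this
          refine ⟨⟨kernel.lift m (kernel.ι p) h10, kernel.lift p (kernel.ι m) h11, ?_, ?_⟩⟩
          · rw [← cancel_mono (kernel.ι p), Category.assoc, kernel.lift_ι, kernel.lift_ι, Category.id_comp]
          · rw [← cancel_mono (kernel.ι m), Category.assoc, kernel.lift_ι, kernel.lift_ι, Category.id_comp]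
        obtain ⟨e'⟩ := h8
        exact h.iso (e' ≪≫ e)
      have h8 : ord (Abelian.image m) ≠ 0 := h.ne_zero_of_mono (Abelian.image.ι m) h3
      have h9 : ord (Abelian.image m) ≤ ord Q := h.le_of_mono (Abelian.image.ι m) h3
      rw [h6, h7, hcard]
      exact ⟨mul_ne_zero h1 h8, Nat.mul_le_mul h2 (h9.trans h4)⟩

/-- **The criterion.** -/
theorem surjective [IsNoetherianRing R]
    (hmax : ∀ (q : Ideal R), q.IsMaximal → ∀ {K : C} (κ : K ⟶ A), IsKer ρ q κ → ord K ≠ 0 ∧ ord K ≤ Nat.card (R ⧸ q))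
    (hfin : ∀ n : ℕ, n ≠ 0 → Finite (R ⧸ Ideal.span {(n : R)}))
    (hepi : ∀ n : ℕ, n ≠ 0 → Epi (n • 𝟙 A))
    (hord : ∀ n : ℕ, n ≠ 0 → Nat.card (R ⧸ Ideal.span {(n : R)}) ≤ ord (kernel (n • 𝟙 A)))
    (hrat : ∀ φ : A ⟶ A, ∃ (n : ℕ) (r : R), n ≠ 0 ∧ n • φ = act ρ r) : Function.Surjective ρ := by
  intro φ
  obtain ⟨n, r, hn, hr⟩ := hrat φ
  have := hfin n hn
  have := hepi n hn
  let I : Ideal R := Ideal.span {(n : R)} ⊔ Ideal.span {r}
  have hI : Ideal.span {(n : R)} ≤ I := le_sup_left
  have hfI : Finite (R ⧸ I) := Finite.of_surjective _ (Ideal.Quotient.factor_surjective hI)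
  have hφ : n • φ = (n • 𝟙 A) ≫ φ := by rw [smul_id_comp]
  have hκ : IsKer ρ I (kernel.ι (n • 𝟙 A)) := by
    refine ⟨inferInstance, ?_, ?_⟩
    · intro s hs
      obtain ⟨u, hu, v, hv, rfl⟩ := Submodule.mem_sup.1 hs
      obtain ⟨a, rfl⟩ := Ideal.mem_span_singleton'.1 hu
      obtain ⟨b, rfl⟩ := Ideal.mem_span_singleton'.1 hv
      rw [act_add, Preadditive.comp_add, act_mul, act_mul, act_natCast, ← Category.assoc, kernel.condition, zero_comp,
        zero_add, ← hr, hφ, ← Category.assoc, ← Category.assoc, kernel.condition, zero_comp, zero_comp]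
    · intro T x hx
      refine ⟨kernel.lift _ x ?_, kernel.lift_ι _ _ _⟩
      rw [← act_natCast ρ]
      exact hx _ (hI (Ideal.mem_span_singleton_self _))
  obtain ⟨-, h1⟩ := ord_le ρ h hmax I hfI _ hκ
  have h2 : I = Ideal.span {(n : R)} := by
    have h3 := Submodule.card_quotient_mul_card_quotient I (Ideal.span {(n : R)}) hI
    have h4 : Nat.card (R ⧸ Ideal.span {(n : R)}) ≤ Nat.card (R ⧸ I) := (hord n hn).trans h1
    have h5 : 0 < Nat.card (R ⧸ I) := Nat.card_pos
    have h6 : Nat.card (Submodule.map (Ideal.span {(n : R)}).mkQ I) = 1 := by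
      have h7 : 0 < Nat.card (R ⧸ Ideal.span {(n : R)}) := Nat.card_pos
      have h8 : Nat.card (Submodule.map (Ideal.span {(n : R)}).mkQ I) ≠ 0 := by
        intro h0
        rw [h0, zero_mul] at h3
        exact h7.ne h3
      by_contra hne
      have : 2 ≤ Nat.card (Submodule.map (Ideal.span {(n : R)}).mkQ I) := by omega
      rw [← h3] at h4
      nlinarith
    have h7 : Submodule.map (Ideal.span {(n : R)}).mkQ I = ⊥ := by
      rw [Nat.card_eq_one_iff_unique] at h6
      obtain ⟨h8, -⟩ := h6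
      exact Submodule.eq_bot_of_subsingleton
    refine le_antisymm (fun y hy => ?_) hI
    have h8 : (Ideal.span {(n : R)}).mkQ y ∈ Submodule.map (Ideal.span {(n : R)}).mkQ I := ⟨y, hy, rfl⟩
    rw [h7, Submodule.mem_bot] at h8
    exact (Submodule.Quotient.mk_eq_zero _).1 h8
  have h3 : r ∈ Ideal.span {(n : R)} := by
    rw [← h2]
    exact Ideal.mem_sup_right (Ideal.mem_span_singleton_self r)
  obtain ⟨s, hs⟩ := Ideal.mem_span_singleton.1 h3
  refine ⟨s, ?_⟩
  have h4 : (n • 𝟙 A) ≫ φ = (n • 𝟙 A) ≫ act ρ s := by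
    rw [← hφ, hr, hs, mul_comm, act_mul, act_natCast]
  exact ((cancel_epi (n • 𝟙 A)).1 h4).symm

end K525.LatCrit
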