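import Groth.Agent.AbVar.K525.LatFin
import Groth.Agent.AbVar.K590.Desc
import Groth.Agent.AbVar.K940.LatComm
import Groth.Agent.WeilNum.K944.Order
import Mathlib.Algebra.Module.PID

/-!
# Glue for the lattice theorem: from a good action of an order containing `R_w` to `R_w ≅ End B`
-/

set_option autoImplicit false

universe w u

open CategoryTheory Limits MvPolynomial

namespace K525.LatGlue

open K525.AlgC K525.OrdC K525.AbsOrd K525.AVC K525.AbsD K590.OrdGI K944.WeilNum.Order

/-- Good actions are faithful. -/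
theorem good_injective {A : Type*} [Category A] [Abelian A] {ord : A → ℕ} {B : A} {R : Type*} [CommRing R]
    [Module.Finite ℤ R] [Module.Free ℤ R] {ρ : R →+* End B} (hG : Good ord ρ) : Function.Injective ρ := by
  rw [injective_iff_map_eq_zero]
  intro y hy
  have hy' : act ρ y = 0 := hy
  by_contra hne
  let b := Module.finBasis ℤ R
  have h1 : ∃ i, b.repr y i ≠ 0 := by
    by_contra hall
    push Not at hall
    exact hne (b.repr.map_eq_zero_iff.1 (Finsupp.ext hall))
  obtain ⟨i, hi⟩ := h1
  let n := (b.repr y i).natAbs + 1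
  obtain ⟨z, hz⟩ := hG.dvd (n := n) (Nat.succ_ne_zero _) (by rw [hy', comp_zero] : _ ≫ act ρ y = 0)
  have h2 : b.repr y i = n * b.repr z i := by
    have : y = (n : ℤ) • z := by rw [hz, zsmul_eq_mul, Int.cast_natCast]
    rw [this, map_smul, Finsupp.smul_apply, smul_eq_mul]
  have h3 : (n : ℤ) ∣ b.repr y i := ⟨_, h2⟩
  have h4 := Int.natAbs_dvd_natAbs.2 h3
  have h5 := Nat.le_of_dvd (Int.natAbs_pos.2 hi) h4
  simp only [n, Int.natAbs_natCast] at h5
  omega

/-- A subring of full rank has finite index. -/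
theorem exists_index {O : Type*} [CommRing O] [Module.Finite ℤ O] [Module.Free ℤ O] (R0 : Subring O)
    (h : Module.finrank ℤ O ≤ Module.finrank ℤ R0) : ∃ n : ℕ, n ≠ 0 ∧ ∀ x : O, (n : O) * x ∈ R0 := by
  have := K590.Desc.finite_sub R0
  have := K590.Desc.free_sub R0
  let f : R0 →ₗ[ℤ] O := R0.subtype.toAddMonoidHom.toIntLinearMap
  have hinj : Function.Injective f := Subtype.val_injective
  let N : Submodule ℤ O := LinearMap.range f
  have hN : Module.finrank ℤ N = Module.finrank ℤ R0 := LinearMap.finrank_range_of_inj hinj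
  have h1 := Submodule.finrank_quotient_add_finrank N
  have h2 : Module.finrank ℤ (O ⧸ N) = 0 := by omega
  rw [Module.finrank_eq_zero_iff_isTorsion] at h2
  have hfin : Finite (O ⧸ N) := Module.finite_of_fg_torsion _ h2
  refine ⟨Nat.card (O ⧸ N), Nat.card_pos.ne', fun x => ?_⟩
  have h3 : N.mkQ (Nat.card (O ⧸ N) • x) = 0 := by
    rw [map_nsmul]
    exact card_nsmul_eq_zero'
  have h4 : Nat.card (O ⧸ N) • x ∈ N := (Submodule.Quotient.mk_eq_zero N).1 h3
  obtain ⟨y, hy⟩ := h4
  rw [← nsmul_eq_mul, ← hy]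
  exact y.2

section

variable {p : ℕ} [Fact p.Prime] {k : Type u} [Field k] [Finite k] (hk : Nat.card k = p)
  {J : Type} [Fintype J] {K : J → Type} [∀ j, Field (K j)] [∀ j, CharZero (K j)] {ϖ : ∀ j, K j}
  (hint : ∀ j, IsIntegral ℤ (ϖ j)) (hweil : ∀ j, ∀ z ∈ (minpoly ℤ (ϖ j)).aroots ℂ, ‖z‖ = Real.sqrt p)
  (hinj : ∀ i j, minpoly ℤ (ϖ i) = minpoly ℤ (ϖ j) → i = j)
  {O : Type w} [CommRing O] [Module.Finite ℤ O] [Module.Free ℤ O] (ι : O →+* ∀ j, K j)
  (hι : Function.Injective ι) (F V : O) (hF : ι F = ϖ) (hFV : F * V = p)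

include hint hweil hinj hι hF hFV hk in
theorem glue (hrk : Module.finrank ℤ O = ∑ j, (minpoly ℤ (ϖ j)).natDegree) (htop : K590.Desc.P k F (⊤ : Subring O)) :
    ∃ (B : Alg k) (ρ : (K525.Rw.ev p J K ϖ).range ≃+* End B), IsAV B ∧
      ρ ⟨K525.Rw.ev p J K ϖ (X 0), AlgHom.mem_range_self _ _⟩ = End.of (frC B) := by
  classical
  have H := K525.Rw.fam p J K ϖ hint hweil hinj
  set f := K525.Rw.ev p J K ϖ with hf
  have hιV : ι V = f (X 1) := by
    funext j
    have h1 := H.f1 j
    have h2 : ι F j * ι V j = p := by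
      rw [← Pi.mul_apply, ← map_mul, hFV, map_natCast]
      rfl
    rw [hF] at h2
    exact mul_left_cancel₀ (H.ne_zero j) (h2.trans h1.symm)
  let g : MvPolynomial (Fin 2) ℤ →ₐ[ℤ] O := MvPolynomial.aeval ![F, V]
  have hg : ∀ a, ι (g a) = f a := by
    intro a
    have h1 : (ι.comp g.toRingHom) = f.toRingHom := by
      apply MvPolynomial.ringHom_ext
      · intro r
        show ι (g (C r)) = f (C r)
        rw [show (C r : MvPolynomial (Fin 2) ℤ) = (r : MvPolynomial (Fin 2) ℤ) from eq_intCast C r, map_intCast,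
          map_intCast, map_intCast]
      · intro i
        show ι (g (X i)) = f (X i)
        fin_cases i
        · show ι (g (X 0)) = f (X 0)
          rw [MvPolynomial.aeval_X, H.f0]
          exact hF
        · show ι (g (X 1)) = f (X 1)
          rw [MvPolynomial.aeval_X]
          exact hιV
    exact congrFun (congrArg DFunLike.coe h1) a
  -- the suborder
  let R0 : Subring O := f.range.toSubring.comap ι
  have hmem : ∀ x : O, x ∈ R0 ↔ ι x ∈ f.range := fun x => Iff.rfl
  have hFR : F ∈ R0 := by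
    rw [hmem, hF, ← H.f0]
    exact AlgHom.mem_range_self _ _
  have hVR : V ∈ R0 := by
    rw [hmem, hιV]
    exact AlgHom.mem_range_self _ _
  let e0 : R0 →+* f.range := (ι.comp R0.subtype).codRestrict f.range (fun x => x.2)
  have he0 : Function.Bijective e0 := by
    constructor
    · intro x y hxy
      apply Subtype.ext
      apply hι
      exact congrArg Subtype.val hxy
    · rintro ⟨x, a, rfl⟩
      refine ⟨⟨g a, ?_⟩, ?_⟩
      · rw [hmem, hg]
        exact AlgHom.mem_range_self _ _
      · apply Subtype.ext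
        exact hg a
  let e : R0 ≃+* f.range := RingEquiv.ofBijective e0 he0
  have := K590.Desc.finite_sub R0
  have := K590.Desc.free_sub R0
  have hrk0 : Module.finrank ℤ R0 = ∑ j, (minpoly ℤ (ϖ j)).natDegree := by
    have e' : R0 ≃ₗ[ℤ] f.range := (e : R0 ≃+ f.range).toIntLinearEquiv
    rw [e'.finrank_eq, H.finrank, K944.WeilNum.Sym.natDegree_prod hint]
  obtain ⟨n, hn, hn0⟩ := exists_index R0 (hrk.trans hrk0.symm).le
  obtain ⟨B, ρ, hB, hρF, hdiv, hgood⟩ := K590.Desc.main hk hFV hn R0 hn0 hFR hVR htop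
  have hρinj := good_injective hgood
  let F0 : R0 := ⟨F, hFR⟩
  have hρF' : ρ F0 = End.of (frC B) := hρF hFR
  set P := ∏ j, minpoly ℤ (ϖ j) with hP
  have hPdeg : P.natDegree = Module.finrank ℤ O := by
    rw [hP, K944.WeilNum.Sym.natDegree_prod hint, hrk]
  have hmon : P.Monic := Polynomial.monic_prod_of_monic _ _ fun j _ => minpoly.monic (hint j)
  have hsq : Squarefree (P.map (Int.castRingHom ℚ)) := by
    rw [hP, Polynomial.map_prod]
    have hirr : ∀ j, Irreducible ((minpoly ℤ (ϖ j)).map (Int.castRingHom ℚ)) := by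
      intro j
      rw [show Int.castRingHom ℚ = algebraMap ℤ ℚ from rfl, ← minpoly.isIntegrallyClosed_eq_field_fractions' ℚ (hint j)]
      exact minpoly.irreducible (hint j).tower_top
    refine Finset.squarefree_prod_of_pairwise_isCoprime ?_ ?_
    · intro i _ j _ hij
      rw [Function.onFun, (hirr i).isRelPrime_iff_not_dvd]
      intro hdvd
      have hassoc := (hirr i).associated_of_dvd (hirr j) hdvd
      have h1 := Polynomial.eq_of_monic_of_associated ((minpoly.monic (hint i)).map _) ((minpoly.monic (hint j)).map _) hassoc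
      exact hij (hinj i j (Polynomial.map_injective _ (Int.castRingHom ℚ).injective_int h1))
    · intro i _
      exact (hirr i).squarefree
  have haev : ∀ Q : Polynomial ℤ, Polynomial.aeval (End.of (frC B)) Q = ρ (Polynomial.aeval F0 Q) := by
    intro Q
    rw [K940.LatComm.map_aeval, hρF']
    have h1 := K940.LatComm.map_aeval (RingHom.id (End B)) (End.of (frC B)) Q
    exact h1
  have h0 : ∀ Q : Polynomial ℤ, Polynomial.aeval (End.of (frC B)) Q = 0 ↔ P ∣ Q := by
    intro Q
    rw [haev, map_eq_zero_iff ρ hρinj]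
    have hval : ∀ G : Polynomial ℤ, ι ((Polynomial.aeval F0 G : R0) : O) = Polynomial.aeval ϖ G := by
      intro G
      have h1 := K940.LatComm.map_aeval (ι.comp R0.subtype) F0 G
      have h2 := K940.LatComm.map_aeval (RingHom.id (∀ j, K j)) ϖ G
      have h3 : (ι.comp R0.subtype) F0 = ϖ := hF
      rw [h3] at h1
      exact h1.trans h2.symm
    constructor
    · intro h1
      refine K944.WeilNum.Sym.prod_dvd hint hinj Q fun j => ?_
      rw [← H.aeval_apply, ← hval, h1]
      simp
    · rintro ⟨S, rfl⟩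
      rw [map_mul]
      have h2 : Polynomial.aeval F0 P = 0 := by
        apply Subtype.ext
        apply hι
        rw [hval, H.aeval_P]
        simp
      rw [h2, zero_mul]
  have hcom := K940.LatComm.main hk hB P hmon hsq (fun m hm => by rw [hPdeg]; exact hdiv.card m hm) h0
  have hbij := hgood.bijective hdiv.epi (fun φ => by
    obtain ⟨m, hm, Q, hQ⟩ := hcom φ
    exact ⟨m, Polynomial.aeval F0 Q, hm, by rw [hQ, haev]⟩)
  refine ⟨B, e.symm.trans (RingEquiv.ofBijective ρ hbij), hB, ?_⟩
  have h4 : e.symm ⟨f (X 0), AlgHom.mem_range_self _ _⟩ = F0 := by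
    rw [RingEquiv.symm_apply_eq]
    apply Subtype.ext
    show f (X 0) = ι F
    rw [H.f0, hF]
  show ρ (e.symm _) = _
  rw [h4]
  exact hρF'

end

end K525.LatGlue
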