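import Mathlib.LinearAlgebra.AnnihilatingPolynomial
import Mathlib.Algebra.Module.PID
import Mathlib.LinearAlgebra.Dual.Lemmas
import Mathlib.Algebra.Polynomial.Module.AEval
import Mathlib.Algebra.Polynomial.Inductions
import Mathlib.LinearAlgebra.FreeModule.Finite.Matrix

/-!
# The space of intertwiners into a module of full minimal polynomial
-/

set_option autoImplicit false

open Polynomial

namespace K525.Lin

variable {K V W : Type*} [Field K] [AddCommGroup V] [Module K V] [AddCommGroup W] [Module K W]

/-- The intertwiners. -/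
def inter (f : Module.End K V) (g : Module.End K W) : Submodule K (V →ₗ[K] W) where
  carrier := {u | u ∘ₗ f = g ∘ₗ u}
  zero_mem' := by rw [Set.mem_setOf_eq, LinearMap.zero_comp, LinearMap.comp_zero]
  add_mem' := fun {u v} hu hv => by
    rw [Set.mem_setOf_eq] at hu hv ⊢
    rw [LinearMap.add_comp, hu, hv, LinearMap.comp_add]
  smul_mem' := fun c u hu => by
    rw [Set.mem_setOf_eq] at hu ⊢
    rw [LinearMap.smul_comp, hu, LinearMap.comp_smul]

theorem mem_inter {f : Module.End K V} {g : Module.End K W} {u : V →ₗ[K] W} :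
    u ∈ inter f g ↔ ∀ x, u (f x) = g (u x) :=
  ⟨fun h x => LinearMap.congr_fun h x, fun h => LinearMap.ext h⟩

/-- Existence of a vector with full annihilator. -/
theorem exists_vec [FiniteDimensional K W] (g : Module.End K W) : ∃ w : W, ∀ q : K[X], aeval g q w = 0 → minpoly K g ∣ q := by
  have hfin : Module.Finite K[X] (Module.AEval' g) := inferInstance
  obtain ⟨x, hx⟩ := Module.exists_ker_toSpanSingleton_eq_annihilator K[X] (Module.AEval' g)
  obtain ⟨w, rfl⟩ := (Module.AEval'.of g).surjective x
  rw [← span_minpoly_eq_annihilator] at hx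
  refine ⟨w, fun q hq => ?_⟩
  rw [← Ideal.mem_span_singleton, ← hx, LinearMap.mem_ker, LinearMap.toSpanSingleton_apply]
  have h1 : q • (Module.AEval'.of g w) = Module.AEval'.of g (aeval g q w) := by
    rw [Module.AEval'.of]
    exact Module.AEval.of_aeval_smul _ _ _ |>.symm
  rw [h1, hq, map_zero]

theorem coeff_iter (P : K[X]) (i j : ℕ) : (divX^[i] P).coeff j = P.coeff (j + i) := by
  induction i generalizing j with
  | zero => rfl
  | succ i ih => rw [Function.iterate_succ_apply', coeff_divX, ih, add_right_comm, add_assoc]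

variable (f : Module.End K V) (g : Module.End K W) (P : K[X]) (w : W)

/-- The intertwiner attached to a functional. -/
noncomputable def U (φ : Module.Dual K V) : V →ₗ[K] W :=
  ∑ i ∈ Finset.range P.natDegree, (φ ∘ₗ (f ^ i)).smulRight (aeval g (divX^[i + 1] P) w)

theorem U_apply (φ : Module.Dual K V) (y : V) :
    U f g P w φ y = ∑ i ∈ Finset.range P.natDegree, φ ((f ^ i) y) • aeval g (divX^[i + 1] P) w := by
  rw [U, LinearMap.sum_apply]
  rfl

theorem U_comm (hP : P.Monic) (hf : aeval f P = 0) (hg : aeval g P = 0) (φ : Module.Dual K V) (y : V) :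
    U f g P w φ (f y) = g (U f g P w φ y) := by
  set n := P.natDegree with hn
  have hc : ∀ i, divX^[i] P = divX^[i + 1] P * X + C (P.coeff i) := by
    intro i
    rw [Function.iterate_succ_apply']
    conv_lhs => rw [← divX_mul_X_add (divX^[i] P)]
    rw [coeff_iter, zero_add]
  have hcn : divX^[n] P = 1 := by
    ext j
    rw [coeff_iter, coeff_one]
    split_ifs with h
    · rw [h, zero_add, hn]; exact hP
    · exact coeff_eq_zero_of_natDegree_lt (by omega)
  have h1 : ∀ i, g (aeval g (divX^[i + 1] P) w) = aeval g (divX^[i] P) w - P.coeff i • w := by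
    intro i
    conv_rhs => rw [hc i]
    rw [map_add, aeval_C, mul_comm, map_mul, aeval_X, LinearMap.add_apply, Module.algebraMap_end_apply,
      add_sub_cancel_right]
    rfl
  have h2 : ∑ i ∈ Finset.range n, P.coeff i * φ ((f ^ i) y) = - φ ((f ^ n) y) := by
    have h3 : φ (aeval f P y) = 0 := by rw [hf, LinearMap.zero_apply, map_zero]
    rw [aeval_eq_sum_range, LinearMap.sum_apply, map_sum, Finset.sum_range_succ, ← hn] at h3
    have h4 : P.coeff n = 1 := hP
    simp only [LinearMap.smul_apply, map_smul, smul_eq_mul] at h3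
    rw [h4, one_mul] at h3
    exact eq_neg_of_add_eq_zero_left h3
  have h5 := Finset.sum_range_succ (fun i => φ ((f ^ i) y) • aeval g (divX^[i] P) w) n
  have h6 := Finset.sum_range_succ' (fun i => φ ((f ^ i) y) • aeval g (divX^[i] P) w) n
  have h7 : ∑ i ∈ Finset.range n, φ ((f ^ i) y) • aeval g (divX^[i] P) w + φ ((f ^ n) y) • w =
      ∑ i ∈ Finset.range n, φ ((f ^ (i + 1)) y) • aeval g (divX^[i + 1] P) w := by
    rw [h5] at h6
    rw [hcn, map_one] at h6
    simp only [Function.iterate_zero, id_eq, hg, LinearMap.zero_apply, smul_zero, add_zero] at h6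
    exact h6
  rw [U_apply, U_apply, ← hn, map_sum]
  have h8 : ∀ i ∈ Finset.range n, g (φ ((f ^ i) y) • aeval g (divX^[i + 1] P) w) =
      φ ((f ^ i) y) • aeval g (divX^[i] P) w - (P.coeff i * φ ((f ^ i) y)) • w := by
    intro i _
    rw [map_smul, h1, smul_sub, smul_smul, mul_comm]
  rw [Finset.sum_congr rfl h8, Finset.sum_sub_distrib, ← Finset.sum_smul, h2, neg_smul, sub_neg_eq_add, h7]
  refine Finset.sum_congr rfl fun i _ => ?_
  rw [pow_succ]
  rfl

theorem finrank_le [FiniteDimensional K V] [FiniteDimensional K W] (hf : aeval f (minpoly K g) = 0) :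
    Module.finrank K V ≤ Module.finrank K (inter f g) := by
  obtain ⟨w, hw⟩ := exists_vec g
  set P := minpoly K g with hPdef
  have hP : P.Monic := minpoly.monic (Algebra.IsIntegral.isIntegral g)
  let Φ : Module.Dual K V →ₗ[K] inter f g :=
    { toFun := fun φ => ⟨U f g P w φ, mem_inter.2 (U_comm f g P w hP hf (minpoly.aeval K g) φ)⟩
      map_add' := fun φ ψ => by
        apply Subtype.ext
        ext y
        show U f g P w (φ + ψ) y = U f g P w φ y + U f g P w ψ y
        rw [U_apply, U_apply, U_apply, ← Finset.sum_add_distrib]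
        refine Finset.sum_congr rfl fun i _ => ?_
        rw [LinearMap.add_apply, add_smul]
      map_smul' := fun c φ => by
        apply Subtype.ext
        ext y
        show U f g P w (c • φ) y = c • U f g P w φ y
        rw [U_apply, U_apply, Finset.smul_sum]
        refine Finset.sum_congr rfl fun i _ => ?_
        rw [LinearMap.smul_apply, smul_assoc] }
  have hΦ : Function.Injective Φ := by
    rw [injective_iff_map_eq_zero]
    intro φ hφ
    ext y
    rw [LinearMap.zero_apply]
    have h1 : U f g P w φ y = 0 := by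
      have := congrArg (fun z : inter f g => z.1 y) hφ
      exact this
    rw [U_apply] at h1
    let Q : K[X] := ∑ i ∈ Finset.range P.natDegree, C (φ ((f ^ i) y)) * divX^[i + 1] P
    have h2 : aeval g Q w = 0 := by
      rw [← h1]
      show aeval g (∑ i ∈ Finset.range P.natDegree, C (φ ((f ^ i) y)) * divX^[i + 1] P) w = _
      rw [map_sum, LinearMap.sum_apply]
      refine Finset.sum_congr rfl fun i _ => ?_
      rw [map_mul, aeval_C, Module.End.mul_apply, Module.algebraMap_end_apply]
    have hcoeff : ∀ j, Q.coeff j = ∑ i ∈ Finset.range P.natDegree, φ ((f ^ i) y) * P.coeff (j + (i + 1)) := by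
      intro j
      show (∑ i ∈ Finset.range P.natDegree, C (φ ((f ^ i) y)) * divX^[i + 1] P).coeff j = _
      rw [finset_sum_coeff]
      refine Finset.sum_congr rfl fun i _ => ?_
      rw [coeff_C_mul, coeff_iter]
    rcases Nat.eq_zero_or_pos P.natDegree with h0 | hpos
    · have h3 : P = 1 := hP.natDegree_eq_zero.1 h0
      have h4 : (1 : Module.End K V) = 0 := by rw [← hf, h3, map_one]
      have h5 : y = 0 := LinearMap.congr_fun h4 y
      rw [h5, map_zero]
    · have h3 : Q = 0 := by
        refine eq_zero_of_dvd_of_degree_lt (hw Q h2) ?_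
        rw [degree_eq_natDegree hP.ne_zero, degree_lt_iff_coeff_zero]
        intro m hm
        rw [hcoeff]
        refine Finset.sum_eq_zero fun i _ => ?_
        rw [coeff_eq_zero_of_natDegree_lt (by omega), mul_zero]
      have h4 := hcoeff (P.natDegree - 1)
      rw [h3, coeff_zero, Finset.sum_eq_single 0] at h4
      · have h5 : P.natDegree - 1 + (0 + 1) = P.natDegree := by omega
        rw [h5, hP.coeff_natDegree, mul_one, pow_zero] at h4
        exact h4.symm
      · intro i _ hi
        rw [coeff_eq_zero_of_natDegree_lt (by omega), mul_zero]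
      · intro h
        exact absurd (Finset.mem_range.2 hpos) h
  rw [← Subspace.dual_finrank_eq]
  exact LinearMap.finrank_le_finrank_of_injective hΦ

end K525.Lin
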