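import Groth.Agent.Sga3C.HopfPowRank
import Mathlib.Algebra.DualNumber
import Mathlib.LinearAlgebra.FreeModule.Finite.Matrix
import Mathlib.RingTheory.Artinian.Ring
import Mathlib.FieldTheory.IsAlgClosed.AlgebraicClosure

/-!
# The tangent space of an infinitesimal finite group scheme over `F_p` has at most `ord G` elements
-/

set_option autoImplicit false

open Coalgebra Groth.Agent.Sga3C.HopfPow

namespace K525.TanC

section

variable {K C : Type*} [Field K] [CommRing C] [HopfAlgebra K C]

/-- The truncated monomials in the coordinates are linearly independent. -/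
theorem pow_le_finrank (p : ℕ) [hp : Fact p.Prime] [CharP K p] [Module.Finite K C]
    (hnil : IsNilpotent (augIdeal K C)) {n : ℕ} (x : Fin n → C) (d : Fin n → (C →ₗ[K] K))
    (hd : ∀ j a b, d j (a * b) = counit (R := K) a * d j b + d j a * counit (R := K) b)
    (hdx : ∀ i j, d j (x i) = if i = j then 1 else 0) : p ^ n ≤ Module.finrank K C := by
  obtain ⟨N, hN⟩ := exists_normalized_der x d hd hdx hnil
  have h1 : (1 : C) ∉ (⊥ : Ideal C) := by
    intro h
    rw [Ideal.mem_bot] at h
    have := congrArg (counit (R := K)) h
    rw [Bialgebra.counit_one, map_zero] at this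
    exact one_ne_zero this
  let fs : (Fin n → Fin p) → (Fin n →₀ ℕ) := fun α => Finsupp.equivFunOnFinite.symm (fun i => α i)
  have hfs : Function.Injective fs := by
    intro α β h
    ext i
    have := DFunLike.congr_fun h i
    simpa [fs] using this
  let v : (Fin n → Fin p) → C := fun α => MvPolynomial.aeval x (MvPolynomial.monomial (fs α) (1 : K))
  have hli : LinearIndependent K v := by
    rw [Fintype.linearIndependent_iff]
    intro g hg
    let f : MvPolynomial (Fin n) K := ∑ α, MvPolynomial.monomial (fs α) (g α)
    have hcoeff : ∀ s, MvPolynomial.coeff s f = ∑ α, if fs α = s then g α else 0 := by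
      intro s
      simp only [f, MvPolynomial.coeff_sum, MvPolynomial.coeff_monomial]
    have hf : f = 0 := by
      refine eq_zero_of_reduced p x (⊥ : Ideal C) h1 _ hN ?_ f.totalDegree f le_rfl ?_ ?_
      · intro j u hu
        rw [Ideal.mem_bot] at hu ⊢
        rw [hu, map_zero]
      · intro s hs i
        rw [hcoeff] at hs
        obtain ⟨α, _, hα⟩ := Finset.exists_ne_zero_of_sum_ne_zero hs
        have : fs α = s := by
          by_contra hne
          rw [if_neg hne] at hα
          exact hα rfl
        rw [← this]
        exact (α i).2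
      · rw [Ideal.mem_bot, ← hg]
        simp only [f, map_sum]
        refine Finset.sum_congr rfl fun α _ => ?_
        have : MvPolynomial.monomial (fs α) (g α) = g α • MvPolynomial.monomial (fs α) (1 : K) := by
          rw [MvPolynomial.smul_monomial, smul_eq_mul, mul_one]
        rw [this, map_smul]
    intro α
    have := hcoeff (fs α)
    rw [hf, MvPolynomial.coeff_zero, Finset.sum_eq_single α] at this
    · rw [if_pos rfl] at this; exact this.symm
    · intro β _ hβ
      rw [if_neg (fun h => hβ (hfs h))]
    · intro h; exact absurd (Finset.mem_univ _) h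
  have := hli.fintype_card_le_finrank
  rwa [Fintype.card_fun, Fintype.card_fin, Fintype.card_fin] at this

open DualNumber

/-- The number of dual number points. -/
theorem card_dual_le (p : ℕ) [hp : Fact p.Prime] [Finite K] (hK : Nat.card K = p) [Module.Finite K C]
    (hnil : IsNilpotent (augIdeal K C)) :
    Finite (C →ₐ[K] DualNumber K) ∧ Nat.card (C →ₐ[K] DualNumber K) ≤ Module.finrank K C ∧
      (1 < Module.finrank K C → Nontrivial (C →ₐ[K] DualNumber K)) := by
  have hch : CharP K p := by
    have h1 : (p : K) = 0 := by
      have := Fintype.ofFinite K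
      rw [← hK, Nat.card_eq_fintype_card]
      exact Nat.cast_card_eq_zero K
    exact (CharP.charP_iff_prime_eq_zero hp.out).2 h1
  obtain ⟨n, x, d, hx, hd, hdx, hI⟩ := exists_coords K C
  have hsurj := aeval_surjective x d hx hI hnil
  -- algebra maps preserve the augmentation
  have hfst : ∀ (f : C →ₐ[K] DualNumber K) (c : C), (f c).fst = counit (R := K) c := by
    intro f c
    have h1 : c - algebraMap K C (counit (R := K) c) ∈ augIdeal K C := by
      rw [mem_augIdeal, map_sub, Bialgebra.counit_algebraMap, sub_self]
    obtain ⟨N, hN⟩ := hnil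
    have h2 : (c - algebraMap K C (counit (R := K) c)) ^ N = 0 := by
      have := Ideal.pow_mem_pow h1 N
      rwa [hN] at this
    have h3 : (TrivSqZeroExt.fstHom K K K) (f (c - algebraMap K C (counit (R := K) c))) ^ N = 0 := by
      rw [← map_pow, ← map_pow, h2, map_zero, map_zero]
    have h4 := eq_zero_of_pow_eq_zero h3
    rw [map_sub, map_sub, AlgHom.commutes, sub_eq_zero] at h4
    exact h4
  let Φ : (C →ₐ[K] DualNumber K) → (Fin n → K) := fun f i => (f (x i)).snd
  have hΦ : Function.Injective Φ := by
    intro f g h
    have h1 : ∀ i, f (x i) = g (x i) := by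
      intro i
      apply TrivSqZeroExt.ext
      · rw [hfst, hfst]
      · exact congrFun h i
    apply AlgHom.ext
    intro c
    obtain ⟨P, rfl⟩ := hsurj c
    have h2 : f.comp (MvPolynomial.aeval x) = g.comp (MvPolynomial.aeval x) := by
      apply MvPolynomial.algHom_ext
      intro i
      rw [AlgHom.comp_apply, AlgHom.comp_apply, MvPolynomial.aeval_X, h1]
    exact DFunLike.congr_fun h2 P
  have hfin : Finite (C →ₐ[K] DualNumber K) := Finite.of_injective Φ hΦ
  refine ⟨hfin, ?_, ?_⟩
  · have h1 := Nat.card_le_card_of_injective Φ hΦ
    rw [Nat.card_fun, hK, Nat.card_fin] at h1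
    exact h1.trans (pow_le_finrank p hnil x d hd hdx)
  · intro h1
    have hn : 0 < n := by
      rcases Nat.eq_zero_or_pos n with rfl | h0
      · exfalso
        have h2 : Module.finrank K C ≤ Module.finrank K (MvPolynomial (Fin 0) K) := by
          have e : MvPolynomial (Fin 0) K ≃ₐ[K] K := MvPolynomial.isEmptyAlgEquiv K (Fin 0)
          have : Module.Finite K (MvPolynomial (Fin 0) K) := Module.Finite.equiv e.symm.toLinearEquiv
          exact LinearMap.finrank_le_finrank_of_surjective (f := (MvPolynomial.aeval (R := K) x).toLinearMap) hsurj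
        have e : MvPolynomial (Fin 0) K ≃ₐ[K] K := MvPolynomial.isEmptyAlgEquiv K (Fin 0)
        rw [e.toLinearEquiv.finrank_eq, Module.finrank_self] at h2
        omega
      · exact h0
    let j : Fin n := ⟨0, hn⟩
    have hd1 : d j 1 = 0 := by
      have := hd j 1 1
      rw [mul_one, Bialgebra.counit_one, one_mul, mul_one] at this
      exact (left_eq_add.1 this)
    let f : C →ₐ[K] DualNumber K :=
      { toFun := fun c => TrivSqZeroExt.inl (counit (R := K) c) + TrivSqZeroExt.inr (d j c)
        map_one' := by
          rw [Bialgebra.counit_one, hd1]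
          simp
        map_mul' := fun a b => by
          apply TrivSqZeroExt.ext
          · simp
          · simp [hd, mul_comm]
        map_zero' := by simp
        map_add' := fun a b => by
          apply TrivSqZeroExt.ext <;> simp
        commutes' := fun r => by
          have h2 : d j (algebraMap K C r) = 0 := by
            rw [Algebra.algebraMap_eq_smul_one, map_smul, hd1, smul_zero]
          rw [h2, Bialgebra.counit_algebraMap, TrivSqZeroExt.inr_zero, add_zero]
          rfl }
    let g : C →ₐ[K] DualNumber K := (TrivSqZeroExt.inlAlgHom K K K).comp (Bialgebra.counitAlgHom K C)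
    refine ⟨f, g, fun h => ?_⟩
    have h2 := congrArg (fun q : C →ₐ[K] DualNumber K => (q (x j)).snd) h
    have h3 : (f (x j)).snd = 1 := by
      show (TrivSqZeroExt.inl (counit (R := K) (x j)) + TrivSqZeroExt.inr (d j (x j)) : DualNumber K).snd = 1
      simp [hdx]
    have h4 : (g (x j)).snd = 0 := by
      show (TrivSqZeroExt.inl (counit (R := K) (x j)) : DualNumber K).snd = 0
      simp
    have h5 : (1 : K) = 0 := h3.symm.trans (h2.trans h4)
    exact one_ne_zero h5

/-- If all geometric points are trivial, the augmentation ideal is nilpotent. -/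
theorem isNilpotent_aug {K C : Type*} [Field K] [CommRing C] [HopfAlgebra K C] [Module.Finite K C]
    (L : Type*) [Field L] [Algebra K L] [IsAlgClosed L] (h : ∀ f g : C →ₐ[K] L, f = g) :
    IsNilpotent (augIdeal K C) := by
  have hart : IsArtinianRing C := IsArtinianRing.of_finite K C
  have hmax : ∀ P : Ideal C, P.IsPrime → P = augIdeal K C := by
    intro P hP
    have hPm : P.IsMaximal := inferInstance
    let _ : Field (C ⧸ P) := Ideal.Quotient.field P
    have hfin : Module.Finite K (C ⧸ P) := inferInstance
    have halg : Algebra.IsAlgebraic K (C ⧸ P) := inferInstance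
    let e : (C ⧸ P) →ₐ[K] L := IsAlgClosed.lift
    have h1 := h (e.comp (Ideal.Quotient.mkₐ K P)) ((Algebra.ofId K L).comp (Bialgebra.counitAlgHom K C))
    ext c
    rw [mem_augIdeal, ← Ideal.Quotient.eq_zero_iff_mem]
    have h2 := DFunLike.congr_fun h1 c
    have h3 : e (Ideal.Quotient.mk P c) = algebraMap K L (counit (R := K) c) := h2
    constructor
    · intro h4
      rw [h4, map_zero] at h3
      exact (map_eq_zero_iff (algebraMap K L) (algebraMap K L).injective).1 h3.symm
    · intro h4
      rw [h4, map_zero] at h3
      exact (map_eq_zero_iff e e.toRingHom.injective).1 h3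
  have hle : augIdeal K C ≤ nilradical C := by
    intro c hc
    rw [nilradical_eq_sInf, Ideal.mem_sInf]
    intro P hP
    rw [hmax P hP]
    exact hc
  obtain ⟨N, hN⟩ := IsArtinianRing.isNilpotent_nilradical (R := C)
  refine ⟨N, ?_⟩
  rw [Ideal.zero_eq_bot, eq_bot_iff, ← Ideal.zero_eq_bot, ← hN]
  exact Ideal.pow_right_mono hle N

end

end K525.TanC
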