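import Groth.Agent.AbVar.K525.OrdC
import Groth.Agent.AbVar.K525.TanC
import Groth.Agent.S4114
import Groth.Agent.Sga3B.AffHopf
import Mathlib.FieldTheory.IsAlgClosed.AlgebraicClosure

/-!
# The order function is an `IsOrd` over the field with `p` elements
-/

set_option autoImplicit false

universe u

open CategoryTheory MonoidalCategory CartesianMonoidalCategory MonObj GrpObj AlgebraicGeometry Limits

namespace K525.ModC

open K525.AlgC K525.OrdC K525.TanC Groth.Agent.Sga3B.AffTest Groth.Agent.Sga3B.AffHopf Groth.Agent.Sga3C.HopfPow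
open K525.AbsOrd

variable {k : Type u} [Field k]

theorem nsmul_ord (G : Alg k) : ord G • 𝟙 G = 0 := by
  by_cases hG : IsFinite G.obj.X.hom
  · apply und_inj
    rw [und_nsmul, und_id, und_zero]
    have hfl := flat_to_field G.obj.X.hom
    have hft := G.property.1
    have : IsLocallyNoetherian (Spec (CommRingCat.of k)) := Groth.Agent.Sga3.H830.AlgGrpAb.isLocallyNoetherian_spec
    have hfp : LocallyOfFinitePresentation G.obj.X.hom := LocallyOfFinitePresentation.iff_locallyOfFiniteType.2 hft
    have hred : IsReduced (Spec (CommRingCat.of k)) := by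
      have : _root_.IsReduced (CommRingCat.of k) := inferInstanceAs (_root_.IsReduced k)
      infer_instance
    refine Groth.Agent.S4114.result (Spec (CommRingCat.of k)) G.obj.X (ord G) ⟨⟨hG, hfl, hfp⟩, fun y => ?_⟩
    rw [Subsingleton.elim y (pt k), ord_of_finite G hG]
  · have : ord G = 0 := if_neg hG
    rw [this, zero_smul]

theorem finite_of_iso (G : Alg k) (hG : IsFinite G.obj.X.hom) {C : Type u} [CommRing C] [Algebra k C]
    (i : sp k C ≅ G.obj.X) : Module.Finite k C := by
  have h1 : IsFinite (sp k C).hom := by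
    have h2 : IsIso i.hom.left := inferInstanceAs (IsIso ((Over.forget _).map i.hom))
    rw [← Over.w i.hom]
    infer_instance
  have h3 : IsFinite (Spec.map (CommRingCat.ofHom (algebraMap k C))) := h1
  rw [IsFinite.SpecMap_iff] at h3
  exact RingHom.finite_algebraMap.1 h3

theorem ord_eq_finrank (G : Alg k) (hG : IsFinite G.obj.X.hom) {C : Type u} [CommRing C] [Algebra k C]
    (i : sp k C ≅ G.obj.X) : ord G = Module.finrank k C := by
  have hfin := finite_of_iso G hG i
  have hfl := flat_to_field G.obj.X.hom
  have h2 : IsIso i.hom.left := inferInstanceAs (IsIso ((Over.forget _).map i.hom))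
  rw [ord_of_finite G hG, ← Scheme.Hom.finrank_comp_left_of_isIso i.hom.left G.obj.X.hom, Over.w]
  show Scheme.Hom.finrank (Spec.map (CommRingCat.ofHom (algebraMap k C))) (pt k) = _
  have h3 : (CommRingCat.ofHom (algebraMap k C)).hom.Finite := RingHom.finite_algebraMap.2 hfin
  rw [finrank_spec _ _ h3]
  congr 1
  ext r x
  show (algebraMap k C r) * x = r • x
  rw [Algebra.smul_def]

/-- The points as algebra maps. -/
noncomputable def ptsEquiv {X : Over (Spec (CommRingCat.of k))} {C : Type u} [CommRing C] [Algebra k C]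
    (i : sp k C ≅ X) (L : Type u) [CommRing L] [Algebra k L] : (C →ₐ[k] L) ≃ (sp k L ⟶ X) :=
  Equiv.ofBijective (fun f => spMap f ≫ i.hom) ⟨fun f g h => spMap_injective ((cancel_mono i.hom).1 h), fun x => by
    obtain ⟨f, hf⟩ := spMap_surjective (x ≫ i.inv)
    refine ⟨f, ?_⟩
    show spMap f ≫ i.hom = x
    rw [hf, Category.assoc, i.inv_hom_id, Category.comp_id]⟩

/-- The endomorphism ring in the category of algebraic groups. -/
@[reducible] noncomputable def ptsMod (G : Alg k) (T : Over (Spec (CommRingCat.of k))) : Module (End G) (Additive (T ⟶ G.obj.X)) where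
  smul f x := Additive.ofMul (x.toMul ≫ und f)
  one_smul x := congrArg Additive.ofMul (Category.comp_id x.toMul)
  mul_smul f g x := congrArg Additive.ofMul (Category.assoc x.toMul (und g) (und f)).symm
  smul_zero f := congrArg Additive.ofMul (MonObj.one_comp (und f))
  smul_add f x y := congrArg Additive.ofMul (MonObj.mul_comp x.toMul y.toMul (und f))
  add_smul f g x := congrArg Additive.ofMul (MonObj.comp_mul x.toMul (und f) (und g))
  zero_smul x := congrArg Additive.ofMul (MonObj.comp_one x.toMul)

theorem exists_mod (p : ℕ) [Fact p.Prime] [Finite k] (hk : Nat.card k = p) (G : Alg k) (hG : ord G ≠ 0)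
    (h0 : ¬ IsZero G) : ∃ (V : Type u) (_ : AddCommGroup V) (_ : Module (End G) V),
    Nontrivial V ∧ Finite V ∧ Nat.card V ≤ ord G := by
  have hf : IsFinite G.obj.X.hom := (ord_ne_zero_iff G).1 hG
  have haff : IsAffine G.obj.X.left := isAffine_of_isAffineHom G.obj.X.hom
  obtain ⟨C, _, _, i, hi⟩ := exists_hopf G.obj.X
  have hfin := finite_of_iso G hf i
  have hord := ord_eq_finrank G hf i
  let L := AlgebraicClosure k
  by_cases hall : ∀ f g : C →ₐ[k] L, f = g
  · -- infinitesimal case
    have hnil := isNilpotent_aug L hall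
    obtain ⟨h1, h2, h3⟩ := card_dual_le (K := k) (C := C) p hk hnil
    have h4 : 1 < Module.finrank k C := by
      rw [← hord]
      have : ord G ≠ 1 := fun h => h0 (isZero_of_ord G h)
      omega
    have h5 := h3 h4
    let e := ptsEquiv i (DualNumber k)
    refine ⟨Additive (sp k (DualNumber k) ⟶ G.obj.X), inferInstance, ptsMod G _, ?_, ?_, ?_⟩
    · exact (e.trans Additive.ofMul).symm.nontrivial
    · exact Finite.of_equiv _ (e.trans Additive.ofMul)
    · rw [hord, ← Nat.card_congr (e.trans Additive.ofMul)]
      exact h2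
  · let e := ptsEquiv i L
    refine ⟨Additive (sp k L ⟶ G.obj.X), inferInstance, ptsMod G _, ?_, ?_, ?_⟩
    · push Not at hall
      obtain ⟨f, g, hfg⟩ := hall
      have : Nontrivial (C →ₐ[k] L) := ⟨f, g, hfg⟩
      exact (e.trans Additive.ofMul).symm.nontrivial
    · exact Finite.of_equiv _ (e.trans Additive.ofMul)
    · rw [hord, ← Nat.card_congr (e.trans Additive.ofMul)]
      exact card_algHom_le_finrank k C L

/-- **The order function** over the field with `p` elements. -/
theorem isOrd (p : ℕ) [Fact p.Prime] [Finite k] (hk : Nat.card k = p) : IsOrd (ord (k := k)) where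
  mul := ord_mul
  isZero := isZero_of_ord
  zero := ord_of_isZero
  nsmul := nsmul_ord
  mod := exists_mod p hk

end K525.ModC
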