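import Groth.Agent.AbVar.K525.AlgC
import Groth.Agent.AbVar.K525.AbsOrd
import Mathlib.AlgebraicGeometry.Morphisms.FlatRank
import Mathlib.AlgebraicGeometry.Morphisms.QuasiFinite
import Mathlib.RingTheory.LocalRing.Module

/-!
# The order of a finite commutative group scheme: multiplicativity
-/

set_option autoImplicit false

universe u

open CategoryTheory MonoidalCategory CartesianMonoidalCategory MonObj GrpObj AlgebraicGeometry Limits

namespace K525.OrdC

open K525.AlgC TensorProduct

/-! ### Commutative algebra -/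

section CA

variable (k : Type u) [Field k] (B C : Type u) [CommRing B] [CommRing C] [Algebra k B] [Algebra B C] [Algebra k C]
  [IsScalarTower k B C]

theorem finrank_eq_of_rankAtStalk [Module.Finite k B] [Module.Finite B C] [Module.Flat B C] (r : ℕ)
    (hr : ∀ p : PrimeSpectrum B, Module.rankAtStalk C p = r) : Module.finrank k C = r * Module.finrank k B := by
  have hart : IsArtinianRing B := IsArtinianRing.of_finite k B
  have hfree : Module.Free B C := by
    apply Module.free_of_flat_of_finrank_eq B C r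
    intro P
    have hP := P.isMaximal
    rw [← hr ⟨P.1, inferInstance⟩, Module.rankAtStalk_eq]
    let _ : Field (B ⧸ P.1) := Ideal.Quotient.field P.1
    rw [← Module.finrank_baseChange (S := B ⧸ P.1) (R := P.1.ResidueField) (M' := (B ⧸ P.1) ⊗[B] C)]
    exact (AlgebraTensorModule.cancelBaseChange B (B ⧸ P.1) P.1.ResidueField P.1.ResidueField C).finrank_eq
  rcases subsingleton_or_nontrivial B with hB | hB
  · have hC : Subsingleton C := (algebraMap B C).codomain_trivial
    rw [Module.finrank_zero_of_subsingleton, Module.finrank_zero_of_subsingleton, mul_zero]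
  · have h1 : Module.finrank B C = r := by
      have p : PrimeSpectrum B := Classical.arbitrary _
      rw [← hr p, Module.rankAtStalk_eq_finrank_of_free]
      rfl
    rw [← Module.finrank_mul_finrank k B C, h1, mul_comm]

end CA

variable {k : Type u} [Field k]

instance : Subsingleton (Spec (CommRingCat.of k)) := inferInstanceAs (Subsingleton (PrimeSpectrum k))

theorem flat_to_field {X : Scheme.{u}} (f : X ⟶ Spec (CommRingCat.of k)) : Flat f :=
  Groth.Agent.Sga3.H830.AlgGrpAb.flat_of_field f

/-- The point of the spectrum of a field. -/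
noncomputable def pt (k : Type u) [Field k] : Spec (CommRingCat.of k) := (⊥ : PrimeSpectrum k)

theorem finrank_spec (R : CommRingCat.{u}) (φ : CommRingCat.of k ⟶ R) (hφ : φ.hom.Finite) :
    Scheme.Hom.finrank (Spec.map φ) (pt k) = @Module.finrank k R _ _ φ.hom.toAlgebra.toModule := by
  letI : Algebra k R := φ.hom.toAlgebra
  have h1 : Module.Finite k R := hφ
  have h2 : Module.Free k R := inferInstance
  have h3 : (Spec.map φ) = Spec.map (CommRingCat.ofHom (algebraMap k R)) := rfl
  rw [h3, Scheme.Hom.finrank_SpecMap_algebraMap, Module.rankAtStalk_eq_finrank_of_free]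
  rfl

/-- Multiplicativity of the rank for a finite flat morphism of constant rank over a finite `k`-scheme. -/
theorem finrank_comp {X Y : Scheme.{u}} (q : X ⟶ Y) (f : Y ⟶ Spec (CommRingCat.of k)) [IsFinite f] [IsFinite q]
    [Flat q] (r : ℕ) (hr : ∀ y, Scheme.Hom.finrank q y = r) :
    Scheme.Hom.finrank (q ≫ f) (pt k) = r * Scheme.Hom.finrank f (pt k) := by
  have hf := flat_to_field f
  have hqf := flat_to_field (q ≫ f)
  have hYa : IsAffine Y := isAffine_of_isAffineHom f
  have hXa : IsAffine X := isAffine_of_isAffineHom q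
  -- reduce to spectra
  let B := Γ(Y, ⊤)
  let C := Γ(X, ⊤)
  let eY : Spec B ⟶ Y := Y.isoSpec.inv
  let eX : Spec C ⟶ X := X.isoSpec.inv
  obtain ⟨φ, hφ⟩ := Spec.map_surjective (eX ≫ q ≫ inv eY)
  obtain ⟨ψ, hψ⟩ := Spec.map_surjective (eY ≫ f)
  have hφ' : Spec.map φ ≫ eY = eX ≫ q := by rw [hφ]; simp
  have hfinψ : IsFinite (Spec.map ψ) := by rw [hψ]; infer_instance
  have hfinφ : IsFinite (Spec.map φ) := by rw [hφ]; infer_instance
  have hflatφ : Flat (Spec.map φ) := by rw [hφ]; infer_instance
  have h1 : Scheme.Hom.finrank f = Scheme.Hom.finrank (Spec.map ψ) := by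
    rw [hψ, Scheme.Hom.finrank_comp_left_of_isIso]
  have h2 : Scheme.Hom.finrank (q ≫ f) = Scheme.Hom.finrank (Spec.map (ψ ≫ φ)) := by
    rw [Spec.map_comp, hψ, ← Category.assoc, hφ', Category.assoc]
    exact (Scheme.Hom.finrank_comp_left_of_isIso eX (q ≫ f)).symm
  have h3 : ∀ y, Scheme.Hom.finrank (Spec.map φ) y = r := by
    intro y
    have hpb : IsPullback eX (Spec.map φ) q eY := IsPullback.of_horiz_isIso ⟨hφ'.symm⟩
    rw [Scheme.Hom.finrank_of_isPullback _ _ _ _ hpb, hr]
  rw [IsFinite.SpecMap_iff] at hfinψ hfinφ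
  rw [Flat.SpecMap_iff] at hflatφ
  have hfincomp : (ψ ≫ φ).hom.Finite := hfinφ.comp hfinψ
  rw [h1, h2, finrank_spec _ _ hfincomp, finrank_spec _ _ hfinψ]
  let _ : Algebra k B := ψ.hom.toAlgebra
  let _ : Algebra B C := φ.hom.toAlgebra
  let _ : Algebra k C := (ψ ≫ φ).hom.toAlgebra
  have : IsScalarTower k B C := IsScalarTower.of_algebraMap_eq fun x => rfl
  have : Module.Finite k B := hfinψ
  have : Module.Finite B C := hfinφ
  have : Module.Flat B C := hflatφ
  refine finrank_eq_of_rankAtStalk k B C r fun p => ?_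
  rw [← h3 p, ← Scheme.Hom.finrank_SpecMap_algebraMap]
  rfl

/-! ### Finite objects -/

theorem isFinite_iff (G : Alg k) : IsFinite G.obj.X.hom ↔ Finite G.obj.X.left := by
  have h1 := G.property.1
  have h2 := G.property.2
  constructor
  · intro h
    have := Scheme.Hom.finite_preimage_singleton G.obj.X.hom (pt k)
    have hu : (G.obj.X.hom ⁻¹' {pt k}) = Set.univ := by
      ext x
      simp only [Set.mem_preimage, Set.mem_singleton_iff, Set.mem_univ, iff_true]
      exact Subsingleton.elim _ _
    rw [hu] at this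
    exact Set.finite_univ_iff.1 this
  · intro h
    have hq : LocallyQuasiFinite G.obj.X.hom := LocallyQuasiFinite.of_finite_preimage_singleton _ fun x => Set.toFinite _
    have : IsArtinianRing (CommRingCat.of k) := inferInstanceAs (IsArtinianRing k)
    exact IsFinite.of_locallyQuasiFinite _

/-- The order of a commutative algebraic group (zero if it is not finite). -/
noncomputable def ord (G : Alg k) : ℕ :=
  open Classical in if IsFinite G.obj.X.hom then Scheme.Hom.finrank G.obj.X.hom (pt k) else 0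

theorem ord_of_finite (G : Alg k) (h : IsFinite G.obj.X.hom) : ord G = Scheme.Hom.finrank G.obj.X.hom (pt k) :=
  if_pos h

theorem ord_pos (G : Alg k) (h : IsFinite G.obj.X.hom) : 0 < ord G := by
  rw [ord_of_finite G h]
  have := flat_to_field G.obj.X.hom
  have h1 := Scheme.Hom.one_le_finrank_map G.obj.X.hom ((η[G.obj.X] : 𝟙_ _ ⟶ G.obj.X).left (pt k))
  rw [Subsingleton.elim (G.obj.X.hom ((η[G.obj.X] : 𝟙_ _ ⟶ G.obj.X).left (pt k))) (pt k)] at h1
  exact h1

theorem ord_ne_zero_iff (G : Alg k) : ord G ≠ 0 ↔ IsFinite G.obj.X.hom := by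
  constructor
  · intro h
    by_contra hn
    exact h (if_neg hn)
  · intro h
    exact (ord_pos G h).ne'

theorem ord_ne_zero_iff_finite (G : Alg k) : ord G ≠ 0 ↔ Finite G.obj.X.left := by
  rw [ord_ne_zero_iff, isFinite_iff]

/-! ### The torsor `G × K ≅ G ×_H G` -/

section Cat

variable {D : Type*} [Category D] [CartesianMonoidalCategory D] {C Y Z : D} [GrpObj C] [GrpObj Y] [GrpObj Z]
  (i : C ⟶ Y) [IsMonHom i] (q : Y ⟶ Z) [IsMonHom q]

/-- The action of the subgroup. -/
def act : Y ⊗ C ⟶ Y := fst Y C * (snd Y C ≫ i)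

theorem isPullback_act (hi : Mono i) (hiq : i ≫ q = 1) (hk : ∀ {T : D} (x : T ⟶ Y), x ≫ q = 1 → ∃ t : T ⟶ C, t ≫ i = x) :
    IsPullback (fst Y C) (act i) q q := by
  have hk' : ∀ (t : PullbackCone q q), (t.fst⁻¹ * t.snd) ≫ q = 1 := by
    intro t
    rw [MonObj.mul_comp, GrpObj.inv_comp, t.condition, inv_mul_cancel]
  choose f hf using fun t : PullbackCone q q => hk (t.fst⁻¹ * t.snd) (hk' t)
  refine ⟨⟨?_⟩, ⟨PullbackCone.IsLimit.mk _ (fun t => lift t.fst (f t)) ?_ ?_ ?_⟩⟩
  · rw [act, MonObj.mul_comp, Category.assoc, hiq, MonObj.comp_one, _root_.mul_one]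
  · intro t
    rw [lift_fst]
  · intro t
    rw [act, comp_mul, lift_fst, lift_snd_assoc, hf, mul_inv_cancel_left]
  · intro t m hm1 hm2
    ext1
    · rw [lift_fst, hm1]
    · rw [lift_snd, ← cancel_mono i, hf, ← hm1, ← hm2, act, comp_mul]
      simp only [Category.assoc, inv_mul_cancel_left]

end Cat

theorem isPullback_left {G H K : Alg k} (i : K ⟶ G) (q : G ⟶ H) [Mono i] (hiq : i ≫ q = 0)
    (hk : ∀ {T : Over (Spec (CommRingCat.of k))} (x : T ⟶ G.obj.X), x ≫ und q = 1 → ∃ t : T ⟶ K.obj.X, t ≫ und i = x) :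
    IsPullback (fst G.obj.X K.obj.X).left (act (und i)).left (und q).left (und q).left :=
  (isPullback_act (und i) (und q) (mono_und i) ((comp_eq_zero_iff i q).1 hiq) hk).map (Over.forget _)

theorem isPullback_prod (G K : Over (Spec (CommRingCat.of k))) : IsPullback (fst G K).left (snd G K).left G.hom K.hom :=
  IsPullback.of_hasPullback G.hom K.hom

/-- The kernel of a morphism in terms of all points. -/
theorem kernel_pts {K G H : Alg k} (i : K ⟶ G) (q : G ⟶ H) [Mono i]
    (hl : ∀ (T : Alg k) (x : T ⟶ G), x ≫ q = 0 → ∃ t : T ⟶ K, t ≫ i = x)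
    {T : Over (Spec (CommRingCat.of k))} (x : T ⟶ G.obj.X) (hx : x ≫ und q = 1) : ∃ t : T ⟶ K.obj.X, t ≫ und i = x := by
  obtain ⟨K', i', -, -, hi'q, hl'⟩ := exists_ker q
  obtain ⟨t, ht⟩ := hl' T x hx
  obtain ⟨s, hs⟩ := hl K' i' hi'q
  exact ⟨t ≫ und s, by rw [Category.assoc, ← und_comp, hs, ht]⟩

section Ses

variable {G H K : Alg k} (i : K ⟶ G) (q : G ⟶ H) [Mono i] (hiq : i ≫ q = 0) (hq : W q)
    (hk : ∀ {T : Over (Spec (CommRingCat.of k))} (x : T ⟶ G.obj.X), x ≫ und q = 1 → ∃ t : T ⟶ K.obj.X, t ≫ und i = x)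

include hiq hk in
theorem finite_of_ext (hK : Finite K.obj.X.left) (hH : Finite H.obj.X.left) : Finite G.obj.X.left := by
  have hKf := (isFinite_iff K).2 hK
  have hpb := isPullback_left i q hiq hk
  have hpr := isPullback_prod G.obj.X K.obj.X
  have hff : IsFinite (fst G.obj.X K.obj.X).left := MorphismProperty.of_isPullback hpr.flip hKf
  -- the fibres of `q` are finite
  have hfib : ∀ y, ((und q).left ⁻¹' {y}).Finite := by
    intro y
    rcases Set.eq_empty_or_nonempty ((und q).left ⁻¹' {y}) with h0 | ⟨g, hg⟩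
    · rw [h0]; exact Set.finite_empty
    · have h1 := Scheme.Hom.finite_preimage_singleton (fst G.obj.X K.obj.X).left g
      refine (h1.image (act (und i)).left).subset ?_
      intro g' hg'
      have h2 : (und q).left g = (und q).left g' := by
        rw [Set.mem_preimage, Set.mem_singleton_iff] at hg hg'
        rw [hg, hg']
      obtain ⟨z, hz1, hz2⟩ := Scheme.Pullback.exists_preimage_pullback g g' h2
      refine ⟨hpb.isoPullback.inv z, ?_, ?_⟩
      · rw [Set.mem_preimage, Set.mem_singleton_iff, ← Scheme.Hom.comp_apply, IsPullback.isoPullback_inv_fst, hz1]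
      · rw [← Scheme.Hom.comp_apply, IsPullback.isoPullback_inv_snd, hz2]
  have : Set.univ = ⋃ y : H.obj.X.left, (und q).left ⁻¹' {y} := by
    ext x; simp
  rw [← Set.finite_univ_iff, this]
  exact Set.finite_iUnion hfib

include hiq hk hq in
theorem finrank_eq_ord (hK : IsFinite K.obj.X.hom) (hqf : IsFinite (und q).left) (y : H.obj.X.left) :
    Scheme.Hom.finrank (und q).left y = ord K := by
  obtain ⟨h1, h2, h3⟩ := hq
  obtain ⟨g, rfl⟩ := (und q).left.surjective y
  have hpb := isPullback_left i q hiq hk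
  have hpr := isPullback_prod G.obj.X K.obj.X
  have hfl := flat_to_field K.obj.X.hom
  rw [← Scheme.Hom.finrank_of_isPullback _ _ _ _ hpb.flip g, Scheme.Hom.finrank_of_isPullback _ _ _ _ hpr.flip g,
    ord_of_finite K hK, Subsingleton.elim (G.obj.X.hom g) (pt k)]

include hiq hk hq in
theorem ord_mul_of_W : ord G = ord K * ord H := by
  have hs : Function.Surjective (und q).left := by
    obtain ⟨h1, h2, h3⟩ := hq
    exact (und q).left.surjective
  have hinj : Function.Injective (und i).left := by
    have := isClosedImmersion_of_mono i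
    exact (und i).left.isClosedEmbedding.injective
  by_cases hG : IsFinite G.obj.X.hom
  · have hGf := (isFinite_iff G).1 hG
    have hKf : Finite K.obj.X.left := Finite.of_injective _ hinj
    have hHf : Finite H.obj.X.left := Finite.of_surjective _ hs
    have hK := (isFinite_iff K).2 hKf
    have hH := (isFinite_iff H).2 hHf
    have hqf : IsFinite (und q).left := by
      have : IsFinite ((und q).left ≫ H.obj.X.hom) := by rw [Over.w]; exact hG
      exact IsFinite.of_comp _ H.obj.X.hom
    have hrk := finrank_eq_ord i q hiq hq hk hK hqf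
    obtain ⟨h1, h2, h3⟩ := hq
    rw [ord_of_finite G hG, ord_of_finite H hH, ← finrank_comp (und q).left H.obj.X.hom (ord K) hrk, Over.w]
  · have : ord G = 0 := if_neg hG
    rw [this]
    by_contra hne
    have h1 : ord K ≠ 0 := fun h0 => hne (by rw [h0, zero_mul])
    have h2 : ord H ≠ 0 := fun h0 => hne (by rw [h0, mul_zero])
    rw [ord_ne_zero_iff_finite] at h1 h2
    exact hG ((isFinite_iff G).2 (finite_of_ext i q hiq hk h1 h2))

end Ses

theorem ord_mul (S : ShortComplex (Alg k)) (hS : S.ShortExact) : ord S.X₂ = ord S.X₁ * ord S.X₃ := by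
  have := hS.mono_f
  have := hS.epi_g
  refine ord_mul_of_W S.f S.g S.zero (W_of_epi S.g) ?_
  intro T x hx
  refine kernel_pts S.f S.g ?_ x hx
  intro T x hx
  exact ⟨hS.exact.lift x hx, hS.exact.lift_f x hx⟩

theorem ord_of_isZero (G : Alg k) (h : IsZero G) : ord G = 1 := by
  have h0 : 𝟙 G = 0 := h.eq_of_src _ _
  have h1 : 𝟙 G.obj.X = 1 := by
    have := congrArg und h0
    rwa [und_id, und_zero] at this
  have hiso : IsIso (toUnit G.obj.X) := ⟨η[G.obj.X], h1.symm, toUnit_unique _ _⟩
  have hiso' : IsIso G.obj.X.hom := by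
    have h2 : IsIso (toUnit G.obj.X).left := inferInstanceAs (IsIso ((Over.forget _).map (toUnit G.obj.X)))
    have h3 : (toUnit G.obj.X).left ≫ (𝟙_ (Over (Spec (CommRingCat.of k)))).hom = G.obj.X.hom := Over.w _
    have h4 : IsIso (𝟙_ (Over (Spec (CommRingCat.of k)))).hom := inferInstanceAs (IsIso (𝟙 _))
    rw [← h3]
    infer_instance
  rw [ord_of_finite G inferInstance, Scheme.Hom.finrank_eq_one_of_isIso]
  rfl

theorem isZero_of_ord (G : Alg k) (h : ord G = 1) : IsZero G := by
  have hf : IsFinite G.obj.X.hom := (ord_ne_zero_iff G).1 (by rw [h]; exact one_ne_zero)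
  have hfl := flat_to_field G.obj.X.hom
  rw [ord_of_finite G hf] at h
  have hiso : IsIso G.obj.X.hom := by
    rw [Scheme.Hom.isIso_iff_finrank_eq]
    funext y
    rw [Subsingleton.elim y (pt k), h]
    rfl
  have h2 : IsIso (toUnit G.obj.X) := by
    have h3 : IsIso ((toUnit G.obj.X).left ≫ (𝟙_ (Over (Spec (CommRingCat.of k)))).hom) := by rw [Over.w]; exact hiso
    have h4 : IsIso (𝟙_ (Over (Spec (CommRingCat.of k)))).hom := inferInstanceAs (IsIso (𝟙 _))
    have h5 : IsIso (toUnit G.obj.X).left := IsIso.of_isIso_comp_right _ (𝟙_ (Over (Spec (CommRingCat.of k)))).hom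
    have : IsIso ((Over.forget _).map (toUnit G.obj.X)) := h5
    exact isIso_of_reflects_iso (toUnit G.obj.X) (Over.forget _)
  rw [IsZero.iff_id_eq_zero]
  apply und_inj
  rw [und_id, und_zero, ← cancel_mono (toUnit G.obj.X)]
  exact toUnit_unique _ _

end K525.OrdC
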