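import Groth.Agent.AbVar.K525.OrdC
import Groth.Prelude.Def_SGA7a
import Mathlib.LinearAlgebra.FreeModule.Finite.Matrix

/-!
# Counting geometric points of finite group schemes
-/

set_option autoImplicit false

universe u

open CategoryTheory MonoidalCategory CartesianMonoidalCategory MonObj GrpObj AlgebraicGeometry Limits

namespace K525.PtCard

open K525.AlgC K525.OrdC

variable {k : Type u} [Field k]

/-- A finite group scheme has at most as many geometric points as its order. -/
theorem card_pts_le (G : Alg k) (hG : IsFinite G.obj.X.hom) (Ω : Type u) [Field Ω] [Algebra k Ω] :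
    Finite (SGA7.Pts Ω G.obj.X) ∧ Nat.card (SGA7.Pts Ω G.obj.X) ≤ ord G := by
  let X := G.obj.X.left
  have hXa : IsAffine X := isAffine_of_isAffineHom G.obj.X.hom
  let C := Γ(X, ⊤)
  let eX : Spec C ⟶ X := X.isoSpec.inv
  obtain ⟨φ, hφ⟩ := Spec.map_surjective (eX ≫ G.obj.X.hom)
  have hfin : IsFinite (Spec.map φ) := by rw [hφ]; infer_instance
  have h1 : Scheme.Hom.finrank G.obj.X.hom = Scheme.Hom.finrank (Spec.map φ) := by
    have := flat_to_field G.obj.X.hom
    rw [hφ, Scheme.Hom.finrank_comp_left_of_isIso]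
  rw [IsFinite.SpecMap_iff] at hfin
  let _ : Algebra k C := φ.hom.toAlgebra
  have : Module.Finite k C := hfin
  have hrk : ord G = Module.finrank k C := by
    rw [ord_of_finite G hG, h1, finrank_spec _ _ hfin]
  -- the map to algebra homomorphisms
  have hex : ∀ x : SGA7.Pts Ω G.obj.X, ∃ ψ : C →ₐ[k] Ω, Spec.map (CommRingCat.ofHom (ψ : C →+* Ω)) = x.left ≫ X.isoSpec.hom := by
    intro x
    obtain ⟨ψ, hψ⟩ := Spec.map_surjective (x.left ≫ X.isoSpec.hom)
    have h2 : φ ≫ ψ = CommRingCat.ofHom (algebraMap k Ω) := by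
      apply Spec.map_injective
      rw [Spec.map_comp, hψ, hφ, Category.assoc]
      have : x.left ≫ X.isoSpec.hom ≫ X.isoSpec.inv ≫ G.obj.X.hom = Spec.map (CommRingCat.ofHom (algebraMap k Ω)) := by
        rw [Iso.hom_inv_id_assoc]
        exact Over.w x
      exact this
    refine ⟨{ ψ.hom with commutes' := fun r => ?_ }, hψ⟩
    exact congrArg (fun z => z.hom r) h2
  choose Ψ hΨ using hex
  have hinj : Function.Injective Ψ := by
    intro x y hxy
    have h2 : x.left ≫ X.isoSpec.hom = y.left ≫ X.isoSpec.hom := by rw [← hΨ, ← hΨ, hxy]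
    exact Over.OverMorphism.ext ((cancel_mono _).1 h2)
  have hf : Finite (C →ₐ[k] Ω) := inferInstance
  refine ⟨Finite.of_injective Ψ hinj, ?_⟩
  rw [hrk]
  exact (Nat.card_le_card_of_injective Ψ hinj).trans (card_algHom_le_finrank k C Ω)

end K525.PtCard
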