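import Groth.Agent.AbVar.K525.Res3

/-!
# Points with values in arbitrary schemes
-/

set_option autoImplicit false

universe w u

open CategoryTheory MonoidalCategory CartesianMonoidalCategory MonObj GrpObj AlgebraicGeometry Limits

namespace K525.Pts

open K525.AlgC K525.OrdC K525.AbsOrd K525.AbsD K525.AVC K525.AbsFF

attribute [local instance] Abelian.hasFiniteBiproducts

variable {k : Type u} [Field k] {T : Over (Spec (CommRingCat.of k))}

/-- Evaluation at a point. -/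
noncomputable def evp {Y : Alg k} (x : T ⟶ Y.obj.X) (Z : Alg k) : (Y ⟶ Z) →+ Additive (T ⟶ Z.obj.X) where
  toFun f := Additive.ofMul (x ≫ und f)
  map_zero' := congrArg Additive.ofMul (MonObj.comp_one x)
  map_add' f g := congrArg Additive.ofMul (MonObj.comp_mul x (und f) (und g))

theorem evp_apply {Y Z : Alg k} (x : T ⟶ Y.obj.X) (f : Y ⟶ Z) : evp x Z f = Additive.ofMul (x ≫ und f) := rfl

/-- The map on points. -/
noncomputable def mp {Y Z : Alg k} (f : Y ⟶ Z) : Additive (T ⟶ Y.obj.X) →+ Additive (T ⟶ Z.obj.X) where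
  toFun x := Additive.ofMul (x.toMul ≫ und f)
  map_zero' := congrArg Additive.ofMul (MonObj.one_comp (und f))
  map_add' _ _ := congrArg Additive.ofMul (MonObj.mul_comp _ _ (und f))

theorem mp_apply {Y Z : Alg k} (f : Y ⟶ Z) (x : T ⟶ Y.obj.X) : mp f (Additive.ofMul x) = Additive.ofMul (x ≫ und f) := rfl

theorem mp_comp {Y Z W : Alg k} (f : Y ⟶ Z) (g : Z ⟶ W) (x : Additive (T ⟶ Y.obj.X)) : mp (f ≫ g) x = mp g (mp f x) :=
  congrArg Additive.ofMul (Category.assoc _ _ _).symm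

theorem mp_id {Y : Alg k} (x : Additive (T ⟶ Y.obj.X)) : mp (𝟙 Y) x = x := congrArg Additive.ofMul (Category.comp_id _)

theorem mp_eq_evp {Y Z : Alg k} (f : Y ⟶ Z) (x : Additive (T ⟶ Y.obj.X)) : mp f x = evp x.toMul Z f := rfl

theorem mp_sum {Y Z : Alg k} {I : Type*} (s : Finset I) (f : I → (Y ⟶ Z)) (x : Additive (T ⟶ Y.obj.X)) :
    mp (∑ i ∈ s, f i) x = ∑ i ∈ s, mp (f i) x := by
  rw [mp_eq_evp, map_sum]
  rfl

theorem mp_zero {Y Z : Alg k} (x : Additive (T ⟶ Y.obj.X)) : mp (0 : Y ⟶ Z) x = 0 := by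
  rw [mp_eq_evp, map_zero]

theorem mp_zsmul {Y Z : Alg k} (n : ℤ) (f : Y ⟶ Z) (x : Additive (T ⟶ Y.obj.X)) : mp (n • f) x = n • mp f x := by
  rw [mp_eq_evp, map_zsmul]; rfl

theorem mp_add {Y Z : Alg k} (f g : Y ⟶ Z) (x : Additive (T ⟶ Y.obj.X)) : mp (f + g) x = mp f x + mp g x := by
  rw [mp_eq_evp, map_add]; rfl

/-- Points of powers. -/
theorem pow_ext {A X : Alg k} {n : ℕ} {pr : Fin n → (X ⟶ A)} (hp : IsPow A n X pr) (x y : T ⟶ X.obj.X)
    (hxy : ∀ i, x ≫ und (pr i) = y ≫ und (pr i)) : x = y := by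
  classical
  choose s hs using fun i : Fin n => hp.lift (fun j => if i = j then 𝟙 A else 0)
  have h1 : 𝟙 X = ∑ i, pr i ≫ s i := by
    apply hp.ext
    intro j
    rw [Category.id_comp, Preadditive.sum_comp, Finset.sum_eq_single j]
    · rw [Category.assoc, hs, if_pos rfl, Category.comp_id]
    · intro i _ hij
      rw [Category.assoc, hs, if_neg hij, comp_zero]
    · intro hj
      exact absurd (Finset.mem_univ _) hj
  have h2 : ∀ z : T ⟶ X.obj.X, Additive.ofMul z = ∑ i, mp (s i) (Additive.ofMul (z ≫ und (pr i))) := by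
    intro z
    rw [← mp_id (Additive.ofMul z), h1, mp_sum]
    refine Finset.sum_congr rfl fun i _ => ?_
    rw [mp_comp]
    rfl
  apply Additive.ofMul.injective
  rw [h2, h2]
  refine Finset.sum_congr rfl fun i _ => ?_
  rw [hxy]

variable [Finite k] {A : Alg k} {Y : Alg k} (h : IsOrd (ord (k := k))) (hA : Nice (ord (k := k)) A A) (hAfin : Module.Finite ℤ (A ⟶ A))
  (hY : Nice (ord (k := k)) A Y) (hYfin : Module.Finite ℤ (Y ⟶ A))
include h hA hY hYfin

/-- Points are separated by homomorphisms to `A`. -/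
theorem pts_ext (x y : T ⟶ Y.obj.X) (hxy : ∀ φ : Y ⟶ A, x ≫ und φ = y ≫ und φ) : x = y := by
  obtain ⟨n, X, pr, u, hp, hX, -, hu, hgen⟩ := exists_embedding h K525.G0C.g0 hA hY hYfin (fun _ => True)
    (fun _ _ => trivial) trivial (fun _ _ _ _ => trivial)
  have := mono_und u
  rw [← cancel_mono (und u)]
  apply pow_ext hp
  intro i
  rw [Category.assoc, Category.assoc, ← und_comp, hxy]

include hAfin in
/-- Equivariant families come from points. -/
theorem pts_exists (g : (Y ⟶ A) →+ Additive (T ⟶ A.obj.X)) (hg : ∀ (φ : Y ⟶ A) (s : A ⟶ A), g (φ ≫ s) = mp s (g φ)) :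
    ∃ t : T ⟶ Y.obj.X, ∀ φ : Y ⟶ A, g φ = Additive.ofMul (t ≫ und φ) := by
  classical
  obtain ⟨n, X, pr, u, hp, hX, -, hu, hgen⟩ := exists_embedding h K525.G0C.g0 hA hY hYfin (fun _ => True)
    (fun _ _ => trivial) trivial (fun _ _ _ _ => trivial)
  have hsurj : ∀ g : Y ⟶ A, ∃ k : X ⟶ A, u ≫ k = g := by
    intro g
    obtain ⟨c, hc⟩ := hgen g
    refine ⟨∑ i, c i • pr i, ?_⟩
    rw [← hc, Preadditive.comp_sum]
    simp only [Preadditive.comp_zsmul]
  obtain ⟨n', κ, hk0, -, e, he⟩ := factors_of_annihilates h K525.G0C.g0 hX hY u (hp.finite hAfin) hsurj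
  choose s hs using fun i : Fin n => hp.lift (fun j => if i = j then 𝟙 A else 0)
  let x : Additive (T ⟶ X.obj.X) := ∑ i, mp (s i) (g (u ≫ pr i))
  have hx : ∀ j, mp (pr j) x = g (u ≫ pr j) := by
    intro j
    show mp (pr j) (∑ i, mp (s i) (g (u ≫ pr i))) = _
    rw [map_sum, Finset.sum_eq_single j]
    · rw [← mp_comp, hs, if_pos rfl, mp_id]
    · intro i _ hij
      rw [← mp_comp, hs, if_neg hij, mp_zero]
    · intro hj
      exact absurd (Finset.mem_univ _) hj
  have hx' : ∀ l : X ⟶ A, mp l x = g (u ≫ l) := by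
    intro l
    obtain ⟨r, hr⟩ := hp.span l
    rw [hr, mp_sum, Preadditive.comp_sum, map_sum]
    refine Finset.sum_congr rfl fun i _ => ?_
    rw [mp_comp, hx, ← hg, Category.assoc]
  have hx1 : x.toMul ≫ und (biproduct.lift κ) = 1 := by
    have h1 : mp (biproduct.lift κ) x = 0 := by
      rw [biproduct.lift_eq, mp_sum]
      refine Finset.sum_eq_zero fun i _ => ?_
      rw [mp_comp, hx', hk0, map_zero, map_zero]
    exact h1
  obtain ⟨t, ht⟩ := kernel_pts u (biproduct.lift κ) (fun T y hy => by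
    refine ⟨kernel.lift _ y hy ≫ e.inv, ?_⟩
    rw [Category.assoc, ← he, e.inv_hom_id_assoc, kernel.lift_ι]) x.toMul hx1
  refine ⟨t, fun φ => ?_⟩
  obtain ⟨l, hl⟩ := hsurj φ
  rw [← hl, ← hx', und_comp, ← Category.assoc, ht]
  rfl

end K525.Pts
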