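import Groth.Agent.AbVar.K525.RankB
import Groth.Agent.S14935

/-!
# The rank hypothesis
-/

set_option autoImplicit false

universe u

open CategoryTheory MonoidalCategory CartesianMonoidalCategory MonObj GrpObj AlgebraicGeometry Limits MvPolynomial

namespace K525.Rank

open K525.Hyp K525.RankB K522.HomRank K525.Rw

theorem tateHyp (k : Type u) [Field k] [Finite k] : TateHyp k := fun l _ hl X Y _ _ _ _ _ _ _ _ u hu =>
  Groth.Agent.S14935.result k (AlgebraicClosure k) l hl X Y (rho l X) isGal_rho (rho l Y) isGal_rho u hu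

variable {p : ℕ} [Fact p.Prime] {k : Type u} [Field k] [Finite k]
    {J : Type} [Fintype J] {K : J → Type} [∀ j, Field (K j)] [∀ j, CharZero (K j)] {ϖ : ∀ j, K j}
    {Aw : Over (Spec (CommRingCat.of k))} [GrpObj Aw] [IsCommMonObj Aw] [IsProper Aw.hom] [GeometricallyIntegral Aw.hom]
    {ρw : (ev p J K ϖ).range ≃+* EndAV.End Aw} (H : HypW p k J K ϖ Aw ρw)
include H

/-- **The rank of `Hom(Y, A_w)` is at least twice the dimension of `Y`.** -/
theorem rankW : RankW ϖ (K525.AVC.mk Aw) := rankW' (tateHyp k) H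

end K525.Rank
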