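import Groth.Agent.AbVar.K525.Res4
import Groth.Agent.WeilNum.K944.Bezout

/-!
# Subfamilies of Weil numbers, conditional on the rank hypothesis
-/

set_option autoImplicit false
set_option linter.unusedSectionVars false

universe w u

open CategoryTheory MonoidalCategory CartesianMonoidalCategory MonObj GrpObj AlgebraicGeometry Limits MvPolynomial

namespace K525.Res6

open K525.AlgC K525.OrdC K525.AbsOrd K525.AbsD K525.AbsS K525.AVC K525.Unimod K525.Count K525.Setup K525.Rw K525.Conv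
  K520.Frob K520.FrP K525.Hyp K525.Res1 K525.Res2 K525.AbsMore

attribute [local instance] Abelian.hasFiniteBiproducts

variable {p : ℕ} [Fact p.Prime] {k : Type u} [Field k] [Finite k]
    {J : Type} [Fintype J] {K : J → Type} [∀ j, Field (K j)] [∀ j, CharZero (K j)] {ϖ : ∀ j, K j}

section Alg

variable (p J K ϖ) (J' : Type) [Fintype J'] (emb : J' → J)

/-- The projection. -/
noncomputable def proj : ((j : J) → K j) →ₐ[ℤ] ((j' : J') → K (emb j')) where
  toFun x := fun j' => x (emb j')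
  map_one' := rfl
  map_mul' _ _ := rfl
  map_zero' := rfl
  map_add' _ _ := rfl
  commutes' _ := rfl

theorem proj_ev : (proj J K J' emb).comp (ev p J K ϖ) = ev p J' (fun j' => K (emb j')) (fun j' => ϖ (emb j')) := by
  apply MvPolynomial.algHom_ext
  intro i
  rw [AlgHom.comp_apply, MvPolynomial.aeval_X, MvPolynomial.aeval_X]
  fin_cases i <;> rfl

/-- The projection of orders. -/
noncomputable def θ : (ev p J K ϖ).range →+* (ev p J' (fun j' => K (emb j')) (fun j' => ϖ (emb j'))).range :=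
  (((proj J K J' emb).comp (ev p J K ϖ).range.val).codRestrict _ (by
    rintro ⟨_, g, rfl⟩
    exact ⟨g, (DFunLike.congr_fun (proj_ev p J K ϖ J' emb) g).symm⟩) :
    (ev p J K ϖ).range →ₐ[ℤ] (ev p J' (fun j' => K (emb j')) (fun j' => ϖ (emb j'))).range)

theorem θ_coe (x : (ev p J K ϖ).range) : (θ p J K ϖ J' emb x : ∀ j', K (emb j')) = fun j' => (x : ∀ j, K j) (emb j') := rfl

theorem θ_surj : Function.Surjective (θ p J K ϖ J' emb) := by
  rintro ⟨_, g, rfl⟩
  exact ⟨⟨_, g, rfl⟩, Subtype.ext (DFunLike.congr_fun (proj_ev p J K ϖ J' emb) g)⟩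

theorem θ_ev (g : MvPolynomial (Fin 2) ℤ) : θ p J K ϖ J' emb ⟨ev p J K ϖ g, AlgHom.mem_range_self _ _⟩ =
    ⟨ev p J' (fun j' => K (emb j')) (fun j' => ϖ (emb j')) g, AlgHom.mem_range_self _ _⟩ :=
  Subtype.ext (DFunLike.congr_fun (proj_ev p J K ϖ J' emb) g)

end Alg

theorem fam_root (H : K944.WeilNum.Order.Fam p ϖ (ev p J K ϖ)) :
    Polynomial.aeval (⟨ev p J K ϖ (X 0), AlgHom.mem_range_self _ _⟩ : (ev p J K ϖ).range) (∏ j, minpoly ℤ (ϖ j)) = 0 := by
  apply Subtype.val_injective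
  have h1 := Polynomial.aeval_algHom_apply (ev p J K ϖ).range.val
    (⟨ev p J K ϖ (X 0), AlgHom.mem_range_self _ _⟩ : (ev p J K ϖ).range) (∏ j, minpoly ℤ (ϖ j))
  refine h1.symm.trans ?_
  show Polynomial.aeval (ev p J K ϖ (X 0)) _ = 0
  rw [H.f0]
  exact H.aeval_P

/-- Evaluation of integral polynomials and ring homomorphisms. -/
theorem map_aeval' {R S : Type*} [CommRing R] [Algebra ℤ R] [Ring S] (σ : R →+* S) (x : R) (P : Polynomial ℤ) :
    σ (Polynomial.aeval x P) = Polynomial.eval₂ (Int.castRingHom S) (σ x) P := by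
  rw [Polynomial.aeval_def, Polynomial.hom_eval₂]
  congr 1
  exact RingHom.ext_int _ _

theorem zsmul_inj {X Y : Alg k} (hX : IsAV X) {n : ℤ} (hn : n ≠ 0) (f : X ⟶ Y) (hf : n • f = 0) : f = 0 := by
  refine smul_inj hX (Int.natAbs_ne_zero.2 hn) f ?_
  rcases Int.natAbs_eq n with h | h
  · rw [h, natCast_zsmul] at hf
    exact hf
  · rw [h, neg_zsmul, natCast_zsmul, neg_eq_zero] at hf
    exact hf

section

variable {Aw : Over (Spec (CommRingCat.of k))} [GrpObj Aw] [IsCommMonObj Aw] [IsProper Aw.hom] [GeometricallyIntegral Aw.hom]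
    {ρw : (ev p J K ϖ).range ≃+* EndAV.End Aw} (H : HypW p k J K ϖ Aw ρw) (hR : RankW ϖ (K525.AVC.mk Aw))
    (J' : Type) [Fintype J'] (emb : J' → J) (hemb : Function.Injective emb)
include H hemb

/-- The kernel of the projection is killed, up to torsion, by `P_v(F)`. -/
theorem exists_mul (r : (ev p J K ϖ).range) (hr : θ p J K ϖ J' emb r = 0) :
    ∃ (N : ℤ) (s : (ev p J K ϖ).range), N ≠ 0 ∧
      N • r = s * Polynomial.aeval (⟨ev p J K ϖ (X 0), AlgHom.mem_range_self _ _⟩ : (ev p J K ϖ).range)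
        (∏ j', minpoly ℤ (ϖ (emb j'))) := by
  classical
  let s : Finset J := Finset.univ.map ⟨emb, hemb⟩
  obtain ⟨A, B, N, hN, hAB⟩ := K944.WeilNum.Bezout.exists_int_prod (π := ϖ) H.hint H.hinj s sᶜ disjoint_compl_right
  have hs : ∏ i ∈ s, minpoly ℤ (ϖ i) = ∏ j', minpoly ℤ (ϖ (emb j')) := by
    rw [Finset.prod_map]; rfl
  rw [hs] at hAB
  set F : (ev p J K ϖ).range := ⟨ev p J K ϖ (X 0), AlgHom.mem_range_self _ _⟩ with hF
  refine ⟨N, Polynomial.aeval F A * r, hN, ?_⟩
  have h1 : Polynomial.aeval F (∏ i ∈ sᶜ, minpoly ℤ (ϖ i)) * r = 0 := by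
    apply Subtype.val_injective
    funext j
    show ((Polynomial.aeval F (∏ i ∈ sᶜ, minpoly ℤ (ϖ i)) : (ev p J K ϖ).range) : ∀ j, K j) j * (r : ∀ j, K j) j = 0
    by_cases hj : j ∈ s
    · obtain ⟨j', -, rfl⟩ := Finset.mem_map.1 hj
      have h2 := congrFun (congrArg Subtype.val hr) j'
      rw [θ_coe] at h2
      have h3 : (r : ∀ j, K j) (emb j') = 0 := h2
      show _ * (r : ∀ j, K j) (emb j') = 0
      rw [h3, mul_zero]
    · have h2 : ((Polynomial.aeval F (∏ i ∈ sᶜ, minpoly ℤ (ϖ i)) : (ev p J K ϖ).range) : ∀ j, K j) =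
          Polynomial.aeval ϖ (∏ i ∈ sᶜ, minpoly ℤ (ϖ i)) := by
        have h3 := Polynomial.aeval_algHom_apply (ev p J K ϖ).range.val F (∏ i ∈ sᶜ, minpoly ℤ (ϖ i))
        refine h3.symm.trans ?_
        show Polynomial.aeval (ev p J K ϖ (X 0)) _ = _
        rw [H.fam.f0]
      rw [h2, K944.WeilNum.Order.Fam.aeval_apply H.fam, map_prod, Finset.prod_eq_zero (Finset.mem_compl.2 hj) (minpoly.aeval ℤ (ϖ j)), zero_mul]
  have h4 := congrArg (fun G => Polynomial.aeval F G * r) hAB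
  simp only [map_add, map_mul, add_mul] at h4
  rw [_root_.mul_assoc (Polynomial.aeval F B), h1, mul_zero, add_zero, Polynomial.aeval_C] at h4
  rw [zsmul_eq_mul]
  refine Eq.trans ?_ (h4.symm.trans ?_)
  · rfl
  · ring

include hR

theorem sub : ∃ (B : Alg k) (b : B ⟶ K525.AVC.mk Aw)
    (σ : (ev p J' (fun j' => K (emb j')) (fun j' => ϖ (emb j'))).range ≃+* End B), IsAV B ∧ Mono b ∧
      InW (fun j' => ϖ (emb j')) B ∧
      σ ⟨ev p J' (fun j' => K (emb j')) (fun j' => ϖ (emb j')) (X 0), AlgHom.mem_range_self _ _⟩ = (show End B from frC B) ∧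
      ∀ (B' : Alg k) (f : B' ⟶ K525.AVC.mk Aw), IsAV B' → InW (fun j' => ϖ (emb j')) B' →
        ∃ f₁ : B' ⟶ B, f₁ ≫ b = f := by
  have hD := H.data hR
  have hfam : K944.WeilNum.Order.Fam p (fun j' => ϖ (emb j')) (ev p J' (fun j' => K (emb j')) (fun j' => ϖ (emb j'))) :=
    K525.Rw.fam p J' (fun j' => K (emb j')) (fun j' => ϖ (emb j')) (fun j => H.hint _) (fun j => H.hweil _)
      (fun i j hij => hemb (H.hinj _ _ hij))
  have := hfam.finite
  have := hfam.free
  obtain ⟨B, e, σ, hB1, hB2, he, hσe, hσF⟩ := K525.Res4.order' H hR (θ p J K ϖ J' emb) (by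
    intro h hh x
    obtain ⟨r, rfl⟩ := θ_surj p J K ϖ J' emb x
    have := hh r 1
    rw [_root_.mul_one] at this
    rw [this, _root_.mul_comm])
  let ρ' : (ev p J K ϖ).range ≃+* End (K525.AVC.mk Aw) := ρw.trans (endE Aw).symm
  let b : B ⟶ K525.AVC.mk Aw := e 1
  have hb : ∀ r, b ≫ (ρ' r : K525.AVC.mk Aw ⟶ K525.AVC.mk Aw) = e (θ p J K ϖ J' emb r) := by
    intro r
    have := he r 1
    rw [_root_.mul_one] at this
    exact this.symm
  have hsurj : ∀ g : B ⟶ K525.AVC.mk Aw, ∃ r : (K525.AVC.mk Aw ⟶ K525.AVC.mk Aw), b ≫ r = g := by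
    intro g
    obtain ⟨x, rfl⟩ := e.surjective g
    obtain ⟨r, rfl⟩ := θ_surj p J K ϖ J' emb x
    exact ⟨ρ' r, hb r⟩
  have hBn := nice H hR hB1 hB2
  have hbm : Mono b := hBn.mono_of_factors hD.isOrd K525.G0C.g0 b hsurj
  refine ⟨B, b, σ, hB1, hbm, ?_, ?_, ?_⟩
  · -- the polynomial of the subfamily kills Frobenius
    have h1 := (congrArg (σ : _ →+* End B) (fam_root hfam)).trans (map_zero _)
    rw [map_aeval'] at h1
    have h2 : (σ : (ev p J' (fun j' => K (emb j')) (fun j' => ϖ (emb j'))).range →+* End B)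
      ⟨ev p J' (fun j' => K (emb j')) (fun j' => ϖ (emb j')) (X 0), AlgHom.mem_range_self _ _⟩ =
      (show End B from frC B) := by rw [← hσF, θ_ev]; rfl
    rw [h2] at h1
    exact h1
  · rw [← hσF, θ_ev]
  · intro B' f hB'1 hB'2
    obtain ⟨n, κ, hκ, -, e', he'⟩ := K525.AbsFF.factors_of_annihilates hD.isOrd K525.G0C.g0 hD.niceA hBn b hD.finA hsurj
    have hfκ : ∀ i, f ≫ κ i = 0 := by
      intro i
      obtain ⟨r, hr⟩ := ρ'.surjective (κ i)
      have h1 : θ p J K ϖ J' emb r = 0 := by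
        apply e.injective
        rw [← hb r, hr, map_zero]
        exact hκ i
      obtain ⟨N, s, hN, hs⟩ := exists_mul H J' emb hemb r h1
      have h2 : (ρ' : _ →+* End (K525.AVC.mk Aw)) (Polynomial.aeval
          (⟨ev p J K ϖ (X 0), AlgHom.mem_range_self _ _⟩ : (ev p J K ϖ).range) (∏ j', minpoly ℤ (ϖ (emb j')))) =
          Polynomial.eval₂ (Int.castRingHom _) (show End (K525.AVC.mk Aw) from frC (K525.AVC.mk Aw))
            (∏ j', minpoly ℤ (ϖ (emb j'))) := by
        rw [map_aeval']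
        congr 1
        show (endE Aw).symm (ρw _) = _
        rw [H.hρ]
        rfl
      have h3 := eval₂_mul_comp f (show End B' from frC B') (show End (K525.AVC.mk Aw) from frC (K525.AVC.mk Aw))
        (frC_comm f) (∏ j', minpoly ℤ (ϖ (emb j')))
      unfold InW at hB'2
      rw [hB'2] at h3
      have h4 : f ≫ ((ρ' : _ →+* End (K525.AVC.mk Aw)) (Polynomial.aeval
          (⟨ev p J K ϖ (X 0), AlgHom.mem_range_self _ _⟩ : (ev p J K ϖ).range) (∏ j', minpoly ℤ (ϖ (emb j')))) :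
          K525.AVC.mk Aw ⟶ K525.AVC.mk Aw) = 0 := by
        rw [h2]
        exact h3.symm.trans zero_comp
      apply zsmul_inj hB'1 hN
      rw [← Preadditive.comp_zsmul, ← hr]
      have h5 : N • (ρ' r : K525.AVC.mk Aw ⟶ K525.AVC.mk Aw) =
          ((ρ' : _ →+* End (K525.AVC.mk Aw)) (Polynomial.aeval
          (⟨ev p J K ϖ (X 0), AlgHom.mem_range_self _ _⟩ : (ev p J K ϖ).range) (∏ j', minpoly ℤ (ϖ (emb j')))) :
          K525.AVC.mk Aw ⟶ K525.AVC.mk Aw) ≫ (ρ' s : K525.AVC.mk Aw ⟶ K525.AVC.mk Aw) := by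
        have h6 : N • ρ' r = ρ' s * ρ' (Polynomial.aeval
          (⟨ev p J K ϖ (X 0), AlgHom.mem_range_self _ _⟩ : (ev p J K ϖ).range) (∏ j', minpoly ℤ (ϖ (emb j')))) := by
          rw [← map_zsmul, hs, map_mul]
        exact h6
      rw [h5, ← Category.assoc, h4, zero_comp]
    have h2 : f ≫ biproduct.lift κ = 0 := by
      apply biproduct.hom_ext
      intro i
      rw [Category.assoc, biproduct.lift_π, hfκ, zero_comp]
    refine ⟨kernel.lift _ f h2 ≫ e'.inv, ?_⟩
    rw [Category.assoc, ← he', e'.inv_hom_id_assoc, kernel.lift_ι]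

/-- The abelian subvariety generated by the images of all homomorphisms from `AV_v`. -/
theorem subvariety (C : Over (Spec (CommRingCat.of k))) [GrpObj C] [IsCommMonObj C] [IsProper C.hom] [GeometricallyIntegral C.hom]
    (j : EndAV.Hom C Aw) [IsClosedImmersion j.toHom.left]
    (hfac : ∀ (B : Over (Spec (CommRingCat.of k))) [GrpObj B] [IsCommMonObj B] [IsProper B.hom] [GeometricallyIntegral B.hom]
      (_ : FrP k (∏ j', minpoly ℤ (ϖ (emb j'))) B)
      (f : EndAV.Hom B Aw), ∃ f₀ : EndAV.Hom B C, f₀ ≫ j = f)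
    (hmin : ∀ (C' : Over (Spec (CommRingCat.of k))) [GrpObj C'] [IsCommMonObj C'] [IsProper C'.hom] [GeometricallyIntegral C'.hom]
      (j' : EndAV.Hom C' Aw) [IsClosedImmersion j'.toHom.left],
      (∀ (B : Over (Spec (CommRingCat.of k))) [GrpObj B] [IsCommMonObj B] [IsProper B.hom] [GeometricallyIntegral B.hom]
        (_ : FrP k (∏ j', minpoly ℤ (ϖ (emb j'))) B)
        (f : EndAV.Hom B Aw), ∃ f₀ : EndAV.Hom B C', f₀ ≫ j' = f) →
      ∃ i : EndAV.Hom C C', i ≫ j' = j) :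
    FrP k (∏ j', minpoly ℤ (ϖ (emb j'))) C ∧
      ∃ ρv : (ev p J' (fun j' => K (emb j')) (fun j' => ϖ (emb j'))).range ≃+* EndAV.End C,
        ρv ⟨ev p J' (fun j' => K (emb j')) (fun j' => ϖ (emb j')) (X 0), AlgHom.mem_range_self _ _⟩ = EndAV.End.of (fr k C) := by
  obtain ⟨B, b, σ, hB1, hbm, hBW, hσ, hBfac⟩ := sub H hR J' emb hemb
  have hBp := hB1.1
  have hBg := hB1.2
  have hci : IsClosedImmersion (und b).left := isClosedImmersion_of_mono b
  let bE : EndAV.Hom B.obj.X Aw := b.hom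
  have hci' : IsClosedImmersion bE.toHom.left := hci
  obtain ⟨i, hi⟩ := hmin B.obj.X bE (by
    intro B' _ _ _ _ hB' f
    obtain ⟨f₁, hf₁⟩ := hBfac (K525.AVC.mk B') ((homE B' Aw).symm f) (isAV_mk B') (inW_mk B' hB')
    exact ⟨f₁.hom, congrArg (fun z => z.hom) hf₁⟩)
  obtain ⟨f₀, hf₀⟩ := hfac B.obj.X (frP_of_inW B.obj.X hBW) bE
  let iC : K525.AVC.mk C ⟶ B := ObjectProperty.homMk i
  let fC : B ⟶ K525.AVC.mk C := ObjectProperty.homMk f₀
  let jC : K525.AVC.mk C ⟶ K525.AVC.mk Aw := (homE C Aw).symm j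
  have hiC : iC ≫ b = jC := congrArg (homE C Aw).symm hi
  have hfC : fC ≫ jC = b := congrArg (fun z => (ObjectProperty.homMk z : B ⟶ K525.AVC.mk Aw)) hf₀
  have hjm : Mono jC := by
    have : IsClosedImmersion (und jC).left := ‹IsClosedImmersion j.toHom.left›
    exact mono_of_isClosedImmersion jC
  have h1 : iC ≫ fC = 𝟙 _ := by rw [← cancel_mono jC, Category.assoc, hfC, hiC, Category.id_comp]
  have h2 : fC ≫ iC = 𝟙 _ := by rw [← cancel_mono b, Category.assoc, hiC, hfC, Category.id_comp]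
  have him : Mono iC := by
    have : Mono (iC ≫ fC) := by rw [h1]; infer_instance
    exact mono_of_mono iC fC
  refine ⟨frP_of_inW C (inW_of_mono iC hBW), ?_⟩
  let cj : End B ≃+* End (K525.AVC.mk C) :=
    { toFun := fun g => iC ≫ g ≫ fC
      invFun := fun g => fC ≫ g ≫ iC
      left_inv := fun g => by
        show fC ≫ (iC ≫ g ≫ fC) ≫ iC = g
        simp only [Category.assoc]
        rw [h2, Category.comp_id, ← Category.assoc, h2, Category.id_comp]
      right_inv := fun g => by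
        show iC ≫ (fC ≫ g ≫ iC) ≫ fC = g
        simp only [Category.assoc]
        rw [h1, Category.comp_id, ← Category.assoc, h1, Category.id_comp]
      map_mul' := fun g g' => by
        show iC ≫ (g' ≫ g) ≫ fC = (iC ≫ g' ≫ fC) ≫ (iC ≫ g ≫ fC)
        simp only [Category.assoc]
        rw [← Category.assoc fC iC, h2, Category.id_comp]
      map_add' := fun g g' => by
        show iC ≫ (g + g') ≫ fC = iC ≫ g ≫ fC + iC ≫ g' ≫ fC
        rw [Preadditive.add_comp, Preadditive.comp_add] }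
  refine ⟨(σ.trans cj).trans (endE C), ?_⟩
  show endE C (cj (σ _)) = _
  rw [hσ]
  have h3 : cj (show End B from frC B) = (show End (K525.AVC.mk C) from frC (K525.AVC.mk C)) := by
    show iC ≫ frC B ≫ fC = frC (K525.AVC.mk C)
    rw [frC_comm, ← Category.assoc, h1, Category.id_comp]
  rw [h3]
  rfl

end

end K525.Res6
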