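import Groth.Agent.AbVar.K525.Lin
import Groth.Agent.AbVar.K525.Res6
import Groth.Agent.AbVar.K522.VRep
import Groth.Agent.AbVar.K515.TateRank
import Mathlib.RingTheory.Localization.Module
import Mathlib.RingTheory.Localization.BaseChange

/-!
# The rank hypothesis: Frobenius on the rational Tate module
-/

set_option autoImplicit false

universe w u

open CategoryTheory MonoidalCategory CartesianMonoidalCategory MonObj GrpObj AlgebraicGeometry Limits MvPolynomial TensorProduct

namespace K525.RankA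

open K525.AlgC K525.OrdC K525.AbsOrd K525.AbsD K525.AbsS K525.AVC K525.Unimod K525.Count K525.Setup K525.Rw K525.Conv
  K520.Frob K520.FrP K525.Hyp K525.Res1 K525.Res2 K525.AbsMore K522.VRep K525.Lin

/-- Base change of homomorphisms to the fraction field is injective for torsion-free targets. -/
theorem baseChange_injective {R K : Type*} [CommRing R] [IsDomain R] [Field K] [Algebra R K] [IsFractionRing R K]
    {M N : Type*} [AddCommGroup M] [Module R M] [AddCommGroup N] [Module R N] [Module.IsTorsionFree R N] :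
    Function.Injective (LinearMap.baseChangeHom R K M N) := by
  intro u v h
  have h0 : Function.Injective (TensorProduct.mk R K N 1) := by
    have h : IsLocalizedModule (nonZeroDivisors R) (TensorProduct.mk R K N 1) :=
      (isLocalizedModule_iff_isBaseChange (nonZeroDivisors R) K (TensorProduct.mk R K N 1)).mpr
        (TensorProduct.isBaseChange R N K)
    rw [← LinearMap.ker_eq_bot, LinearMap.ker_eq_bot']
    intro m hm
    rw [IsLocalizedModule.eq_zero_iff (nonZeroDivisors R)] at hm
    obtain ⟨c, hc⟩ := hm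
    exact (smul_eq_zero_iff_right (nonZeroDivisors.ne_zero c.2)).mp hc
  refine LinearMap.ext fun m => h0 ?_
  have := LinearMap.congr_fun h ((1 : K) ⊗ₜ m)
  simpa using this

variable {p : ℕ} [Fact p.Prime] {k : Type u} [Field k] [Finite k]
    {J : Type} [Fintype J] {K : J → Type} [∀ j, Field (K j)] [∀ j, CharZero (K j)] {ϖ : ∀ j, K j}
    {Aw : Over (Spec (CommRingCat.of k))} [GrpObj Aw] [IsCommMonObj Aw] [IsProper Aw.hom] [GeometricallyIntegral Aw.hom]
    {ρw : (ev p J K ϖ).range ≃+* EndAV.End Aw} (H : HypW p k J K ϖ Aw ρw)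
include H

/-- The powers of Frobenius are linearly independent. -/
theorem linInd_pow : LinearIndependent ℤ (fun i : Fin (∏ j, minpoly ℤ (ϖ j)).natDegree =>
    ((EndAV.End.of (fr k Aw) ^ (i : ℕ) : EndAV.End Aw) : EndAV.Hom Aw Aw)) := by
  set P := ∏ j, minpoly ℤ (ϖ j) with hP
  rw [Fintype.linearIndependent_iff]
  intro c hc
  set F : (ev p J K ϖ).range := ⟨ev p J K ϖ (X 0), AlgHom.mem_range_self _ _⟩ with hF
  let G : Polynomial ℤ := ∑ i : Fin P.natDegree, Polynomial.C (c i) * Polynomial.X ^ (i : ℕ)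
  have h1 : ρw (Polynomial.aeval F G) = 0 := by
    have h2 : ρw (Polynomial.aeval F G) = ∑ i : Fin P.natDegree, c i • (EndAV.End.of (fr k Aw) ^ (i : ℕ) : EndAV.End Aw) := by
      show ρw (Polynomial.aeval F (∑ i : Fin P.natDegree, Polynomial.C (c i) * Polynomial.X ^ (i : ℕ))) = _
      rw [map_sum, map_sum]
      refine Finset.sum_congr rfl fun i _ => ?_
      rw [map_mul, Polynomial.aeval_C, map_pow, Polynomial.aeval_X, map_mul, map_pow, H.hρ, eq_intCast, map_intCast,
        ← zsmul_eq_mul]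
    rw [h2]
    exact hc
  have h3 : Polynomial.aeval F G = 0 := by
    rw [← map_zero ρw] at h1
    exact ρw.injective h1
  have h4 : Polynomial.aeval ϖ G = 0 := by
    have h5 := Polynomial.aeval_algHom_apply (ev p J K ϖ).range.val F G
    rw [h3, map_zero] at h5
    have h6 : (ev p J K ϖ).range.val F = ϖ := H.fam.f0
    rw [h6] at h5
    exact h5
  have h5 : P ∣ G := by
    refine K944.WeilNum.Sym.prod_dvd H.hint H.hinj G fun i => ?_
    rw [← K944.WeilNum.Order.Fam.aeval_apply H.fam, h4]
    rfl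
  have hPm : P.Monic := by rw [hP]; exact Polynomial.monic_prod_of_monic _ _ fun i _ => minpoly.monic (H.hint i)
  have hcoeff : ∀ m : ℕ, G.coeff m = ∑ i : Fin P.natDegree, if m = (i : ℕ) then c i else 0 := by
    intro m
    show (∑ i : Fin P.natDegree, Polynomial.C (c i) * Polynomial.X ^ (i : ℕ)).coeff m = _
    rw [Polynomial.finsetSum_coeff]
    refine Finset.sum_congr rfl fun i _ => ?_
    rw [Polynomial.coeff_C_mul_X_pow]
  have h6 : G = 0 := by
    refine Polynomial.eq_zero_of_dvd_of_degree_lt h5 ?_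
    rw [Polynomial.degree_eq_natDegree hPm.ne_zero, Polynomial.degree_lt_iff_coeff_zero]
    intro m hm
    rw [hcoeff]
    refine Finset.sum_eq_zero fun i _ => ?_
    rw [if_neg]
    have := i.2
    omega
  intro i
  have h7 := hcoeff i
  rw [h6, Polynomial.coeff_zero, Finset.sum_eq_single i] at h7
  · rw [if_pos rfl] at h7
    exact h7.symm
  · intro j _ hij
    rw [if_neg]
    intro h
    exact hij (Fin.ext h.symm)
  · intro h
    exact absurd (Finset.mem_univ _) h

variable (l : ℕ) [hl : Fact l.Prime] (T : Over (Spec (CommRingCat.of k)))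
  [hfree : Module.Free ℤ_[l] (AbDual.TateMod Aw l T)] [hfin : Module.Finite ℤ_[l] (AbDual.TateMod Aw l T)]
  (hI : ∀ (n : ℕ) (e : Fin n → EndAV.Hom Aw Aw), LinearIndependent ℤ e →
      LinearIndependent ℤ_[l] (fun i => EndAV.Hom.tateMap (A := Aw) (B := Aw) l T (e i)))

omit H [∀ j, CharZero (K j)] in
/-- The polynomial of the family kills Frobenius on the rational Tate module. -/
theorem aeval_vRep (Y : Over (Spec (CommRingCat.of k))) [GrpObj Y] [IsCommMonObj Y]
    (hY : FrP k (∏ j, minpoly ℤ (ϖ j)) Y) :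
    Polynomial.aeval (vRep l T Y (EndAV.End.of (fr k Y))) ((∏ j, minpoly ℤ (ϖ j)).map (Int.castRingHom ℚ_[l])) = 0 := by
  unfold FrP at hY
  have h1 := congrArg (vRep l T Y) hY
  rw [map_zero, Polynomial.hom_eval₂] at h1
  rw [Polynomial.aeval_def, Polynomial.eval₂_map]
  refine Eq.trans ?_ h1
  congr 1
  exact RingHom.ext_int _ _

omit hfree hfin in
include hI in
/-- The minimal polynomial of Frobenius on `V_l(A_w)`. -/
theorem minpoly_eq : minpoly ℚ_[l] (vRep l T Aw (EndAV.End.of (fr k Aw))) =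
    (∏ j, minpoly ℤ (ϖ j)).map (Int.castRingHom ℚ_[l]) := by
  set P := ∏ j, minpoly ℤ (ϖ j) with hP
  set g := vRep l T Aw (EndAV.End.of (fr k Aw)) with hg
  have hPm : P.Monic := by rw [hP]; exact Polynomial.monic_prod_of_monic _ _ fun i _ => minpoly.monic (H.hint i)
  have hPm' : (P.map (Int.castRingHom ℚ_[l])).Monic := hPm.map _
  have hFr : FrP k P Aw := frP_of_inW Aw H.inW
  have h0 : Polynomial.aeval g (P.map (Int.castRingHom ℚ_[l])) = 0 := aeval_vRep l T Aw hFr
  have hint : IsIntegral ℚ_[l] g := ⟨_, hPm', by rw [← Polynomial.aeval_def]; exact h0⟩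
  have hdvd : minpoly ℚ_[l] g ∣ P.map (Int.castRingHom ℚ_[l]) := minpoly.dvd _ _ h0
  -- independence of the powers
  have htf : Module.IsTorsionFree ℤ_[l] (AbDual.TateMod Aw l T) := inferInstance
  have h1 := hI _ _ (linInd_pow H)
  have h2 : LinearIndependent ℤ_[l] (fun i : Fin P.natDegree => g ^ (i : ℕ)) := by
    have h3 := h1.map' (LinearMap.baseChangeHom ℤ_[l] ℚ_[l] _ _) (LinearMap.ker_eq_bot.mpr baseChange_injective)
    have h4 : (fun i : Fin P.natDegree => g ^ (i : ℕ)) = (LinearMap.baseChangeHom ℤ_[l] ℚ_[l] (AbDual.TateMod Aw l T) (AbDual.TateMod Aw l T)) ∘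
        fun i : Fin P.natDegree => (EndAV.Hom.tateMap l T) (EndAV.End.of (fr k Aw) ^ (i : ℕ) : EndAV.End Aw) := by
      funext i
      exact (map_pow (vRep l T Aw) (EndAV.End.of (fr k Aw)) (i : ℕ)).symm
    rw [h4]
    exact h3
  have h3 : LinearIndependent ℚ_[l] (fun i : Fin P.natDegree => g ^ (i : ℕ)) :=
    (LinearIndependent.iff_fractionRing ℤ_[l] ℚ_[l]).mp h2
  have hdeg : (P.map (Int.castRingHom ℚ_[l])).natDegree ≤ (minpoly ℚ_[l] g).natDegree := by
    by_contra hlt
    rw [not_le, hPm.natDegree_map] at hlt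
    rw [Fintype.linearIndependent_iff] at h3
    have h4 : ∑ i : Fin P.natDegree, (minpoly ℚ_[l] g).coeff i • g ^ (i : ℕ) = 0 := by
      rw [Fin.sum_univ_eq_sum_range (fun i => (minpoly ℚ_[l] g).coeff i • g ^ i), ← Polynomial.aeval_eq_sum_range' hlt]
      exact minpoly.aeval _ _
    have h5 := h3 _ h4 ⟨(minpoly ℚ_[l] g).natDegree, hlt⟩
    have h6 : (minpoly ℚ_[l] g).coeff (minpoly ℚ_[l] g).natDegree = 1 := minpoly.monic hint
    rw [h6] at h5
    exact one_ne_zero h5
  exact (Polynomial.eq_of_monic_of_dvd_of_natDegree_le (minpoly.monic hint) hPm' hdvd hdeg).symm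

end K525.RankA
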