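import Groth.Agent.AbVar.K525.RankA
import Groth.Agent.AbVar.K522.FFThm

/-!
# The rank hypothesis from Tate's theorem
-/

set_option autoImplicit false

universe w u

open CategoryTheory MonoidalCategory CartesianMonoidalCategory MonObj GrpObj AlgebraicGeometry Limits MvPolynomial TensorProduct

namespace K525.RankB

open K525.AlgC K525.OrdC K525.AbsOrd K525.AbsD K525.AbsS K525.AVC K525.Unimod K525.Count K525.Setup K525.Rw K525.Conv
  K520.Frob K520.FrP K525.Hyp K525.Res1 K525.Res2 K525.AbsMore K522.VRep K525.Lin K525.RankA K522.HomRank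

/-- A prime number invertible in a given finite field. -/
theorem exists_prime (k : Type u) [Field k] : ∃ l : ℕ, l.Prime ∧ (l : k) ≠ 0 := by
  by_cases h2 : ((2 : ℕ) : k) = 0
  · refine ⟨3, Nat.prime_three, fun h3 => ?_⟩
    apply one_ne_zero (α := k)
    have : (1 : k) = ((3 : ℕ) : k) - ((2 : ℕ) : k) := by push_cast; ring
    rw [this, h2, h3, sub_zero]
  · exact ⟨2, Nat.prime_two, h2⟩

/-- Tate's theorem for all abelian varieties over `k`. -/
def TateHyp (k : Type u) [Field k] : Prop :=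
  ∀ (l : ℕ) [Fact l.Prime], (l : k) ≠ 0 → ∀ (X Y : Over (Spec (CommRingCat.of k)))
    [GrpObj X] [IsCommMonObj X] [IsProper X.hom] [GeometricallyIntegral X.hom]
    [GrpObj Y] [IsCommMonObj Y] [IsProper Y.hom] [GeometricallyIntegral Y.hom],
    TateThm (AlgebraicClosure k) l X Y

variable {p : ℕ} [Fact p.Prime] {k : Type u} [Field k] [Finite k]
    {J : Type} [Fintype J] {K : J → Type} [∀ j, Field (K j)] [∀ j, CharZero (K j)] {ϖ : ∀ j, K j}
    {Aw : Over (Spec (CommRingCat.of k))} [GrpObj Aw] [IsCommMonObj Aw] [IsProper Aw.hom] [GeometricallyIntegral Aw.hom]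
    {ρw : (ev p J K ϖ).range ≃+* EndAV.End Aw}

theorem rankW' (hT : TateHyp k) (H : HypW p k J K ϖ Aw ρw) : RankW ϖ (K525.AVC.mk Aw) := by
  obtain ⟨l, hl, hlk⟩ := exists_prime k
  have : Fact l.Prime := ⟨hl⟩
  intro Y hY hW
  have i1 := hY.1
  have i2 := hY.2
  let Ω := AlgebraicClosure k
  have hFr : FrP k (∏ j, minpoly ℤ (ϖ j)) Y.obj.X := frP_of_inW Y.obj.X hW
  let e : (Y ⟶ K525.AVC.mk Aw) ≃ₗ[ℤ] EndAV.Hom Y.obj.X Aw := (homE Y.obj.X Aw).toIntLinearEquiv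
  obtain ⟨h1, h2⟩ := K522.FFThm.free_finite Y.obj.X Aw
  refine ⟨Module.Finite.equiv e.symm, Module.Free.of_equiv e.symm, fun g hg => ?_⟩
  rw [e.finrank_eq]
  have f1 := K522.FFThm.finite_tate (l := l) Ω hlk Y.obj.X
  have f2 := K522.FFThm.free_tate (l := l) Ω hlk Y.obj.X
  have f3 := K522.FFThm.finite_tate (l := l) Ω hlk Aw
  have f4 := K522.FFThm.free_tate (l := l) Ω hlk Aw
  rw [K522.FFThm.finrank_hom_ker (Ω := Ω) hlk (fr k Y.obj.X) (isFrob_fr k Y.obj.X) (fr k Aw) (isFrob_fr k Aw)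
    (hT l hlk Y.obj.X Aw)]
  have h3 := minpoly_eq H l (SGA7.pt Ω) (fun n e he => K522.Bridge.linearIndependent Ω hlk e he)
  have h4 := aeval_vRep (ϖ := ϖ) l (SGA7.pt Ω) Y.obj.X hFr
  rw [← h3] at h4
  have h5 := K525.Lin.finrank_le _ _ h4
  have h6 : Module.finrank ℚ_[l] (Vl l (SGA7.pt (K := k) Ω) Y.obj.X) = 2 * g := by
    rw [Module.finrank_baseChange, K515.TateRank.finrank_eq Ω Y.obj.X l hlk g hg]
  rw [h6] at h5
  have h7 : inter ((vRep l (SGA7.pt Ω) Y.obj.X) (EndAV.End.of (fr k Y.obj.X))) ((vRep l (SGA7.pt Ω) Aw) (EndAV.End.of (fr k Aw))) =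
      LinearMap.ker (LinearMap.lcomp ℚ_[l] (Vl l (SGA7.pt Ω) Aw) (K522.TateAbs.vmap (l := l) (T := SGA7.pt Ω) (fr k Y.obj.X)) -
        LinearMap.llcomp ℚ_[l] (Vl l (SGA7.pt Ω) Y.obj.X) (Vl l (SGA7.pt Ω) Aw) (Vl l (SGA7.pt Ω) Aw)
          (K522.TateAbs.vmap (l := l) (T := SGA7.pt Ω) (fr k Aw))) := by
    ext w
    rw [LinearMap.mem_ker, LinearMap.sub_apply, sub_eq_zero]
    exact Iff.rfl
  rw [← h7]
  exact h5

end K525.RankB
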