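import Groth.Agent.AbVar.K525.Hyp
import Groth.Agent.AbVar.K525.AbsFF

/-!
# Full faithfulness, conditional on the rank hypothesis
-/

set_option autoImplicit false

universe w u

open CategoryTheory MonoidalCategory CartesianMonoidalCategory MonObj GrpObj AlgebraicGeometry Limits MvPolynomial

namespace K525.Res1

open K525.AlgC K525.OrdC K525.AbsOrd K525.AbsD K525.AbsS K525.AVC K525.Unimod K525.Count K525.Setup K525.Rw K525.Conv
  K520.Frob K520.FrP K525.Hyp

section

variable {k : Type u} [Field k] [Finite k]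
    {J : Type} [Fintype J] {K : J → Type} [∀ j, Field (K j)] {ϖ : ∀ j, K j}

theorem inW_mk (X : Over (Spec (CommRingCat.of k))) [GrpObj X] [IsCommMonObj X] [IsProper X.hom]
    (h : FrP k (∏ j, minpoly ℤ (ϖ j)) X) : InW ϖ (K525.AVC.mk X) := by
  have h2 := Polynomial.hom_eval₂ (∏ j, minpoly ℤ (ϖ j)) (Int.castRingHom (EndAV.End X))
    ((endE X).symm : EndAV.End X →+* End (K525.AVC.mk X)) (EndAV.End.of (fr k X))
  have h3 : ((endE X).symm : EndAV.End X →+* End (K525.AVC.mk X)).comp (Int.castRingHom (EndAV.End X)) =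
    Int.castRingHom (End (K525.AVC.mk X)) := RingHom.ext_int _ _
  rw [h3] at h2
  refine h2.symm.trans ?_
  unfold FrP at h
  rw [h]
  exact map_zero _

theorem frP_of_inW (X : Over (Spec (CommRingCat.of k))) [GrpObj X] [IsCommMonObj X] [IsProper X.hom]
    (h : InW ϖ (K525.AVC.mk X)) : FrP k (∏ j, minpoly ℤ (ϖ j)) X := by
  have h2 := Polynomial.hom_eval₂ (∏ j, minpoly ℤ (ϖ j)) (Int.castRingHom (End (K525.AVC.mk X)))
    (endE X : End (K525.AVC.mk X) →+* EndAV.End X) (show End (K525.AVC.mk X) from frC (K525.AVC.mk X))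
  have h3 : (endE X : End (K525.AVC.mk X) →+* EndAV.End X).comp (Int.castRingHom (End (K525.AVC.mk X))) =
    Int.castRingHom (EndAV.End X) := RingHom.ext_int _ _
  rw [h3] at h2
  refine h2.symm.trans ?_
  unfold InW at h
  rw [h]
  exact map_zero _

end

variable {p : ℕ} [Fact p.Prime] {k : Type u} [Field k] [Finite k]
    {J : Type} [Fintype J] {K : J → Type} [∀ j, Field (K j)] [∀ j, CharZero (K j)] {ϖ : ∀ j, K j}
    {Aw : Over (Spec (CommRingCat.of k))} [GrpObj Aw] [IsCommMonObj Aw] [IsProper Aw.hom] [GeometricallyIntegral Aw.hom]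
    {ρw : (ev p J K ϖ).range ≃+* EndAV.End Aw} (H : HypW p k J K ϖ Aw ρw) (hR : RankW ϖ (K525.AVC.mk Aw))
include H hR

theorem nice {Y : Alg k} (hY : IsAV Y) (hW : InW ϖ Y) : Nice (ord (k := k)) (K525.AVC.mk Aw) Y := by
  obtain ⟨h1, h2, h3⟩ := hR Y hY hW
  exact (H.data hR).nice_of_rank hY h1 h2 h3

variable (X : Over (Spec (CommRingCat.of k))) [GrpObj X] [IsCommMonObj X] [IsProper X.hom]
  (Y : Over (Spec (CommRingCat.of k))) [GrpObj Y] [IsCommMonObj Y] [IsProper Y.hom] [GeometricallyIntegral Y.hom]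
  (hY : FrP k (∏ j, minpoly ℤ (ϖ j)) Y)
include hY

theorem nice_mk : Nice (ord (k := k)) (K525.AVC.mk Aw) (K525.AVC.mk Y) := nice H hR (isAV_mk Y) (inW_mk Y hY)

/-- Full faithfulness. -/
theorem fullyFaithful :
    (∀ f g : EndAV.Hom X Y, (∀ φ : EndAV.Hom Y Aw, f ≫ φ = g ≫ φ) → f = g) ∧
      (∀ g : EndAV.Hom Y Aw →ₗ[EndAV.End Aw] EndAV.Hom X Aw,
        ∃ f : EndAV.Hom X Y, ∀ φ : EndAV.Hom Y Aw, g φ = f ≫ φ) := by
  have hD := H.data hR
  have hYn := nice_mk H hR Y hY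
  have hYf := (hR _ (isAV_mk Y) (inW_mk Y hY)).1
  constructor
  · intro f g hfg
    have := K525.AbsFF.hom_ext_of_nice hD.isOrd K525.G0C.g0 hD.niceA hYn hYf ((homE X Y).symm f) ((homE X Y).symm g)
      (fun φ => congrArg (homE X Aw).symm (hfg (homE Y Aw φ)))
    exact (homE X Y).symm.injective this
  · intro g
    obtain ⟨f, hf⟩ := K525.AbsFF.exists_hom_of_linear hD.isOrd K525.G0C.g0 hD.niceA hD.finA hYn hYf (linE g)
    refine ⟨homE X Y f, fun φ => ?_⟩
    exact congrArg (homE X Aw) (hf ((homE Y Aw).symm φ))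

end K525.Res1
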