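import Groth.Agent.AbVar.K525.Res1

/-!
# Essential surjectivity, conditional on the rank hypothesis
-/

set_option autoImplicit false

universe w u

open CategoryTheory MonoidalCategory CartesianMonoidalCategory MonObj GrpObj AlgebraicGeometry Limits MvPolynomial

namespace K525.Res2

open K525.AlgC K525.OrdC K525.AbsOrd K525.AbsD K525.AbsS K525.AVC K525.Unimod K525.Count K525.Setup K525.Rw K525.Conv
  K520.Frob K520.FrP K525.Hyp K525.Res1

section

variable {k : Type u} [Field k] [Finite k]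
    {J : Type} [Fintype J] {K : J → Type} [∀ j, Field (K j)] {ϖ : ∀ j, K j}

theorem inW_of_epi {X Y : Alg k} (q : X ⟶ Y) [Epi q] (h : InW ϖ X) : InW ϖ Y := by
  have h1 := eval₂_mul_comp q (show End X from frC X) (show End Y from frC Y) (frC_comm q) (∏ j, minpoly ℤ (ϖ j))
  unfold InW at h
  rw [h] at h1
  refine (cancel_epi q).1 (h1.symm.trans ?_)
  exact zero_comp.trans comp_zero.symm

theorem inW_of_mono {X Y : Alg k} (q : X ⟶ Y) [Mono q] (h : InW ϖ Y) : InW ϖ X := by
  have h1 := eval₂_mul_comp q (show End X from frC X) (show End Y from frC Y) (frC_comm q) (∏ j, minpoly ℤ (ϖ j))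
  unfold InW at h
  rw [h] at h1
  refine (cancel_mono q).1 (h1.trans ?_)
  exact comp_zero.trans zero_comp.symm

theorem inW_biprod {X Y : Alg k} (hX : InW ϖ X) (hY : InW ϖ Y) : InW ϖ (X ⊞ Y) := by
  have h1 := eval₂_mul_comp (biprod.inl : X ⟶ X ⊞ Y) (show End X from frC X) (show End (X ⊞ Y) from frC (X ⊞ Y)) (frC_comm _)
    (∏ j, minpoly ℤ (ϖ j))
  have h2 := eval₂_mul_comp (biprod.inr : Y ⟶ X ⊞ Y) (show End Y from frC Y) (show End (X ⊞ Y) from frC (X ⊞ Y)) (frC_comm _)
    (∏ j, minpoly ℤ (ϖ j))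
  unfold InW at hX hY
  rw [hX] at h1
  rw [hY] at h2
  show ((Polynomial.eval₂ _ _ _ : End (X ⊞ Y)) : X ⊞ Y ⟶ X ⊞ Y) = 0
  apply biprod.hom_ext'
  · exact h1.symm.trans (zero_comp.trans comp_zero.symm)
  · exact h2.symm.trans (zero_comp.trans comp_zero.symm)

theorem inW_of_isZero {X : Alg k} (h : IsZero X) : InW ϖ X := h.eq_of_src _ _

end

variable {p : ℕ} [Fact p.Prime] {k : Type u} [Field k] [Finite k]
    {J : Type} [Fintype J] {K : J → Type} [∀ j, Field (K j)] [∀ j, CharZero (K j)] {ϖ : ∀ j, K j}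
    {Aw : Over (Spec (CommRingCat.of k))} [GrpObj Aw] [IsCommMonObj Aw] [IsProper Aw.hom] [GeometricallyIntegral Aw.hom]
    {ρw : (ev p J K ϖ).range ≃+* EndAV.End Aw} (H : HypW p k J K ϖ Aw ρw) (hR : RankW ϖ (K525.AVC.mk Aw))
include H hR

theorem essSurj' (M : Type w) [AddCommGroup M] [Module (End (K525.AVC.mk Aw)) M] [Module.Finite ℤ M] [Module.Free ℤ M] :
    ∃ B : Alg k, IsAV B ∧ InW ϖ B ∧ Nonempty (M ≃ₗ[End (K525.AVC.mk Aw)] (B ⟶ K525.AVC.mk Aw)) := by
  have hD := H.data hR
  obtain ⟨l, hl⟩ := hD.unim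
  have := hD.fin
  have := hD.free
  let ρ' : (ev p J K ϖ).range ≃+* End (K525.AVC.mk Aw) := ρw.trans (endE Aw).symm
  let _ : Module (ev p J K ϖ).range M := Module.compHom M (ρ' : (ev p J K ϖ).range →+* End (K525.AVC.mk Aw))
  obtain ⟨s, j, hj, htf⟩ := hl.exists_embedding (M := M)
  let j' : M →ₗ[End (K525.AVC.mk Aw)] (Fin s → End (K525.AVC.mk Aw)) :=
    { toFun := fun m i => ρ' (j m i)
      map_add' := fun m m' => by
        funext i
        show ρ' (j (m + m') i) = ρ' (j m i) + ρ' (j m' i)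
        rw [map_add, Pi.add_apply, map_add]
      map_smul' := fun e m => by
        funext i
        show ρ' (j (e • m) i) = e * ρ' (j m i)
        have h1 : e • m = (ρ'.symm e) • m := by
          show e • m = ρ' (ρ'.symm e) • m
          rw [RingEquiv.apply_symm_apply]
        rw [h1, map_smul, Pi.smul_apply, smul_eq_mul, map_mul, RingEquiv.apply_symm_apply] }
  have hj' : Function.Injective j' := by
    intro m m' h
    apply hj
    funext i
    exact ρ'.injective (congrFun h i)
  have htf' : ∀ (n : ℤ) (x : Fin s → End (K525.AVC.mk Aw)), n ≠ 0 → (∃ m, j' m = n • x) → ∃ m, j' m = x := by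
    rintro n x hn ⟨m, hm⟩
    obtain ⟨m', hm'⟩ := htf n (fun i => ρ'.symm (x i)) hn ⟨m, by
      funext i
      apply ρ'.injective
      have h2 : ρ' (j m i) = n • x i := congrFun hm i
      rw [h2]
      show n • x i = ρ' (n • ρ'.symm (x i))
      rw [map_zsmul, RingEquiv.apply_symm_apply]⟩
    refine ⟨m', ?_⟩
    funext i
    show ρ' (j m' i) = x i
    rw [hm', RingEquiv.apply_symm_apply]
  obtain ⟨X, X', B, e, u, he, hu, hX, hX', hB, hBf, hM⟩ := K525.AbsFF.exists_of_module hD.isOrd hD.niceA hD.finA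
    (fun X => IsAV X ∧ InW ϖ X) (fun Z hZ => ⟨isAV_of_isZero hZ, inW_of_isZero hZ⟩) ⟨isAV_mk Aw, H.inW⟩
    (fun X Y hX hY => ⟨isAV_biprod hX.1 hY.1, inW_biprod hX.2 hY.2⟩) (M := M) inferInstance s j' hj' htf'
  exact ⟨B, isAV_of_epi e hX.1, inW_of_epi e hX.2, hM⟩

/-- Essential surjectivity. -/
theorem essSurj (M : Type w) [AddCommGroup M] [Module (EndAV.End Aw) M] [Module.Finite ℤ M] [Module.Free ℤ M] :
    ∃ B : Alg k, IsAV B ∧ InW ϖ B ∧ Nonempty (M ≃ₗ[EndAV.End Aw] EndAV.Hom B.obj.X Aw) := by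
  let _ : Module (End (K525.AVC.mk Aw)) M := Module.compHom M (endE Aw : End (K525.AVC.mk Aw) →+* EndAV.End Aw)
  obtain ⟨B, hB1, hB2, ⟨e⟩⟩ := essSurj' H hR M
  refine ⟨B, hB1, hB2, ⟨{ toFun := fun m => (e m).hom
                          invFun := fun f => e.symm (ObjectProperty.homMk f)
                          left_inv := fun m => e.left_inv m
                          right_inv := ?_
                          map_add' := fun m m' => by rw [map_add]; rfl
                          map_smul' := ?_ }⟩⟩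
  · intro s m
    have h1 : s • m = ((endE Aw).symm s) • m := by
      show s • m = (endE Aw ((endE Aw).symm s)) • m
      rw [RingEquiv.apply_symm_apply]
    rw [h1, map_smul]
    rfl
  · intro f
    show (e (e.symm (ObjectProperty.homMk f))).hom = f
    rw [LinearEquiv.apply_symm_apply]
    rfl

end K525.Res2
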