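import Groth.Agent.AbVar.K525.Res2
import Mathlib.AlgebraicGeometry.ZariskisMainTheorem

/-!
# Ranks, isogenies and closed immersions, conditional on the rank hypothesis
-/

set_option autoImplicit false

universe w u

open CategoryTheory MonoidalCategory CartesianMonoidalCategory MonObj GrpObj AlgebraicGeometry Limits MvPolynomial

namespace K525.Res3

open K525.AlgC K525.OrdC K525.AbsOrd K525.AbsD K525.AbsS K525.AVC K525.Unimod K525.Count K525.Setup K525.Rw K525.Conv
  K520.Frob K520.FrP K525.Hyp K525.Res1 K525.Res2 K525.AbsMore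

section

variable {k : Type u} [Field k]

theorem finite_fibers {G H K : Alg k} (i : K ⟶ G) (q : G ⟶ H) [Mono i] (hiq : i ≫ q = 0)
    (hk : ∀ {T : Over (Spec (CommRingCat.of k))} (x : T ⟶ G.obj.X), x ≫ und q = 1 → ∃ t : T ⟶ K.obj.X, t ≫ und i = x)
    (hK : Finite K.obj.X.left) : ∀ y, ((und q).left ⁻¹' {y}).Finite := by
  have hKf := (isFinite_iff K).2 hK
  have hpb := isPullback_left i q hiq hk
  have hpr := isPullback_prod G.obj.X K.obj.X
  have hff : IsFinite (fst G.obj.X K.obj.X).left := MorphismProperty.of_isPullback hpr.flip hKf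
  intro y
  rcases Set.eq_empty_or_nonempty ((und q).left ⁻¹' {y}) with h0 | ⟨g, hg⟩
  · rw [h0]; exact Set.finite_empty
  · have h1 := Scheme.Hom.finite_preimage_singleton (fst G.obj.X K.obj.X).left g
    refine (h1.image (act (und i)).left).subset ?_
    intro g' hg'
    have h2 : (und q).left g = (und q).left g' := by
      rw [Set.mem_preimage, Set.mem_singleton_iff] at hg hg'
      rw [hg, hg']
    obtain ⟨z, hz1, hz2⟩ := Scheme.Pullback.exists_preimage_pullback g g' h2
    refine ⟨hpb.isoPullback.inv z, ?_, ?_⟩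
    · rw [Set.mem_preimage, Set.mem_singleton_iff, ← Scheme.Hom.comp_apply, IsPullback.isoPullback_inv_fst, hz1]
    · rw [← Scheme.Hom.comp_apply, IsPullback.isoPullback_inv_snd, hz2]

theorem isFinite_of_ord_kernel {X Y : Alg k} (q : X ⟶ Y) (hX : IsAV X) (hK : ord (kernel q) ≠ 0) :
    IsFinite (und q).left := by
  have hK' := (ord_ne_zero_iff_finite _).1 hK
  have hfib := finite_fibers (kernel.ι q) q (kernel.condition q) (fun {T} x hx => by
    refine kernel_pts (kernel.ι q) q ?_ x hx
    intro T x hx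
    exact ⟨kernel.lift q x hx, kernel.lift_ι _ _ _⟩) hK'
  have hsep := isSeparated_hom Y
  have hprop := hX.1
  have hprop' : IsProper ((und q).left ≫ Y.obj.X.hom) := by rw [Over.w]; exact hprop
  have h1 : IsProper (und q).left := IsProper.of_comp _ Y.obj.X.hom
  have h2 : LocallyQuasiFinite (und q).left := LocallyQuasiFinite.of_finite_preimage_singleton _ hfib
  exact IsFinite.of_isProper_of_locallyQuasiFinite _

theorem isIntegral_left {X : Alg k} (hX : IsAV X) : IsIntegral X.obj.X.left := by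
  obtain ⟨h1, h2⟩ := hX
  exact GeometricallyIntegral.isIntegral_of_subsingleton X.obj.X.hom

theorem locallyOfFinitePresentation {X Y : Alg k} (f : X ⟶ Y) : LocallyOfFinitePresentation (und f).left := by
  have := X.property.1
  have := Y.property.1
  have : IsLocallyNoetherian (Spec (CommRingCat.of k)) := Groth.Agent.Sga3.H830.AlgGrpAb.isLocallyNoetherian_spec
  have : IsLocallyNoetherian Y.obj.X.left := LocallyOfFiniteType.isLocallyNoetherian Y.obj.X.hom
  have : LocallyOfFiniteType ((und f).left ≫ Y.obj.X.hom) := by rw [Over.w]; infer_instance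
  have : LocallyOfFiniteType (und f).left := locallyOfFiniteType_of_comp _ Y.obj.X.hom
  exact LocallyOfFinitePresentation.iff_locallyOfFiniteType.2 inferInstance

theorem epi_of_surjective {X Y : Alg k} (f : X ⟶ Y) (hY : IsAV Y) (hf : Surjective (und f).left) : Epi f := by
  obtain ⟨I, q, i, hq, hi, hci, hqi⟩ := exists_fac f
  have := isIntegral_left hY
  have h1 : (und q).left ≫ (und i).left = (und f).left := by rw [← hqi]; rfl
  have h2 : Surjective (und i).left := by
    rw [← h1] at hf
    exact Surjective.of_comp (und q).left (und i).left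
  have h3 : IsIso (und i).left := isIso_of_isClosedImmersion_of_surjective _
  have h4 : W f := by
    obtain ⟨a, b, c⟩ := hq
    refine ⟨?_, hf, locallyOfFinitePresentation f⟩
    rw [← h1]
    infer_instance
  exact epi_of_W f h4

theorem surjective_of_finite_flat {X Y : Alg k} (hY : IsAV Y) (f : X ⟶ Y) [IsFinite (und f).left]
    [Flat (und f).left] : Surjective (und f).left := by
  have := isIntegral_left hY
  have := locallyOfFinitePresentation f
  have h1 : IsOpen (Set.range (und f).left) := (und f).left.isOpenMap.isOpen_range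
  have h2 : IsClosed (Set.range (und f).left) := (und f).left.isClosedMap.isClosed_range
  have h3 : (Set.range (und f).left).Nonempty := ⟨_, ⟨(η[X.obj.X] : 𝟙_ _ ⟶ X.obj.X).left (pt k), rfl⟩⟩
  have h4 : Set.range (und f).left = Set.univ := IsClopen.eq_univ ⟨h2, h1⟩ h3
  exact ⟨Set.range_eq_univ.1 h4⟩

end

section

variable {k : Type u} [Field k]
    {Aw : Over (Spec (CommRingCat.of k))} [GrpObj Aw] [IsCommMonObj Aw] [IsProper Aw.hom]
    (A : Over (Spec (CommRingCat.of k))) [GrpObj A] [IsCommMonObj A] [IsProper A.hom]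
    (B : Over (Spec (CommRingCat.of k))) [GrpObj B] [IsCommMonObj B] [IsProper B.hom]

theorem leftComp_range (f : EndAV.Hom B A) :
    ((Preadditive.leftComp (K525.AVC.mk Aw) ((homE B A).symm f)).range).map (homE B Aw : _ →+ _) =
      (Preadditive.leftComp (CommGrp.mk Aw) f).range := by
  ext g
  constructor
  · rintro ⟨_, ⟨g', rfl⟩, rfl⟩
    exact ⟨homE A Aw g', rfl⟩
  · rintro ⟨g', rfl⟩
    exact ⟨_, ⟨(homE A Aw).symm g', rfl⟩, rfl⟩

/-- The comparison of cokernels. -/
noncomputable def cokerE (f : EndAV.Hom B A) :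
    ((K525.AVC.mk B ⟶ K525.AVC.mk Aw) ⧸ (Preadditive.leftComp (K525.AVC.mk Aw) ((homE B A).symm f)).range) ≃+
      (EndAV.Hom B Aw ⧸ (Preadditive.leftComp (CommGrp.mk Aw) f).range) :=
  QuotientAddGroup.congr _ _ (homE B Aw) (leftComp_range A B f)

theorem inj_iff (f : EndAV.Hom B A) : Function.Injective (Preadditive.leftComp (CommGrp.mk Aw) f) ↔
    Function.Injective (Preadditive.leftComp (K525.AVC.mk Aw) ((homE B A).symm f)) := by
  constructor
  · intro h a b hab
    exact (homE A Aw).injective (h (congrArg (homE B Aw) hab))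
  · intro h a b hab
    exact (homE A Aw).symm.injective (h (congrArg (homE B Aw).symm hab))

theorem surj_iff (f : EndAV.Hom B A) : Function.Surjective (Preadditive.leftComp (CommGrp.mk Aw) f) ↔
    Function.Surjective (Preadditive.leftComp (K525.AVC.mk Aw) ((homE B A).symm f)) := by
  constructor
  · intro h a
    obtain ⟨b, hb⟩ := h (homE B Aw a)
    exact ⟨(homE A Aw).symm b, congrArg (homE B Aw).symm hb⟩
  · intro h a
    obtain ⟨b, hb⟩ := h ((homE B Aw).symm a)
    exact ⟨homE A Aw b, congrArg (homE B Aw) hb⟩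

end

section

variable {p : ℕ} [Fact p.Prime] {k : Type u} [Field k] [Finite k]
    {J : Type} [Fintype J] {K : J → Type} [∀ j, Field (K j)] [∀ j, CharZero (K j)] {ϖ : ∀ j, K j}
    {Aw : Over (Spec (CommRingCat.of k))} [GrpObj Aw] [IsCommMonObj Aw] [IsProper Aw.hom] [GeometricallyIntegral Aw.hom]
    {ρw : (ev p J K ϖ).range ≃+* EndAV.End Aw} (H : HypW p k J K ϖ Aw ρw) (hR : RankW ϖ (K525.AVC.mk Aw))
include H hR

/-- The rank of `Hom(A, A_w)`. -/
theorem rank_eq {Y : Alg k} (hY : IsAV Y) (hW : InW ϖ Y) (g : ℕ) (hg : topologicalKrullDim Y.obj.X.left = g) :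
    Module.finrank ℤ (Y ⟶ K525.AVC.mk Aw) = 2 * g := by
  obtain ⟨h1, h2, h3⟩ := hR Y hY hW
  refine le_antisymm ?_ (h3 g hg)
  have h4 := pow_finrank_le (H.data hR).d1 (X := Y) 2 (epi_smul hY two_ne_zero) (ord_torsion_ne_zero hY two_ne_zero)
  rw [ord_torsion hY hg two_ne_zero] at h4
  exact (Nat.pow_le_pow_iff_right one_lt_two).1 h4

variable (A : Over (Spec (CommRingCat.of k))) [GrpObj A] [IsCommMonObj A] [IsProper A.hom] [GeometricallyIntegral A.hom]
  (hA : FrP k (∏ j, minpoly ℤ (ϖ j)) A)
include hA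

theorem rank_hom (g : ℕ) (hg : topologicalKrullDim A.left = g) :
    Module.Free ℤ (EndAV.Hom A Aw) ∧ Module.Finite ℤ (EndAV.Hom A Aw) ∧
      Module.finrank ℤ (EndAV.Hom A Aw) = 2 * g := by
  obtain ⟨h1, h2, h3⟩ := hR _ (isAV_mk A) (inW_mk A hA)
  let e : (K525.AVC.mk A ⟶ K525.AVC.mk Aw) ≃ₗ[ℤ] EndAV.Hom A Aw := (homE A Aw).toIntLinearEquiv
  refine ⟨Module.Free.of_equiv e, Module.Finite.equiv e, ?_⟩
  rw [← e.finrank_eq]
  exact rank_eq H hR (isAV_mk A) (inW_mk A hA) g hg

variable (B : Over (Spec (CommRingCat.of k))) [GrpObj B] [IsCommMonObj B] [IsProper B.hom] [GeometricallyIntegral B.hom]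
  (hB : FrP k (∏ j, minpoly ℤ (ϖ j)) B)
include hB

/-- The degree of an isogeny. -/
theorem isogeny (f : EndAV.Hom B A) [IsFinite f.toHom.left] [Flat f.toHom.left] (y : A.left) :
    Function.Injective (Preadditive.leftComp (CommGrp.mk Aw) f) ∧
      Nat.card (EndAV.Hom B Aw ⧸ (Preadditive.leftComp (CommGrp.mk Aw) f).range) = Scheme.Hom.finrank f.toHom.left y := by
  let f' : K525.AVC.mk B ⟶ K525.AVC.mk A := (homE B A).symm f
  have i1 : IsFinite (und f').left := ‹IsFinite f.toHom.left›
  have i2 : Flat (und f').left := ‹Flat f.toHom.left›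
  have h1 := surjective_of_finite_flat (isAV_mk A) f'
  have h2 := epi_of_surjective f' (isAV_mk A) h1
  refine ⟨(inj_iff A B f).2 (injective_of_epi f'), ?_⟩
  rw [← Nat.card_congr (cokerE A B f).toEquiv]
  obtain ⟨h3, h4⟩ := ord_kernel_eq f' y
  rw [card_coker (nice_mk H hR B hB) f' ((ord_ne_zero_iff _).2 h4)]
  exact h3

/-- Closed immersions. -/
theorem closedImm (f : EndAV.Hom B A) :
    Function.Surjective (Preadditive.leftComp (CommGrp.mk Aw) f) ↔ IsClosedImmersion f.toHom.left := by
  let f' : K525.AVC.mk B ⟶ K525.AVC.mk A := (homE B A).symm f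
  rw [surj_iff]
  constructor
  · intro h
    have := (nice_mk H hR B hB).mono_of_factors (H.data hR).isOrd K525.G0C.g0 f' h
    exact isClosedImmersion_of_mono f'
  · intro h
    have : IsClosedImmersion (und f').left := h
    have := mono_of_isClosedImmersion f'
    exact surj_of_mono (H.data hR).isOrd (nice_mk H hR A hA) f' (fun m hm => epi_smul (isAV_mk B) hm)
      (hR _ (isAV_mk B) (inW_mk B hB)).1

/-- Isogenies. -/
theorem isogeny_iff (f : EndAV.Hom B A) :
    (IsFinite f.toHom.left ∧ Surjective f.toHom.left) ↔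
      (Function.Injective (Preadditive.leftComp (CommGrp.mk Aw) f) ∧
        Finite (EndAV.Hom B Aw ⧸ (Preadditive.leftComp (CommGrp.mk Aw) f).range)) := by
  let f' : K525.AVC.mk B ⟶ K525.AVC.mk A := (homE B A).symm f
  rw [inj_iff, ← (cokerE A B f).toEquiv.finite_iff]
  have hBn := nice_mk H hR B hB
  constructor
  · rintro ⟨h1, h2⟩
    have i1 : IsFinite (und f').left := h1
    have h3 := epi_of_surjective f' (isAV_mk A) h2
    refine ⟨injective_of_epi f', ?_⟩
    have h4 := (ord_kernel_eq f' ((η[A] : 𝟙_ _ ⟶ A).left (pt k))).2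
    have h5 := card_coker hBn f' ((ord_ne_zero_iff _).2 h4)
    exact Nat.finite_of_card_ne_zero (by rw [h5]; exact (ord_ne_zero_iff _).2 h4)
  · rintro ⟨h1, h2⟩
    have hQ : Nice (ord (k := k)) (K525.AVC.mk Aw) (cokernel f') :=
      nice H hR (isAV_of_epi (cokernel.π f') (isAV_mk A)) (inW_of_epi (cokernel.π f') (inW_mk A hA))
    have h3 := epi_of_injective (H.data hR).isOrd K525.G0C.g0 f' hQ h1
    have h4 := ord_kernel_ne_zero (H.data hR).isOrd K525.G0C.g0 (H.data hR).niceA hBn
      (hR _ (isAV_mk B) (inW_mk B hB)).1 f' h2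
    exact ⟨isFinite_of_ord_kernel f' (isAV_mk B) h4, (W_of_epi f').2.1⟩

end

end K525.Res3
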