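import Groth.Agent.AbVar.K525.Res3

/-!
# Realisation of orders, conditional on the rank hypothesis
-/

set_option autoImplicit false

universe w u

open CategoryTheory MonoidalCategory CartesianMonoidalCategory MonObj GrpObj AlgebraicGeometry Limits MvPolynomial

namespace K525.Res4

open K525.AlgC K525.OrdC K525.AbsOrd K525.AbsD K525.AbsS K525.AVC K525.Unimod K525.Count K525.Setup K525.Rw K525.Conv
  K520.Frob K520.FrP K525.Hyp K525.Res1 K525.Res2 K525.AbsMore

variable {p : ℕ} [Fact p.Prime] {k : Type u} [Field k] [Finite k]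
    {J : Type} [Fintype J] {K : J → Type} [∀ j, Field (K j)] [∀ j, CharZero (K j)] {ϖ : ∀ j, K j}
    {Aw : Over (Spec (CommRingCat.of k))} [GrpObj Aw] [IsCommMonObj Aw] [IsProper Aw.hom] [GeometricallyIntegral Aw.hom]
    {ρw : (ev p J K ϖ).range ≃+* EndAV.End Aw} (H : HypW p k J K ϖ Aw ρw) (hR : RankW ϖ (K525.AVC.mk Aw))
include H hR

theorem order' {S : Type w} [CommRing S] [Module.Finite ℤ S] [Module.Free ℤ S] (θ : (ev p J K ϖ).range →+* S)
    (hS : ∀ h : S →+ S, (∀ r x, h (θ r * x) = θ r * h x) → ∀ x, h x = h 1 * x) :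
    ∃ (B : Alg k) (e : S ≃+ (B ⟶ K525.AVC.mk Aw)) (σ : S ≃+* End B), IsAV B ∧ InW ϖ B ∧
      (∀ (r : (ev p J K ϖ).range) (x : S), e (θ r * x) = e x ≫ ((endE Aw).symm (ρw r) : K525.AVC.mk Aw ⟶ K525.AVC.mk Aw)) ∧
      (∀ (s x : S), (σ s : B ⟶ B) ≫ e x = e (s * x)) ∧
      σ (θ ⟨ev p J K ϖ (X 0), AlgHom.mem_range_self _ _⟩) = (show End B from frC B) := by
  have hD := H.data hR
  let ρ' : (ev p J K ϖ).range ≃+* End (K525.AVC.mk Aw) := ρw.trans (endE Aw).symm
  let incl : End (K525.AVC.mk Aw) →+* S := θ.comp (ρ'.symm : End (K525.AVC.mk Aw) →+* (ev p J K ϖ).range)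
  let iM : Module (End (K525.AVC.mk Aw)) S := Module.compHom S incl
  have hsm : ∀ (s : End (K525.AVC.mk Aw)) (x : S), s • x = incl s * x := fun s x => rfl
  obtain ⟨B, hB1, hB2, ⟨e⟩⟩ := essSurj' H hR S
  have hBn := nice H hR hB1 hB2
  have hBf := (hR B hB1 hB2).1
  -- the action of `S` on `Hom(B, A_w)`
  let act : S → ((B ⟶ K525.AVC.mk Aw) →ₗ[End (K525.AVC.mk Aw)] (B ⟶ K525.AVC.mk Aw)) := fun s =>
    { toFun := fun φ => e (s * e.symm φ)
      map_add' := fun φ ψ => by rw [map_add, mul_add, map_add]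
      map_smul' := fun r φ => by
        rw [map_smul, hsm, RingHom.id_apply, ← map_smul, hsm]
        congr 1
        ring }
  have hex := fun s : S => K525.AbsFF.exists_hom_of_linear hD.isOrd K525.G0C.g0 hD.niceA hD.finA hBn hBf (act s)
  choose σ hσ using hex
  have hσ' : ∀ (s : S) (φ : B ⟶ K525.AVC.mk Aw), σ s ≫ φ = e (s * e.symm φ) := fun s φ => (hσ s φ).symm
  have hext : ∀ f g : B ⟶ B, (∀ φ : B ⟶ K525.AVC.mk Aw, f ≫ φ = g ≫ φ) → f = g :=
    fun f g => K525.AbsFF.hom_ext_of_nice hD.isOrd K525.G0C.g0 hD.niceA hBn hBf f g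
  let σh : S →+* End B :=
    { toFun := fun s => σ s
      map_one' := hext _ _ fun φ => by
        rw [hσ', _root_.one_mul, e.apply_symm_apply]
        exact (Category.id_comp φ).symm
      map_mul' := fun s t => hext _ _ fun φ => by
        show σ (s * t) ≫ φ = (σ t ≫ σ s) ≫ φ
        rw [Category.assoc, hσ', hσ', hσ', e.symm_apply_apply]
        congr 1
        ring
      map_zero' := hext _ _ fun φ => by
        rw [hσ', zero_mul, map_zero]
        exact zero_comp.symm
      map_add' := fun s t => hext _ _ fun φ => by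
        show σ (s + t) ≫ φ = (σ s + σ t) ≫ φ
        rw [Preadditive.add_comp, hσ', hσ', hσ', add_mul, map_add] }
  have hinj : Function.Injective σh := by
    intro s t hst
    have h1 : σ s ≫ e 1 = σ t ≫ e 1 := by
      show (σh s : B ⟶ B) ≫ e 1 = (σh t : B ⟶ B) ≫ e 1
      rw [hst]
    rw [hσ', hσ', e.symm_apply_apply, _root_.mul_one, _root_.mul_one] at h1
    exact e.injective h1
  have hsurj : Function.Surjective σh := by
    intro f
    -- the endomorphism of `S` induced by `f`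
    let h : S →+ S :=
      { toFun := fun s => e.symm (f ≫ e s)
        map_zero' := by rw [map_zero, comp_zero, map_zero]
        map_add' := fun s t => by rw [map_add, Preadditive.comp_add, map_add] }
    have hlin : ∀ (r : End (K525.AVC.mk Aw)) (x : S), h (incl r * x) = incl r * h x := by
      intro r x
      show e.symm (f ≫ e (incl r * x)) = incl r * e.symm (f ≫ e x)
      rw [← hsm, ← hsm, ← map_smul, map_smul e]
      congr 1
    have hlin' : ∀ (r : (ev p J K ϖ).range) (x : S), h (θ r * x) = θ r * h x := by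
      intro r x
      have h0 := hlin (ρ' r) x
      have h1 : incl (ρ' r) = θ r := congrArg θ (ρ'.symm_apply_apply r)
      rwa [h1] at h0
    refine ⟨h 1, ?_⟩
    apply hext
    intro φ
    obtain ⟨x, rfl⟩ := e.surjective φ
    show σ (h 1) ≫ e x = f ≫ e x
    rw [hσ', e.symm_apply_apply]
    have h2 : h x = h 1 * x := hS h hlin' x
    rw [← h2]
    show e (e.symm (f ≫ e x)) = _
    rw [e.apply_symm_apply]
  refine ⟨B, e.toAddEquiv, RingEquiv.ofBijective σh ⟨hinj, hsurj⟩, hB1, hB2, ?_, ?_, ?_⟩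
  · intro r x
    have h1 : incl (ρ' r) = θ r := congrArg θ (ρ'.symm_apply_apply r)
    show e (θ r * x) = _
    rw [← h1, ← hsm, map_smul]
    rfl
  · intro s x
    show σ s ≫ e x = e (s * x)
    rw [hσ', e.symm_apply_apply]
  apply hext
  intro φ
  show σ _ ≫ φ = frC B ≫ φ
  rw [hσ', frC_comm]
  have h5 : φ ≫ frC (K525.AVC.mk Aw) = (show End (K525.AVC.mk Aw) from frC (K525.AVC.mk Aw)) • φ := rfl
  rw [h5]
  have h6 : φ = e (e.symm φ) := (e.apply_symm_apply φ).symm
  conv_rhs => rw [h6]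
  rw [← map_smul, hsm]
  congr 2
  have h7 : ρ' ⟨ev p J K ϖ (X 0), AlgHom.mem_range_self _ _⟩ = (show End (K525.AVC.mk Aw) from frC (K525.AVC.mk Aw)) := by
    show (endE Aw).symm (ρw _) = _
    rw [H.hρ]
    rfl
  show _ = θ (ρ'.symm _)
  rw [← h7, RingEquiv.symm_apply_apply]

theorem order (S : Subalgebra ℤ ((j : J) → K j)) (hRS : (ev p J K ϖ).range ≤ S) [Module.Finite ℤ S]
    (hSQ : ∀ x ∈ S, ∃ n : ℤ, n ≠ 0 ∧ n • x ∈ (ev p J K ϖ).range) :
    ∃ (B : Alg k) (σ : S ≃+* End B), IsAV B ∧ InW ϖ B ∧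
      σ ⟨ev p J K ϖ (X 0), hRS (AlgHom.mem_range_self _ _)⟩ = (show End B from frC B) := by
  have htor : Module.IsTorsionFree ℤ S := by
    have : Module.IsTorsionFree ℤ ((i : J) → K i) := inferInstance
    exact Function.Injective.moduleIsTorsionFree (S.val) Subtype.val_injective (fun c x => rfl)
  have hfree : Module.Free ℤ S := inferInstance
  let θ : (ev p J K ϖ).range →+* S := ((Subalgebra.inclusion hRS : (ev p J K ϖ).range →ₐ[ℤ] S) : (ev p J K ϖ).range →+* S)
  obtain ⟨B, e, σ, h1, h2, -, -, h3⟩ := order' H hR θ (by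
    intro h hh x
    obtain ⟨n, hn, hx⟩ := hSQ x.1 x.2
    have h3 : n • x = θ ⟨_, hx⟩ * 1 := by
      rw [_root_.mul_one]
      rfl
    have h4 : n • h x = n • (h 1 * x) := by
      rw [← map_zsmul, h3, hh, _root_.mul_comm (h 1) x, ← smul_mul_assoc, h3, _root_.mul_one]
    exact smul_right_injective S hn h4)
  exact ⟨B, σ, h1, h2, h3⟩

end K525.Res4
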