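import Groth.Agent.AbVar.K525.Pts
import Groth.Prelude.Def_EndTate

/-!
# The Tate module, conditional on the rank hypothesis
-/

set_option autoImplicit false

universe w u

open CategoryTheory MonoidalCategory CartesianMonoidalCategory MonObj GrpObj AlgebraicGeometry Limits MvPolynomial

namespace K525.Res5

open K525.AlgC K525.OrdC K525.AbsOrd K525.AbsD K525.AbsS K525.AVC K525.Unimod K525.Count K525.Setup K525.Rw K525.Conv
  K520.Frob K520.FrP K525.Hyp K525.Res1 K525.Res2 K525.AbsMore K525.Pts AbDual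

variable {p : ℕ} [Fact p.Prime] {k : Type u} [Field k] [Finite k]
    {J : Type} [Fintype J] {K : J → Type} [∀ j, Field (K j)] [∀ j, CharZero (K j)] {ϖ : ∀ j, K j}
    {Aw : Over (Spec (CommRingCat.of k))} [GrpObj Aw] [IsCommMonObj Aw] [IsProper Aw.hom] [GeometricallyIntegral Aw.hom]
    {ρw : (ev p J K ϖ).range ≃+* EndAV.End Aw} (H : HypW p k J K ϖ Aw ρw) (hR : RankW ϖ (K525.AVC.mk Aw))
include H hR

variable (A : Over (Spec (CommRingCat.of k))) [GrpObj A] [IsCommMonObj A] [IsProper A.hom] [GeometricallyIntegral A.hom]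
  (hA : FrP k (∏ j, minpoly ℤ (ϖ j)) A) (l : ℕ) [Fact l.Prime] (T : Over (Spec (CommRingCat.of k)))
include hA

theorem tate :
    (∀ x y : AbDual.TateMod A l T,
        (∀ φ : EndAV.Hom A Aw, EndAV.Hom.tateMap l T φ x = EndAV.Hom.tateMap l T φ y) → x = y) ∧
      (∀ g : EndAV.Hom A Aw →+ AbDual.TateMod Aw l T,
        (∀ (φ : EndAV.Hom A Aw) (s : EndAV.End Aw), g (φ ≫ s) = EndAV.End.tateRep l T s (g φ)) →
          ∃ x : AbDual.TateMod A l T, ∀ φ : EndAV.Hom A Aw, g φ = EndAV.Hom.tateMap l T φ x) := by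
  have hD := H.data hR
  have hAn := nice_mk H hR A hA
  have hAf := (hR _ (isAV_mk A) (inW_mk A hA)).1
  have hext : ∀ (x y : T ⟶ A), (∀ φ : EndAV.Hom A Aw, x ≫ φ.toHom = y ≫ φ.toHom) → x = y := fun x y hxy =>
    pts_ext (Y := K525.AVC.mk A) hD.isOrd hD.niceA hAn hAf x y (fun φ => hxy (homE A Aw φ))
  constructor
  · intro x y hxy
    refine TateMod.ext fun n => ?_
    have h1 := hext ((x : ℕ → Additive (T ⟶ A)) n).toMul ((y : ℕ → Additive (T ⟶ A)) n).toMul (fun φ => by
      have h2 := congrArg (fun z : TateMod Aw l T => ((z : ℕ → Additive (T ⟶ Aw)) n).toMul) (hxy φ)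
      exact h2)
    exact h1
  · intro g hg
    have key : ∀ n : ℕ, ∃ t : T ⟶ A, ∀ φ : EndAV.Hom A Aw,
        (g φ : ℕ → Additive (T ⟶ Aw)) n = Additive.ofMul (t ≫ φ.toHom) := by
      intro n
      obtain ⟨t, ht⟩ := pts_exists (Y := K525.AVC.mk A) (T := T) hD.isOrd hD.niceA hD.finA hAn hAf
        (((TateMod.component Aw l T n).comp g).comp (homE A Aw : (K525.AVC.mk A ⟶ K525.AVC.mk Aw) →+ _)) (by
          intro φ s
          have h1 := hg (homE A Aw φ) (homE Aw Aw s)
          exact congrArg (TateMod.component Aw l T n) h1)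
      exact ⟨t, fun φ => ht ((homE A Aw).symm φ)⟩
    choose t ht using key
    have hadd : ∀ (m : ℕ) (x : T ⟶ A) (φ : EndAV.Hom A Aw), (x ^ m) ≫ φ.toHom = (x ≫ φ.toHom) ^ m := by
      intro m x φ
      exact congrArg Additive.toMul (nsmul_comp φ.toHom m (Additive.ofMul x))
    refine ⟨⟨fun n => Additive.ofMul (t n), ?_, ?_⟩, ?_⟩
    · intro n
      have : (t n) ^ (l ^ n) = 1 := by
        apply hext
        intro φ
        rw [hadd, MonObj.one_comp]
        have h2 := (g φ).torsion n
        rw [ht n φ] at h2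
        exact h2
      exact this
    · intro n
      have : (t (n + 1)) ^ l = t n := by
        apply hext
        intro φ
        rw [hadd]
        have h2 := (g φ).compat n
        rw [ht n φ, ht (n + 1) φ] at h2
        exact h2
      exact this
    · intro φ
      refine TateMod.ext fun n => ?_
      exact ht n φ

end K525.Res5
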