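import Groth.Agent.AbVar.K525.Pts
import Groth.Agent.AbVar.K525.Cyc
import Groth.Agent.AbVar.K525.PtCard
import Groth.Agent.AbVar.K515.TateRank
import Groth.Prelude.Def_EndTate

/-!
# Freeness of the Tate module over the endomorphism ring
-/

set_option autoImplicit false

universe w u

open CategoryTheory MonoidalCategory CartesianMonoidalCategory MonObj GrpObj AlgebraicGeometry Limits

namespace K525.Res7

open K525.AlgC K525.OrdC K525.AbsOrd K525.AbsD K525.AbsS K525.AVC K525.Unimod K525.Count K525.Setup K525.Conv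
  K525.AbsK K525.Pts AbDual

attribute [local instance] Abelian.hasFiniteBiproducts

variable {k : Type u} [Field k] [Finite k]

section

variable {A : Alg k} {R : Type w} [CommRing R] {p : ℕ} {ρ : R ≃+* End A} (H : Data p ρ)
include H

theorem gorAt {ℓ : ℕ} (hℓ : ℓ.Prime) : GorAt A R (ord (k := k)) ℓ := by
  have := H.fin
  have := H.free
  obtain ⟨l, hl⟩ := H.unim
  have : Fact ℓ.Prime := ⟨hℓ⟩
  obtain ⟨g, hg⟩ := exists_dim A
  exact
    { ne := ord_torsion_ne_zero H.av hℓ.ne_zero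
      card := by
        rw [ord_torsion H.av hg hℓ.ne_zero, card_ideal]
        exact Nat.pow_le_pow_right hℓ.pos (H.rank g hg)
      fin := finite_ideal R ℓ hℓ.ne_zero
      epi := epi_smul H.av hℓ.ne_zero
      frob := fun I I' hI' _ hann => hl.frob ℓ I I' hI' hann }

theorem noeth : IsNoetherianRing R := by
  have := H.fin
  exact isNoetherian_of_isNoetherianRing_of_finite ℤ R |> fun h => isNoetherian_of_tower ℤ h

/-- The number of geometric points killed by an ideal. -/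
theorem card_pts_ideal {ℓ : ℕ} (hℓ : ℓ.Prime) (I : Ideal R) (hI : (ℓ : R) ∈ I) (Ω : Type u) [Field Ω] [Algebra k Ω] :
    Finite {x : SGA7.Pts Ω A.obj.X // ∀ r ∈ I, x ≫ und (act ρ r) = 1} ∧
      Nat.card {x : SGA7.Pts Ω A.obj.X // ∀ r ∈ I, x ≫ und (act ρ r) = 1} ≤ Nat.card (R ⧸ I) := by
  have hg := gorAt H hℓ
  have hn := noeth H
  have hFG : I.FG := IsNoetherian.noetherian I
  obtain ⟨K, κ, hκ⟩ := exists_isKer ρ I hFG
  obtain ⟨h1, h2⟩ := ord_isKer_le ρ H.isOrd ℓ hg.ne hg.card hg.fin hg.epi hg.frob I hI κ hκ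
  have hfin := (ord_ne_zero_iff K).1 h1
  obtain ⟨h3, h4⟩ := K525.PtCard.card_pts_le K hfin Ω
  have hm := hκ.mono
  obtain ⟨n, f, hf⟩ := Submodule.fg_iff_exists_fin_generating_family.1 hFG
  have hpts : ∀ x : {x : SGA7.Pts Ω A.obj.X // ∀ r ∈ I, x ≫ und (act ρ r) = 1}, ∃ t : SGA7.Pts Ω K.obj.X, t ≫ und κ = x.1 := by
    rintro ⟨x, hx⟩
    refine kernel_pts κ (biproduct.lift (fun i => act ρ (f i))) ?_ x ?_
    · intro T y hy
      refine hκ.lift y ?_
      have hy' : ∀ i, y ≫ act ρ (f i) = 0 := by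
        intro i
        have : act ρ (f i) = biproduct.lift (fun i => act ρ (f i)) ≫ biproduct.π (fun _ => A) i := by
          rw [biproduct.lift_π]
        rw [this, ← Category.assoc, hy, zero_comp]
      intro r hr
      rw [← hf] at hr
      induction hr using Submodule.span_induction with
      | mem r h =>
        obtain ⟨i, rfl⟩ := h
        exact hy' i
      | zero => rw [act_zero, comp_zero]
      | add r s _ _ h1 h2 => rw [act_add, Preadditive.comp_add, h1, h2, add_zero]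
      | smul c r _ h1 =>
        show y ≫ act ρ (c * r) = 0
        rw [act_mul, ← Category.assoc, h1, zero_comp]
    · have h5 : mp (biproduct.lift (fun i => act ρ (f i))) (Additive.ofMul x) = 0 := by
        rw [biproduct.lift_eq, mp_sum]
        refine Finset.sum_eq_zero fun i _ => ?_
        rw [mp_comp]
        have h6 : mp (act ρ (f i)) (Additive.ofMul x) = 0 := hx (f i) (hf ▸ Submodule.subset_span ⟨i, rfl⟩)
        rw [h6, map_zero]
      exact h5
  choose t ht using hpts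
  have hinj : Function.Injective t := by
    intro x y hxy
    apply Subtype.ext
    rw [← ht x, ← ht y, hxy]
  exact ⟨Finite.of_injective t hinj, (Nat.card_le_card_of_injective t hinj).trans (h4.trans h2)⟩

end

/-- Abstract form of the cyclicity of the `ℓ`-torsion. -/
theorem exists_gen {R : Type w} [CommRing R] [Module.Finite ℤ R] [Module.Free ℤ R] {l : R →+ ℤ} (hl : Unimodular l)
    {M : Type u} [AddCommGroup M] [Module R M] (ℓ : ℕ) [hℓ : Fact ℓ.Prime] (hfin : Finite {x : M // ℓ • x = 0})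
    (hcard : ℓ ^ Module.finrank ℤ R ≤ Nat.card {x : M // ℓ • x = 0})
    (hm : ∀ m : Ideal R, m.IsMaximal → (ℓ : R) ∈ m → Nat.card {x : M // ∀ r ∈ m, r • x = 0} ≤ Nat.card (R ⧸ m)) :
    ∃ v : M, ℓ • v = 0 ∧ ∀ w : M, ℓ • w = 0 → ∃ r : R, w = r • v := by
  let V : Submodule R M :=
    { carrier := {x | ℓ • x = 0}
      zero_mem' := smul_zero _
      add_mem' := fun {x y} hx hy => by
        show ℓ • (x + y) = 0
        rw [smul_add, show ℓ • x = 0 from hx, show ℓ • y = 0 from hy, add_zero]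
      smul_mem' := fun r x hx => by
        show ℓ • (r • x) = 0
        rw [smul_comm, show ℓ • x = 0 from hx, smul_zero] }
  have hVfin : Finite V := hfin
  have hm' : ∀ m : Ideal R, m.IsMaximal → (ℓ : R) ∈ m →
      Nat.card {v : V // ∀ r ∈ m, r • v = 0} ≤ Nat.card (R ⧸ m) := by
    intro m hmm hℓm
    let F : {v : V // ∀ r ∈ m, r • v = 0} → {x : M // ∀ r ∈ m, r • x = 0} :=
      fun x => ⟨x.1.1, fun r hr => congrArg Subtype.val (x.2 r hr)⟩
    have hF : Function.Injective F := by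
      intro x y hxy
      have h1 : x.1.1 = y.1.1 := congrArg (fun z : {x : M // ∀ r ∈ m, r • x = 0} => z.1) hxy
      exact Subtype.ext (Subtype.ext h1)
    have hfin' : Finite {x : M // ∀ r ∈ m, r • x = 0} :=
      Finite.of_injective (β := {x : M // ℓ • x = 0}) (fun x => ⟨x.1, by
        have := x.2 _ hℓm
        rwa [Nat.cast_smul_eq_nsmul] at this⟩) (fun x y hxy => Subtype.ext (congrArg (fun z => z.1) hxy))
    exact (Nat.card_le_card_of_injective F hF).trans (hm m hmm hℓm)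
  obtain ⟨v, hv⟩ := K525.Cyc.cyclic ℓ (V := V) (fun x => Subtype.ext x.2) hm' hl (by
    rw [card_ideal]
    exact hcard) (finite_ideal R ℓ hℓ.out.ne_zero)
  refine ⟨v.1, v.2, fun w hw => ?_⟩
  obtain ⟨r, hr⟩ := hv ⟨w, hw⟩
  exact ⟨r, congrArg Subtype.val hr⟩

omit [Finite k] in
open K515.Bc in
theorem card_tors (A : Over (Spec (CommRingCat.of k))) [GrpObj A] [IsCommMonObj A] [IsProper A.hom]
    [GeometricallyIntegral A.hom] (Ω : Type u) [Field Ω] [Algebra k Ω] [IsAlgClosed Ω] (ℓ : ℕ) [Fact ℓ.Prime]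
    (hℓk : (ℓ : k) ≠ 0) (g : ℕ) (hg : topologicalKrullDim A.left = g) :
    Nat.card {x : SGA7.Pts Ω A // x ^ ℓ = 1} = ℓ ^ (2 * g) := by
  have hlΩ : (ℓ : Ω) ≠ 0 := fun h0 => hℓk ((algebraMap k Ω).injective (by
    rw [map_natCast, map_zero, h0]))
  rw [← Groth.Agent.Sga7.H761.BaseChg.card_torsion_bc Ω A ℓ]
  exact K515.Geo.card_torsion (A := bc Ω A) g ((dim_bc Ω A).trans hg) ℓ hlΩ

section

variable (A : Over (Spec (CommRingCat.of k))) [GrpObj A] [IsCommMonObj A] [IsProper A.hom] [GeometricallyIntegral A.hom]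
  {R : Type w} [CommRing R] {p : ℕ} {ρ : R ≃+* EndAV.End A} (H : Data p (ρ.trans (endE A).symm))
  (Ω : Type u) [Field Ω] [Algebra k Ω] [IsAlgClosed Ω] (ℓ : ℕ) [hℓ : Fact ℓ.Prime] (hℓk : (ℓ : k) ≠ 0)
include H hℓk

/-- The `ℓ`-torsion points are cyclic over the endomorphism ring. -/
theorem exists_gen_pts (g : ℕ) (hg : topologicalKrullDim A.left = g) (hgR : Module.finrank ℤ R = 2 * g) :
    ∃ v : SGA7.Pts Ω A, v ^ ℓ = 1 ∧ ∀ w : SGA7.Pts Ω A, w ^ ℓ = 1 → ∃ r : R, w = v ≫ (ρ r).toHom := by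
  have := H.fin
  have := H.free
  obtain ⟨l, hl⟩ := H.unim
  have h5 := card_tors A Ω ℓ hℓk g hg
  let iR : Module R (Additive (SGA7.Pts Ω A)) :=
    Module.compHom _ ((EndAV.End.ptsRep (SGA7.pt Ω)).comp (ρ : R →+* EndAV.End A))
  have h6 : Nat.card {x : Additive (SGA7.Pts Ω A) // ℓ • x = 0} = ℓ ^ (2 * g) := h5
  obtain ⟨v, hv1, hv2⟩ := exists_gen (R := R) hl (M := Additive (SGA7.Pts Ω A)) ℓ
    (Nat.finite_of_card_ne_zero (by rw [h6]; exact pow_ne_zero _ hℓ.out.ne_zero)) (by rw [h6, hgR]) (by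
      intro m hm hℓm
      exact (card_pts_ideal H hℓ.out m hℓm Ω).2)
  exact ⟨v.toMul, hv1, fun w hw => hv2 (Additive.ofMul w) hw⟩

/-- **The Tate module is free of rank one over the endomorphism ring.** -/
theorem tate_free (g : ℕ) (hg : topologicalKrullDim A.left = g) (hgR : Module.finrank ℤ R = 2 * g) :
    ∃ x : TateMod A ℓ (SGA7.pt Ω), ∀ (n : ℕ) (b : Module.Basis (Fin n) ℤ (EndAV.End A)),
      LinearIndependent ℤ_[ℓ] (fun i => EndAV.End.tateRep ℓ (SGA7.pt Ω) (b i) x) ∧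
        Submodule.span ℤ_[ℓ] (Set.range fun i => EndAV.End.tateRep ℓ (SGA7.pt Ω) (b i) x) = ⊤ := by
  obtain ⟨v, hv1, hv2⟩ := exists_gen_pts A H Ω ℓ hℓk g hg hgR
  obtain ⟨x, hx⟩ := K519.Tate.exists_apply_eq (l := ℓ) (A := A) (T := SGA7.pt Ω)
    (fun y => Groth.Agent.Sga7.H734.Divis.exists_pow_eq A ℓ hℓk y) 1 v (by rw [pow_one]; exact hv1)
  have hfin := K515.TateRank.finite Ω A ℓ hℓk
  have hfree := K515.TateRank.free Ω A ℓ hℓk
  have hrk := K515.TateRank.finrank_eq Ω A ℓ hℓk g hg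
  refine ⟨x, fun n b => ?_⟩
  set S := Submodule.span ℤ_[ℓ] (Set.range fun i => EndAV.End.tateRep ℓ (SGA7.pt Ω) (b i) x) with hS
  -- the span is everything
  have hmem : ∀ e : EndAV.End A, EndAV.End.tateRep ℓ (SGA7.pt Ω) e x ∈ S := by
    intro e
    have h1 : e = ∑ i, b.repr e i • b i := (b.sum_repr e).symm
    rw [h1, map_sum, LinearMap.sum_apply]
    refine Submodule.sum_mem _ fun i _ => ?_
    rw [map_zsmul, LinearMap.smul_apply, ← Int.cast_smul_eq_zsmul ℤ_[ℓ]]
    exact S.smul_mem _ (Submodule.subset_span ⟨i, rfl⟩)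
  have htop : ⊤ ≤ S := by
    apply Submodule.le_of_le_smul_of_le_jacobson_bot (I := IsLocalRing.maximalIdeal ℤ_[ℓ]) hfin.fg_top
    · rw [IsLocalRing.jacobson_eq_maximalIdeal _ bot_ne_top]
    · intro y _
      have h1 : ((y : ℕ → Additive (SGA7.pt Ω ⟶ A)) 1).toMul ^ ℓ = 1 := by
        have := y.torsion 1
        rw [pow_one] at this
        exact this
      obtain ⟨r, hr⟩ := hv2 _ h1
      have h2 : (((y - EndAV.End.tateRep ℓ (SGA7.pt Ω) (ρ r) x : TateMod A ℓ (SGA7.pt Ω)) :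
          ℕ → Additive (SGA7.pt Ω ⟶ A)) 1) = 0 := by
        rw [K519.Tate.sub_apply, sub_eq_zero]
        have h3 : ((EndAV.End.tateRep ℓ (SGA7.pt Ω) (ρ r) x : TateMod A ℓ (SGA7.pt Ω)) :
          ℕ → Additive (SGA7.pt Ω ⟶ A)) 1 = Additive.ofMul (((x : ℕ → Additive (SGA7.pt Ω ⟶ A)) 1).toMul ≫ (ρ r).toHom) := rfl
        rw [h3, hx]
        exact congrArg Additive.ofMul hr
      obtain ⟨z, hz⟩ := (K520.TateFin.exists_eq_pow_smul _ 1 h2)
      have h4 : y = EndAV.End.tateRep ℓ (SGA7.pt Ω) (ρ r) x + (ℓ : ℤ_[ℓ]) • z := by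
        rw [K519.Tate.natCast_smul, ← sub_eq_iff_eq_add', ← hz, pow_one]
      rw [h4]
      refine Submodule.add_mem_sup (hmem _) (Submodule.smul_mem_smul ?_ trivial)
      rw [PadicInt.maximalIdeal_eq_span_p]
      exact Ideal.mem_span_singleton_self _
  have hn : n = 2 * g := by
    have := H.fin
    have := H.free
    have e : R ≃ₗ[ℤ] EndAV.End A := (ρ : R ≃+ EndAV.End A).toIntLinearEquiv
    have h1 := Module.finrank_eq_card_basis b
    rw [Fintype.card_fin, ← e.finrank_eq, hgR] at h1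
    exact h1.symm
  refine ⟨linearIndependent_of_top_le_span_of_card_eq_finrank htop (by rw [Fintype.card_fin, hrk, hn]), top_le_iff.1 htop⟩

end

end K525.Res7
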