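import Mathlib.LinearAlgebra.FreeModule.PID
import Mathlib.LinearAlgebra.Dimension.StrongRankCondition
import Mathlib.LinearAlgebra.FreeModule.StrongRankCondition
import Mathlib.LinearAlgebra.Dimension.Free
import Mathlib.LinearAlgebra.Dual.Lemmas
import Mathlib.RingTheory.Ideal.Quotient.Basic
import Mathlib.Algebra.Field.ZMod
import Mathlib.LinearAlgebra.FiniteDimensional.Defs
import Mathlib.Tactic

/-!
# A unimodular functional on `ℤ[F, V]/(FV - p, h)`
-/

set_option autoImplicit false

open Finset

namespace K525.Unimod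

/-- A functional `l` such that `(x, y) ↦ l (x y)` is unimodular. -/
def Unimodular {R : Type*} [CommRing R] (l : R →+ ℤ) : Prop :=
  ∀ (n : ℤ) (x : R), (∀ y, n ∣ l (x * y)) → ∃ z, x = n • z

theorem triang (n : ℤ) (D : ℕ) (a : ℕ → ℤ) (μ : ℕ → ℤ) (h0 : ∀ j, 1 ≤ j → j < D → μ j = 0) (h1 : IsUnit (μ D))
    (h : ∀ k < D, n ∣ ∑ i ∈ range D, a i * μ (i + 1 + k)) : ∀ i < D, n ∣ a i := by
  suffices H : ∀ k < D, n ∣ a (D - 1 - k) by
    intro i hi
    have := H (D - 1 - i) (by omega)
    rwa [show D - 1 - (D - 1 - i) = i by omega] at this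
  intro k
  induction k using Nat.strong_induction_on with
  | _ k ih =>
    intro hk
    have h2 := h k hk
    rw [← Finset.add_sum_erase (range D) _ (mem_range.2 (show D - 1 - k < D by omega))] at h2
    have h3 : n ∣ ∑ i ∈ (range D).erase (D - 1 - k), a i * μ (i + 1 + k) := by
      refine Finset.dvd_sum fun i hi => ?_
      rw [mem_erase, mem_range] at hi
      by_cases hlt : i + 1 + k < D
      · rw [h0 _ (by omega) hlt, mul_zero]; exact dvd_zero _
      · have := ih (D - 1 - i) (by omega) (by omega)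
        rw [show D - 1 - (D - 1 - i) = i by omega] at this
        exact this.mul_right _
    have h4 := (dvd_add_left h3).1 h2
    rw [show D - 1 - k + 1 + k = D by omega] at h4
    exact (IsUnit.dvd_mul_right h1).1 h4

section

variable {R : Type*} [CommRing R] (D : ℕ) (F V : R) (p : ℤ) (hFV : F * V = (p : R)) (c : ℕ → ℤ) (hc : c D = 1)
  (hrel : ∑ i ∈ range (D + 1), (c i : R) * F ^ i + ∑ i ∈ range D, (c (i + 1) : R) * V ^ (i + 1) = 0)
  (hgen : ∀ N : AddSubgroup R, 1 ∈ N → (∀ x ∈ N, F * x ∈ N) → (∀ x ∈ N, V * x ∈ N) → N = ⊤)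

include hFV in
theorem V_pow_mul_F_pow (i j : ℕ) (h : i ≤ j) : V ^ i * F ^ j = (p : R) ^ i * F ^ (j - i) := by
  have : F ^ j = F ^ i * F ^ (j - i) := by rw [← pow_add]; congr 1; omega
  rw [this, ← mul_assoc, ← mul_pow, mul_comm V F, hFV]

include hFV in
theorem V_pow_mul_F_pow' (i j : ℕ) (h : j ≤ i) : V ^ i * F ^ j = (p : R) ^ j * V ^ (i - j) := by
  have : V ^ i = V ^ (i - j) * V ^ j := by rw [← pow_add]; congr 1; omega
  rw [this, mul_assoc, ← mul_pow, mul_comm V F, hFV, mul_comm]

include hFV hc hrel hgen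

theorem span_top (hD : 0 < D) : ∀ x : R, ∃ a b : ℕ → ℤ, x = ∑ i ∈ range D, (a i : R) * F ^ (i + 1) + ∑ i ∈ range D, (b i : R) * V ^ i := by
  let N : AddSubgroup R :=
    { carrier := {x | ∃ a b : ℕ → ℤ, x = ∑ i ∈ range D, (a i : R) * F ^ (i + 1) + ∑ i ∈ range D, (b i : R) * V ^ i}
      zero_mem' := ⟨fun _ => 0, fun _ => 0, by simp⟩
      add_mem' := by
        rintro x y ⟨a, b, rfl⟩ ⟨a', b', rfl⟩
        refine ⟨fun i => a i + a' i, fun i => b i + b' i, ?_⟩
        simp only [Int.cast_add, add_mul, sum_add_distrib]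
        ring
      neg_mem' := by
        rintro x ⟨a, b, rfl⟩
        refine ⟨fun i => - a i, fun i => - b i, ?_⟩
        simp only [Int.cast_neg, neg_mul, sum_neg_distrib]
        ring }
  have hF : ∀ i, i < D → F ^ (i + 1) ∈ N := by
    intro i hi
    refine ⟨fun j => if j = i then 1 else 0, fun _ => 0, ?_⟩
    rw [Finset.sum_eq_single i]
    · simp
    · intro j _ hj; simp [hj]
    · intro h; exact absurd (mem_range.2 hi) h
  have hV : ∀ i, i < D → V ^ i ∈ N := by
    intro i hi
    refine ⟨fun _ => 0, fun j => if j = i then 1 else 0, ?_⟩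
    rw [add_comm, Finset.sum_eq_single i]
    · simp
    · intro j _ hj; simp [hj]
    · intro h; exact absurd (mem_range.2 hi) h
  have hcast : ∀ (m : ℤ) (x : R), x ∈ N → (m : R) * x ∈ N := by
    intro m x hx
    rw [← zsmul_eq_mul]
    exact N.zsmul_mem hx m
  have h1 : (1 : R) ∈ N := by simpa using hV 0 hD
  have hFall : ∀ i, i ≤ D → F ^ i ∈ N := by
    intro i hi
    rcases Nat.eq_zero_or_pos i with rfl | hpos
    · simpa using h1
    · obtain ⟨j, rfl⟩ : ∃ j, i = j + 1 := ⟨i - 1, by omega⟩
      exact hF j (by omega)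
  -- `V ^ D`
  have hVD : V ^ D ∈ N := by
    obtain ⟨E, rfl⟩ : ∃ E, D = E + 1 := ⟨D - 1, by omega⟩
    rw [sum_range_succ (fun i => (c (i + 1) : R) * V ^ (i + 1)), hc, Int.cast_one, one_mul] at hrel
    have : V ^ (E + 1) = - (∑ i ∈ range (E + 1 + 1), (c i : R) * F ^ i + ∑ i ∈ range E, (c (i + 1) : R) * V ^ (i + 1)) := by
      linear_combination hrel
    rw [this]
    refine N.neg_mem (N.add_mem (N.sum_mem fun i hi => hcast _ _ (hFall i ?_)) (N.sum_mem fun i hi => hcast _ _ (hV _ ?_)))
    · rw [mem_range] at hi; omega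
    · rw [mem_range] at hi; omega
  have hVall : ∀ i, i ≤ D → V ^ i ∈ N := by
    intro i hi
    rcases Nat.lt_or_ge i D with h | h
    · exact hV i h
    · obtain rfl : i = D := le_antisymm hi h
      exact hVD
  -- `F ^ (D + 1)`
  have hFD1 : F ^ (D + 1) ∈ N := by
    have h2 := congrArg (F * ·) hrel
    simp only [mul_zero] at h2
    rw [sum_range_succ, hc, Int.cast_one, one_mul, mul_add, mul_add, Finset.mul_sum, Finset.mul_sum] at h2
    have e1 : ∑ i ∈ range D, F * ((c i : R) * F ^ i) = ∑ i ∈ range D, (c i : R) * F ^ (i + 1) :=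
      sum_congr rfl fun i _ => by ring
    have e2 : ∑ i ∈ range D, F * ((c (i + 1) : R) * V ^ (i + 1)) = ∑ i ∈ range D, ((c (i + 1) * p : ℤ) : R) * V ^ i :=
      sum_congr rfl fun i _ => by
        push_cast
        rw [← hFV]; ring
    rw [e1, e2] at h2
    have : F ^ (D + 1) = - (∑ i ∈ range D, (c i : R) * F ^ (i + 1) + ∑ i ∈ range D, ((c (i + 1) * p : ℤ) : R) * V ^ i) := by
      linear_combination h2
    rw [this]
    refine N.neg_mem (N.add_mem (N.sum_mem fun i hi => hcast _ _ (hF i ?_)) (N.sum_mem fun i hi => hcast _ _ (hV _ ?_)))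
    · rw [mem_range] at hi; omega
    · rw [mem_range] at hi; omega
  have hNtop : N = ⊤ := by
    apply hgen N h1
    · rintro x ⟨a, b, rfl⟩
      rw [mul_add, Finset.mul_sum, Finset.mul_sum]
      refine N.add_mem (N.sum_mem fun i hi => ?_) (N.sum_mem fun i hi => ?_)
      · rw [mem_range] at hi
        have : F * ((a i : R) * F ^ (i + 1)) = (a i : R) * F ^ (i + 1 + 1) := by ring
        rw [this]
        apply hcast
        rcases Nat.lt_or_ge (i + 1) D with h | h
        · exact hF _ h
        · obtain h' : i + 1 = D := by omega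
          rw [h']; exact hFD1
      · rw [mem_range] at hi
        rcases Nat.eq_zero_or_pos i with rfl | hpos
        · have : F * ((b 0 : R) * V ^ 0) = (b 0 : R) * F ^ (0 + 1) := by ring
          rw [this]
          exact hcast _ _ (hF 0 hD)
        · obtain ⟨j, rfl⟩ : ∃ j, i = j + 1 := ⟨i - 1, by omega⟩
          have : F * ((b (j + 1) : R) * V ^ (j + 1)) = (b (j + 1) : R) * ((p : R) * V ^ j) := by
            rw [← hFV]; ring
          rw [this]
          exact hcast _ _ (hcast _ _ (hV j (by omega)))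
    · rintro x ⟨a, b, rfl⟩
      rw [mul_add, Finset.mul_sum, Finset.mul_sum]
      refine N.add_mem (N.sum_mem fun i hi => ?_) (N.sum_mem fun i hi => ?_)
      · rw [mem_range] at hi
        have : V * ((a i : R) * F ^ (i + 1)) = (a i : R) * ((p : R) * F ^ i) := by
          rw [← hFV]; ring
        rw [this]
        exact hcast _ _ (hcast _ _ (hFall i hi.le))
      · rw [mem_range] at hi
        have : V * ((b i : R) * V ^ i) = (b i : R) * V ^ (i + 1) := by ring
        rw [this]
        exact hcast _ _ (hVall (i + 1) (by omega))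
  intro x
  have : x ∈ N := by rw [hNtop]; trivial
  exact this

theorem exists_unimodular [Module.Finite ℤ R] [Module.Free ℤ R] (hrank : Module.finrank ℤ R = 2 * D) :
    ∃ l : R →+ ℤ, Unimodular l := by
  classical
  rcases Nat.eq_zero_or_pos D with rfl | hD
  · have hs : Subsingleton R := by
      rw [mul_zero] at hrank
      exact Module.finrank_zero_iff.1 hrank
    exact ⟨0, fun n x _ => ⟨0, Subsingleton.elim _ _⟩⟩
  · -- the basis
    let b : Fin D ⊕ Fin D → R := Sum.elim (fun i => F ^ ((i : ℕ) + 1)) (fun i => V ^ (i : ℕ))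
    have hspan : ⊤ ≤ Submodule.span ℤ (Set.range b) := by
      intro x _
      obtain ⟨α, β, rfl⟩ := span_top D F V p hFV c hc hrel hgen hD x
      refine Submodule.add_mem _ (Submodule.sum_mem _ fun i hi => ?_) (Submodule.sum_mem _ fun i hi => ?_)
      · rw [← zsmul_eq_mul]
        exact Submodule.smul_mem _ _ (Submodule.subset_span ⟨Sum.inl ⟨i, mem_range.1 hi⟩, rfl⟩)
      · rw [← zsmul_eq_mul]
        exact Submodule.smul_mem _ _ (Submodule.subset_span ⟨Sum.inr ⟨i, mem_range.1 hi⟩, rfl⟩)
    have hcard : Fintype.card (Fin D ⊕ Fin D) = Module.finrank ℤ R := by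
      rw [hrank, Fintype.card_sum, Fintype.card_fin]; ring
    have hli : LinearIndependent ℤ b := by
      -- a surjection between free modules of the same finite rank is injective
      let T : ((Fin D ⊕ Fin D) → ℤ) →ₗ[ℤ] R := Fintype.linearCombination ℤ b
      have hT : Function.Surjective T := by
        rw [← LinearMap.range_eq_top, Fintype.range_linearCombination]
        exact top_le_iff.1 hspan
      have e : R ≃ₗ[ℤ] ((Fin D ⊕ Fin D) → ℤ) := by
        refine LinearEquiv.ofFinrankEq _ _ ?_
        rw [← hcard, Module.finrank_fintype_fun_eq_card]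
      have hinj : Function.Injective (e.toLinearMap ∘ₗ T) :=
        OrzechProperty.injective_of_surjective_endomorphism _ (e.surjective.comp hT)
      have hinj' : Function.Injective T := fun x y hxy => hinj (by
        show e (T x) = e (T y)
        rw [hxy])
      rw [Fintype.linearIndependent_iff]
      intro g hg
      have : T g = T 0 := by rw [map_zero]; exact hg
      exact congrFun (hinj' this)
    let B : Module.Basis (Fin D ⊕ Fin D) ℤ R := Module.Basis.mk hli hspan
    have hB : ∀ i, B i = b i := fun i => Module.Basis.mk_apply hli hspan i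
    let l : R →ₗ[ℤ] ℤ := B.coord (Sum.inl ⟨D - 1, by omega⟩)
    have lF : ∀ j, 1 ≤ j → j < D → l (F ^ j) = 0 := by
      intro j h1 h2
      have : F ^ j = B (Sum.inl ⟨j - 1, by omega⟩) := by
        rw [hB]
        show F ^ j = F ^ (j - 1 + 1)
        congr 1; omega
      rw [this, Module.Basis.coord_apply, Module.Basis.repr_self, Finsupp.single_apply, if_neg]
      intro h
      have := Fin.mk.inj (Sum.inl.inj h)
      omega
    have lFD : l (F ^ D) = 1 := by
      have : F ^ D = B (Sum.inl ⟨D - 1, by omega⟩) := by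
        rw [hB]
        show F ^ D = F ^ (D - 1 + 1)
        congr 1; omega
      rw [this, Module.Basis.coord_apply, Module.Basis.repr_self, Finsupp.single_apply, if_pos rfl]
    have lV : ∀ j, j < D → l (V ^ j) = 0 := by
      intro j h2
      have : V ^ j = B (Sum.inr ⟨j, h2⟩) := by
        rw [hB]; rfl
      rw [this, Module.Basis.coord_apply, Module.Basis.repr_self, Finsupp.single_apply, if_neg]
      intro h
      exact absurd h (by simp)
    have lcast : ∀ (m : ℤ) (x : R), l ((m : R) * x) = m * l x := by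
      intro m x
      rw [← zsmul_eq_mul, map_smul, smul_eq_mul]
    have lFall : ∀ j, j < D → l (F ^ j) = 0 := by
      intro j h2
      rcases Nat.eq_zero_or_pos j with rfl | hpos
      · have := lV 0 hD
        simpa using this
      · exact lF j hpos h2
    have lVD : l (V ^ D) = -1 := by
      obtain ⟨E, rfl⟩ : ∃ E, D = E + 1 := ⟨D - 1, by omega⟩
      rw [sum_range_succ (fun i => (c (i + 1) : R) * V ^ (i + 1)), sum_range_succ, hc, Int.cast_one, one_mul] at hrel
      have : V ^ (E + 1) = - (∑ i ∈ range (E + 1), (c i : R) * F ^ i + F ^ (E + 1) +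
          ∑ i ∈ range E, (c (i + 1) : R) * V ^ (i + 1)) := by
        linear_combination hrel
      rw [this, map_neg, map_add, map_add, map_sum, map_sum, lFD, Finset.sum_eq_zero, Finset.sum_eq_zero]
      · ring
      · intro i hi
        rw [mem_range] at hi
        rw [lcast, lV _ (by omega), mul_zero]
      · intro i hi
        rw [mem_range] at hi
        rw [lcast, lFall _ hi, mul_zero]
    refine ⟨l.toAddMonoidHom, ?_⟩
    intro n x hx
    replace hx : ∀ y, n ∣ l (x * y) := hx
    obtain ⟨α, β, rfl⟩ := span_top D F V p hFV c hc hrel hgen hD x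
    -- step 1
    have hα : ∀ i < D, n ∣ α i := by
      refine triang n D α (fun j => l (F ^ j)) (fun j h1 h2 => lF j h1 h2) (by
        show IsUnit (l (F ^ D))
        rw [lFD]; exact isUnit_one) ?_
      intro k hk
      have := hx (F ^ k)
      rw [add_mul, map_add, Finset.sum_mul, Finset.sum_mul, map_sum, map_sum] at this
      have e1 : ∑ i ∈ range D, l ((α i : R) * F ^ (i + 1) * F ^ k) = ∑ i ∈ range D, α i * l (F ^ (i + 1 + k)) :=
        sum_congr rfl fun i _ => by
          rw [mul_assoc, ← pow_add, lcast]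
      have e2 : ∑ i ∈ range D, l ((β i : R) * V ^ i * F ^ k) = 0 := by
        refine sum_eq_zero fun i hi => ?_
        rw [mem_range] at hi
        rw [mul_assoc, lcast]
        rcases Nat.le_or_le i k with h | h
        · rw [V_pow_mul_F_pow F V p hFV i k h, ← Int.cast_pow, lcast, lFall _ (by omega), mul_zero, mul_zero]
        · rw [V_pow_mul_F_pow' F V p hFV i k h, ← Int.cast_pow, lcast, lV _ (by omega), mul_zero, mul_zero]
      rw [e1, e2, add_zero] at this
      exact this
    choose! α' hα' using hα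
    have hx1 : ∀ y, n ∣ l ((∑ i ∈ range D, (β i : R) * V ^ i) * y) := by
      intro y
      have h1 := hx y
      have h2 : (∑ i ∈ range D, (α i : R) * F ^ (i + 1)) = (n : R) * ∑ i ∈ range D, (α' i : R) * F ^ (i + 1) := by
        rw [Finset.mul_sum]
        refine sum_congr rfl fun i hi => ?_
        rw [hα' i (mem_range.1 hi)]
        push_cast; ring
      rw [add_mul, map_add, h2, mul_assoc, lcast] at h1
      exact (dvd_add_right (dvd_mul_right n _)).1 h1
    -- step 2 : `β 0`
    have hβ0 : n ∣ β 0 := by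
      have := hx1 (F ^ D)
      rw [Finset.sum_mul, map_sum, Finset.sum_eq_single 0] at this
      · rw [pow_zero, mul_one, lcast, lFD, mul_one] at this
        exact this
      · intro i hi hi0
        rw [mem_range] at hi
        rw [mul_assoc, lcast, V_pow_mul_F_pow F V p hFV i D hi.le, ← Int.cast_pow, lcast, lFall _ (by omega), mul_zero,
          mul_zero]
      · intro h
        exact absurd (mem_range.2 hD) h
    -- step 3
    have hβ1 : ∀ i < D - 1, n ∣ β (i + 1) := by
      by_cases hD1 : D = 1
      · subst hD1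
        intro i hi
        omega
      refine triang n (D - 1) (fun i => β (i + 1)) (fun j => l (V ^ (j + 1))) (fun j h1 h2 => lV _ (by omega)) ?_ ?_
      · show IsUnit (l (V ^ (D - 1 + 1)))
        rw [show D - 1 + 1 = D by omega, lVD]
        exact isUnit_one.neg
      · intro k hk
        have := hx1 (V ^ (k + 1))
        obtain ⟨E, rfl⟩ : ∃ E, D = E + 1 := ⟨D - 1, by omega⟩
        rw [sum_range_succ' (fun i => (β i : R) * V ^ i), add_mul, Finset.sum_mul, map_add, map_sum] at this
        have e0 : l ((β 0 : R) * V ^ 0 * V ^ (k + 1)) = β 0 * l (V ^ (k + 1)) := by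
          rw [pow_zero, mul_one, lcast]
        rw [e0] at this
        have h3 := (dvd_add_left (hβ0.mul_right _)).1 this
        refine h3.trans (dvd_of_eq ?_)
        simp only [Nat.add_sub_cancel]
        refine sum_congr rfl fun i _ => ?_
        rw [mul_assoc, ← pow_add, lcast]
        congr 3
    have hβ : ∀ i < D, n ∣ β i := by
      intro i hi
      rcases Nat.eq_zero_or_pos i with rfl | hpos
      · exact hβ0
      · obtain ⟨j, rfl⟩ : ∃ j, i = j + 1 := ⟨i - 1, by omega⟩
        exact hβ1 j (by omega)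
    choose! β' hβ' using hβ
    refine ⟨∑ i ∈ range D, (α' i : R) * F ^ (i + 1) + ∑ i ∈ range D, (β' i : R) * V ^ i, ?_⟩
    rw [zsmul_eq_mul, mul_add, Finset.mul_sum, Finset.mul_sum]
    congr 1
    · refine sum_congr rfl fun i hi => ?_
      rw [hα' i (mem_range.1 hi)]
      push_cast; ring
    · refine sum_congr rfl fun i hi => ?_
      rw [hβ' i (mem_range.1 hi)]
      push_cast; ring

end

section Conseq

/-- Characters of a vector space. -/
theorem exists_char' {k W : Type*} [Field k] [AddCommGroup W] [Module k W] (w : W)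
    (hw : w ≠ 0) : ∃ g : W →+ k, g w ≠ 0 := by
  by_contra hcon
  push Not at hcon
  exact hw ((Module.forall_dual_apply_eq_zero_iff k w).1 fun φ => hcon φ.toAddMonoidHom)

/-- Characters of an elementary abelian group. -/
theorem exists_char {W : Type*} [AddCommGroup W] (n : ℕ) [Fact n.Prime] (hW : ∀ w : W, (n : ℕ) • w = 0) (w : W)
    (hw : w ≠ 0) : ∃ g : W →+ ZMod n, g w ≠ 0 :=
  @exists_char' (ZMod n) W _ _ (AddCommGroup.zmodModule hW) w hw

variable {R : Type*} [CommRing R] [Module.Finite ℤ R] [Module.Free ℤ R] {l : R →+ ℤ} (hl : Unimodular l)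
include hl

/-- The functional represents every functional. -/
theorem Unimodular.exists_rep (g : R →+ ℤ) : ∃ r : R, ∀ x, g x = l (r * x) := by
  -- the map `R → Hom(R, ℤ)`
  let Φ : R →ₗ[ℤ] (R →ₗ[ℤ] ℤ) :=
    { toFun := fun r => (l.comp (AddMonoidHom.mulLeft r)).toIntLinearMap
      map_add' := fun r s => by
        ext x
        show l ((r + s) * x) = l (r * x) + l (s * x)
        rw [add_mul, map_add]
      map_smul' := fun n r => by
        ext x
        show l ((n • r) * x) = n • l (r * x)
        rw [smul_mul_assoc, map_zsmul] }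
  have hΦ : ∀ r x, Φ r x = l (r * x) := fun r x => rfl
  have hinj : Function.Injective Φ := by
    rw [← LinearMap.ker_eq_bot, LinearMap.ker_eq_bot']
    intro r hr
    obtain ⟨z, hz⟩ := hl 0 r (fun y => by
      rw [← hΦ, hr]
      exact dvd_refl _)
    rw [hz, zero_smul]
  have hrk : Module.finrank ℤ (LinearMap.range Φ) = Module.finrank ℤ (R →ₗ[ℤ] ℤ) := by
    rw [LinearMap.finrank_range_of_inj hinj]
    have := Module.finrank_linearMap ℤ ℤ R ℤ
    rw [this, Module.finrank_self, mul_one]
  have htors : Module.finrank ℤ ((R →ₗ[ℤ] ℤ) ⧸ LinearMap.range Φ) = 0 := by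
    have := Submodule.finrank_quotient_add_finrank (LinearMap.range Φ)
    omega
  rw [Module.finrank_eq_zero_iff] at htors
  obtain ⟨n, hn, hng⟩ := htors (Submodule.Quotient.mk g.toIntLinearMap)
  rw [← Submodule.Quotient.mk_smul, Submodule.Quotient.mk_eq_zero] at hng
  obtain ⟨r, hr⟩ := hng
  have hr' : ∀ x, l (r * x) = n * g x := fun x => by
    rw [← hΦ, hr]; rfl
  obtain ⟨z, rfl⟩ := hl n r (fun y => ⟨g y, hr' y⟩)
  refine ⟨z, fun x => ?_⟩
  have h1 := hr' x
  rw [smul_mul_assoc, map_zsmul, smul_eq_mul] at h1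
  exact (mul_left_cancel₀ hn h1).symm

/-- The Gorenstein property modulo a prime number. -/
theorem Unimodular.frob (n : ℕ) [Fact n.Prime] (I I' : Ideal R) (hI' : (n : R) ∈ I')
    (hann : ∀ r : R, (∀ x ∈ I', r * x ∈ Ideal.span {(n : R)}) → ∀ x ∈ I, r * x ∈ Ideal.span {(n : R)}) : I ≤ I' := by
  classical
  intro y hy
  by_contra hy'
  -- a functional on `R / I'`
  let W := R ⧸ I'
  have hW : ∀ w : W, (n : ℕ) • w = 0 := by
    intro w
    obtain ⟨r, rfl⟩ := Ideal.Quotient.mk_surjective w
    rw [← map_nsmul, nsmul_eq_mul, Ideal.Quotient.eq_zero_iff_mem]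
    exact I'.mul_mem_right _ hI'
  have hne : (Ideal.Quotient.mk I' y : W) ≠ 0 := fun h0 => hy' (Ideal.Quotient.eq_zero_iff_mem.1 h0)
  obtain ⟨g, hg⟩ := exists_char n hW _ hne
  let g1 : R →ₗ[ℤ] ZMod n := (g.comp (Ideal.Quotient.mk I' : R →+* W).toAddMonoidHom).toIntLinearMap
  have hg1 : ∀ x, g1 x = g (Ideal.Quotient.mk I' x) := fun _ => rfl
  have hcs : Function.Surjective (Int.castAddHom (ZMod n)).toIntLinearMap := ZMod.intCast_surjective
  obtain ⟨g2, hg2⟩ := Module.projective_lifting_property (Int.castAddHom (ZMod n)).toIntLinearMap g1 hcs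
  have hg2' : ∀ x, ((g2 x : ℤ) : ZMod n) = g (Ideal.Quotient.mk I' x) := fun x => by
    rw [← hg1, ← hg2]; rfl
  obtain ⟨r, hr⟩ := hl.exists_rep g2.toAddMonoidHom
  have hr' : ∀ x, g2 x = l (r * x) := hr
  have hI1 : ∀ x ∈ I', r * x ∈ Ideal.span {(n : R)} := by
    intro x hx
    obtain ⟨z, hz⟩ := hl n (r * x) (fun y' => by
      rw [mul_assoc, ← hr', ← ZMod.intCast_zmod_eq_zero_iff_dvd, hg2',
        Ideal.Quotient.eq_zero_iff_mem.2 (I'.mul_mem_right _ hx), map_zero])
    rw [hz, Ideal.mem_span_singleton]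
    exact ⟨z, by rw [zsmul_eq_mul]; push_cast; rfl⟩
  obtain ⟨z, hz⟩ := Ideal.mem_span_singleton.1 (hann r hI1 y hy)
  apply hg
  rw [← hg2', hr', hz, ← nsmul_eq_mul, map_nsmul]
  simp

/-- Embedding of a `ℤ`-free module into a power of `R`, with torsion-free cokernel. -/
theorem Unimodular.exists_embedding {M : Type*} [AddCommGroup M] [Module R M] [Module.Finite ℤ M] [Module.Free ℤ M] :
    ∃ (s : ℕ) (j : M →ₗ[R] (Fin s → R)), Function.Injective j ∧
      ∀ (n : ℤ) (x : Fin s → R), n ≠ 0 → (∃ m, j m = n • x) → ∃ m, j m = x := by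
  -- lifting of functionals
  have key : ∀ f : M →+ ℤ, ∃ g : M →ₗ[R] R, ∀ m, l (g m) = f m := by
    intro f
    choose g hg using fun m : M => hl.exists_rep
      ((f.comp ((smulAddHom R M).flip m)) : R →+ ℤ)
    have hg' : ∀ m x, f (x • m) = l (g m * x) := hg
    have huniq : ∀ a b : R, (∀ x, l (a * x) = l (b * x)) → a = b := by
      intro a b hab
      obtain ⟨z, hz⟩ := hl 0 (a - b) (fun y => by
        rw [sub_mul, map_sub, hab, sub_self])
      rw [zero_smul] at hz
      exact sub_eq_zero.1 hz
    refine ⟨{ toFun := g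
              map_add' := ?_
              map_smul' := ?_ }, ?_⟩
    · intro m m'
      apply huniq
      intro x
      rw [← hg', smul_add, map_add, add_mul, map_add, hg', hg']
    · intro r m
      apply huniq
      intro x
      rw [← hg', smul_smul, RingHom.id_apply, smul_eq_mul, mul_comm r, mul_assoc, ← hg', mul_comm x r]
    · intro m
      show l (g m) = f m
      have := hg' m 1
      rw [one_smul, mul_one] at this
      exact this.symm
  let B := Module.Free.chooseBasis ℤ M
  have hfin : Finite (Module.Free.ChooseBasisIndex ℤ M) := inferInstance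
  obtain ⟨s, ⟨e⟩⟩ := Finite.exists_equiv_fin (Module.Free.ChooseBasisIndex ℤ M)
  let B' := B.reindex e
  choose g hg using fun i : Fin s => key (B'.coord i).toAddMonoidHom
  have hg' : ∀ i m, l (g i m) = B'.coord i m := hg
  refine ⟨s, LinearMap.pi g, ?_, ?_⟩
  · intro m m' h
    apply B'.ext_elem
    intro i
    have := congrArg l (congrFun h i)
    exact (hg' i m).symm.trans (this.trans (hg' i m'))
  · rintro n x hn ⟨m, hm⟩
    have hdiv : ∀ i, ∃ c, B'.coord i m = n * c := by
      intro i
      refine ⟨l (x i), ?_⟩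
      rw [← hg', show g i m = n • x i from congrFun hm i, map_zsmul, smul_eq_mul]
    choose c hc using hdiv
    have hm' : m = n • ∑ i, c i • B' i := by
      rw [Finset.smul_sum]
      conv_lhs => rw [← B'.sum_repr m]
      refine Finset.sum_congr rfl fun i _ => ?_
      rw [smul_smul, ← hc]; rfl
    refine ⟨∑ i, c i • B' i, ?_⟩
    have h1 : n • (LinearMap.pi g (∑ i, c i • B' i)) = n • x := by
      rw [← map_zsmul, ← hm', hm]
    have htf : Module.IsTorsionFree ℤ (Fin s → R) := inferInstance
    exact smul_right_injective _ hn h1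

end Conseq

end K525.Unimod
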