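import Groth.Agent.WeilNum.K944.Order
import Groth.Agent.AbVar.K525.Unimod

/-!
# The minimal central order `R_w` carries a unimodular functional
-/

set_option autoImplicit false

open MvPolynomial Finset

namespace K525.Rw

open K944.WeilNum.Ker K944.WeilNum.Sym K944.WeilNum.Basic K944.WeilNum.Order K525.Unimod

universe u

section

variable {p : ℕ} {J : Type} [Fintype J] {K : J → Type u} [∀ j, Field (K j)] [∀ j, CharZero (K j)] {ϖ : ∀ j, K j}
  {f : R →ₐ[ℤ] ((j : J) → K j)}

theorem nonreal_prod (hint : ∀ j, IsIntegral ℤ (ϖ j))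
    (hnr : ∀ j, ∀ z ∈ (minpoly ℤ (ϖ j)).aroots ℂ, z.im ≠ 0) :
    ∀ z ∈ (∏ j, minpoly ℤ (ϖ j)).aroots ℂ, z.im ≠ 0 := by
  intro z hz
  rw [Polynomial.mem_aroots, map_prod, Finset.prod_eq_zero_iff] at hz
  obtain ⟨-, j, -, hj⟩ := hz
  exact hnr j z (Polynomial.mem_aroots.2 ⟨(minpoly.monic (hint j)).ne_zero, hj⟩)

variable (H : Fam p ϖ f) (hnr : ∀ j, ∀ z ∈ (minpoly ℤ (ϖ j)).aroots ℂ, z.im ≠ 0)
include H hnr

theorem even_natDegree : Even (∏ j, minpoly ℤ (ϖ j)).natDegree :=
  (of_nonreal H.hq H.weilP (nonreal_prod H.int hnr)).1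

theorem exists_unimodular : ∃ l : f.range →+ ℤ, Unimodular l := by
  have hW := H.weilP
  obtain ⟨heven, -, hr⟩ := of_nonreal H.hq hW (nonreal_prod H.int hnr)
  set P := ∏ j, minpoly ℤ (ϖ j) with hP
  obtain ⟨D, hD⟩ := heven
  have hD2 : P.natDegree = 2 * D := by omega
  have hdd : P.natDegree / 2 = D := by omega
  rw [hdd] at hr
  let h : R := (∑ r ∈ Finset.range (D + 1), C (P.coeff (D + r)) * X 0 ^ r) +
    ∑ r ∈ Finset.range D, C (P.coeff (D + (r + 1))) * X 1 ^ (r + 1)
  have hmk : Ideal.Quotient.mk (I₀ p) h = h0 p P D 1 := by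
    have hC : ∀ a : ℤ, Ideal.Quotient.mk (I₀ p) (C a) = (a : A p) := by
      intro a
      rw [show (C a : R) = (a : R) from eq_intCast C a, map_intCast]
    rw [h0, Int.cast_one, one_mul]
    simp only [h, map_add, map_sum, map_mul, map_pow, hC]
  have hG : Good p P D (Ideal.Quotient.mk (I₀ p) h) := by
    refine ⟨hW, hD2, ?_⟩
    rw [hmk]
    exact F_pow_mul_h0 P D hD2 1 (fun r hr' => by rw [one_mul]; exact hr r hr')
  have hker := ker_eq H.hq H.int H.weil H.inj D h hG f H.f0 H.f1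
  have hh0 : f h = 0 := by
    have : h ∈ RingHom.ker f := by
      rw [hker]; exact Ideal.subset_span (by simp)
    exact this
  have hXX : f (X 0 * X 1) = ((p : ℤ) : (j : J) → K j) := by
    have : X 0 * X 1 - C (p : ℤ) ∈ RingHom.ker f := by
      rw [hker]; exact Ideal.subset_span (by simp)
    rw [RingHom.mem_ker, map_sub, sub_eq_zero] at this
    rw [this, show (C (p : ℤ) : R) = ((p : ℤ) : R) from eq_intCast C _, map_intCast]
  let F' : f.range := ⟨f (X 0), AlgHom.mem_range_self _ _⟩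
  let V' : f.range := ⟨f (X 1), AlgHom.mem_range_self _ _⟩
  have hFV : F' * V' = ((p : ℤ) : f.range) := by
    apply Subtype.ext
    show f (X 0) * f (X 1) = _
    rw [← map_mul, hXX]
    simp
  have hrel : ∑ i ∈ range (D + 1), ((P.coeff (D + i) : ℤ) : f.range) * F' ^ i +
      ∑ i ∈ range D, ((P.coeff (D + (i + 1)) : ℤ) : f.range) * V' ^ (i + 1) = 0 := by
    apply Subtype.ext
    have e : (((∑ i ∈ range (D + 1), ((P.coeff (D + i) : ℤ) : f.range) * F' ^ i +
      ∑ i ∈ range D, ((P.coeff (D + (i + 1)) : ℤ) : f.range) * V' ^ (i + 1) : f.range)) : (j : J) → K j) = f h := by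
      have hC : ∀ a : ℤ, f (C a) = (a : (j : J) → K j) := by
        intro a
        rw [show (C a : R) = (a : R) from eq_intCast C a, map_intCast]
      simp only [h, map_add, map_sum, map_mul, map_pow, hC]
      push_cast
      rfl
    rw [e, hh0]
    rfl
  have := H.finite
  have := H.free
  refine K525.Unimod.exists_unimodular D F' V' (p : ℤ) hFV (fun i => P.coeff (D + i)) ?_ hrel ?_ ?_
  · show P.coeff (D + D) = 1
    rw [← two_mul, ← hD2, Polynomial.coeff_natDegree, hW.1.leadingCoeff]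
  · intro N h1 hF hV
    rw [eq_top_iff]
    rintro ⟨x, g, rfl⟩ -
    show (⟨f g, _⟩ : f.range) ∈ N
    have : ∀ (g : R), (f.rangeRestrict g) ∈ N := by
      intro g
      induction g using MvPolynomial.induction_on with
      | C a =>
        have : f.rangeRestrict (C a) = a • (1 : f.range) := by
          rw [show (C a : R) = (a : R) from eq_intCast C a, map_intCast, zsmul_eq_mul, mul_one]
        rw [this]
        exact N.zsmul_mem h1 a
      | add g g' hg hg' => rw [map_add]; exact N.add_mem hg hg'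
      | mul_X g i hg =>
        rw [map_mul, mul_comm]
        fin_cases i
        · exact hF _ hg
        · exact hV _ hg
    exact this g
  · rw [H.finrank, ← hP, hD2]

end

/-! ### the concrete family -/

section Concrete

variable (p : ℕ) [Fact p.Prime] (J : Type) [Fintype J] (K : J → Type) [∀ j, Field (K j)] [∀ j, CharZero (K j)]
    (ϖ : ∀ j, K j)

/-- The evaluation map defining `R_w`. -/
noncomputable abbrev ev : MvPolynomial (Fin 2) ℤ →ₐ[ℤ] ((j : J) → K j) :=
  MvPolynomial.aeval ![fun j => ϖ j, fun j => (p : K j) / ϖ j]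

theorem fam (hint : ∀ j, IsIntegral ℤ (ϖ j))
    (hweil : ∀ j, ∀ z ∈ (minpoly ℤ (ϖ j)).aroots ℂ, ‖z‖ = Real.sqrt p)
    (hinj : ∀ i j, minpoly ℤ (ϖ i) = minpoly ℤ (ϖ j) → i = j) : Fam p ϖ (ev p J K ϖ) := by
  have hq : 0 < p := (Fact.out : p.Prime).pos
  refine ⟨hq, hint, hweil, hinj, ?_, ?_⟩
  · rw [MvPolynomial.aeval_X]; rfl
  · intro j
    have h0 := ne_zero_of_weil hq hint hweil j
    rw [MvPolynomial.aeval_X]
    show ϖ j * ((p : K j) / ϖ j) = p
    rw [mul_div_cancel₀ _ h0]

end Concrete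

end K525.Rw
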