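import Groth.Agent.AbVar.K525.AVC
import Groth.Agent.AbVar.K525.G0C
import Groth.Agent.AbVar.K525.Count
import Groth.Agent.AbVar.K525.Rw

/-!
# Duality with respect to `A_w`: the set-up
-/

set_option autoImplicit false

universe w u

open CategoryTheory MonoidalCategory CartesianMonoidalCategory MonObj GrpObj AlgebraicGeometry Limits

namespace K525.Setup

open K525.AlgC K525.OrdC K525.AbsOrd K525.AbsD K525.AbsS K525.AVC K525.Unimod K525.Count

variable {k : Type u} [Field k] [Finite k] {A : Alg k} {R : Type w} [CommRing R]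

omit [Finite k] in
theorem smul_inj {X Y : Alg k} (hX : IsAV X) {m : ℕ} (hm : m ≠ 0) (f : X ⟶ Y) (hf : m • f = 0) : f = 0 := by
  have := epi_smul hX hm
  rw [← cancel_epi (m • 𝟙 X), smul_id_comp, hf, comp_zero]

/-- The hypotheses on `A_w`. -/
structure Data (p : ℕ) (ρ : R ≃+* End A) : Prop where
  prime : p.Prime
  hk : Nat.card k = p
  av : IsAV A
  fin : Module.Finite ℤ R
  free : Module.Free ℤ R
  unim : ∃ l : R →+ ℤ, Unimodular l
  fv : ∃ F V : R, ρ F = frC A ∧ F * V = (Nat.card k : R) ∧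
    ∀ N : AddSubgroup R, 1 ∈ N → (∀ x ∈ N, F * x ∈ N) → (∀ x ∈ N, V * x ∈ N) → N = ⊤
  rank : ∀ g : ℕ, topologicalKrullDim A.obj.X.left = g → 2 * g ≤ Module.finrank ℤ R

variable {p : ℕ} {ρ : R ≃+* End A} (H : Data p ρ)
include H

namespace Data

theorem isOrd : IsOrd (ord (k := k)) := by
  have : Fact p.Prime := ⟨H.prime⟩
  exact K525.ModC.isOrd p H.hk

theorem d1 : D1 (ord (k := k)) A := by
  have := H.fin
  have := H.free
  obtain ⟨l, hl⟩ := H.unim
  obtain ⟨F, V, hF, hFV, hgen⟩ := H.fv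
  have hnoeth : IsNoetherianRing R := isNoetherian_of_isNoetherianRing_of_finite ℤ R |> fun h =>
    isNoetherian_of_tower ℤ h
  refine K525.AbsS.d1 ρ H.isOrd (stable2 H.av ρ F V hF hFV hgen) ?_
  intro ℓ hℓ
  have : Fact ℓ.Prime := ⟨hℓ⟩
  obtain ⟨g, hg⟩ := exists_dim A
  exact
    { ne := ord_torsion_ne_zero H.av hℓ.ne_zero
      card := by
        rw [ord_torsion H.av hg hℓ.ne_zero, card_ideal]
        exact Nat.pow_le_pow_right hℓ.pos (H.rank g hg)
      fin := finite_ideal R ℓ hℓ.ne_zero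
      epi := epi_smul H.av hℓ.ne_zero
      frob := fun I I' hI' _ hann => hl.frob ℓ I I' hI' hann }

/-- Abelian varieties with many homomorphisms to `A_w` are nice. -/
theorem nice_of_rank {Y : Alg k} (hY : IsAV Y) (h1 : Module.Finite ℤ (Y ⟶ A)) (h2 : Module.Free ℤ (Y ⟶ A))
    (h3 : ∀ g : ℕ, topologicalKrullDim Y.obj.X.left = g → 2 * g ≤ Module.finrank ℤ (Y ⟶ A)) :
    Nice (ord (k := k)) A Y := by
  refine Nice.mk' H.isOrd H.d1 (fun m hm => epi_smul hY hm) (fun m hm => ord_torsion_ne_zero hY hm) ?_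
  intro m hm
  obtain ⟨g, hg⟩ := exists_dim Y
  rw [ord_torsion hY hg hm, card_quot]
  exact Nat.pow_le_pow_right (Nat.pos_of_ne_zero hm) (h3 g hg)

theorem niceA : Nice (ord (k := k)) A A := by
  have := H.fin
  have := H.free
  have e : R ≃ₗ[ℤ] (A ⟶ A) := (ρ : R ≃+ End A).toIntLinearEquiv
  refine H.nice_of_rank H.av (Module.Finite.equiv e) (Module.Free.of_equiv e) ?_
  intro g hg
  rw [← e.finrank_eq]
  exact H.rank g hg

theorem finA : Module.Finite ℤ (A ⟶ A) := by
  have := H.fin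
  have e : R ≃ₗ[ℤ] (A ⟶ A) := (ρ : R ≃+ End A).toIntLinearEquiv
  exact Module.Finite.equiv e

end Data

end K525.Setup
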