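import Groth.Agent.AbVar.K520.FrP

/-!
# Conversion lemmas for the final statements
-/

set_option autoImplicit false

universe w u

open CategoryTheory MonoidalCategory CartesianMonoidalCategory MonObj GrpObj AlgebraicGeometry Limits MvPolynomial

namespace K525.Stmt

open K520.Frob K520.FrP

variable {k : Type u} [Field k] [Finite k]

theorem frP_of {p : ℕ} (hk : Nat.card k = p) (P : Polynomial ℤ) (X : Over (Spec (CommRingCat.of k))) [GrpObj X] [IsCommMonObj X]
    (π : X ⟶ X) [IsMonHom π] (hb : π.left.base = 𝟙 _) (hle : ∀ U : X.left.Opens, U ≤ π.left ⁻¹ᵁ U)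
    (happ : ∀ (U : X.left.Opens) (s : Γ(X.left, U)), (π.left.appLE U U (hle U)).hom s = s ^ p)
    (hP : Polynomial.aeval (EndAV.End.of π) P = 0) : FrP k P X := by
  refine frP_of_hyps π hb hle (fun U s => by rw [happ U s, hk]) ?_
  rw [Polynomial.aeval_def] at hP
  refine Eq.trans ?_ hP
  congr 1
  exact RingHom.ext_int _ _

theorem aeval_of (P : Polynomial ℤ) (X : Over (Spec (CommRingCat.of k))) [GrpObj X] [IsCommMonObj X]
    (π : X ⟶ X) [hm : IsMonHom π] (h : IsFrob (Nat.card k) π.left) (hP : FrP k P X) :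
    Polynomial.aeval (EndAV.End.of π) P = 0 := by
  obtain rfl := eq_fr k X π h
  rw [Polynomial.aeval_def]
  refine Eq.trans ?_ hP
  congr 1
  exact RingHom.ext_int _ _

end K525.Stmt
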